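import Cfsg.Agent.Lib.PGroup.TurullFix.Rank
import Cfsg.Agent.Lib.PGroup.HallHighmanFrob
import Cfsg.Agent.Lib.PGroup.ShultGross.Main

/-!
Operators of odd order on a symplectic group over the field of two elements with a small commutator
with an operator of prime order.
-/

set_option autoImplicit false
set_option linter.style.haveILetI false
set_option linter.unusedSectionVars false

namespace CfsgLib.PGroup.TurullFix

open CfsgLib.PGroup
open Subgroup
open scoped commutatorElement BigOperators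

universe u v w

/-- The order of a non-degenerate alternating group of exponent two is a square. -/
theorem square_card {E : Type u} [CommGroup E] [Finite E] {k : Type v} [Field k] (hexp : ∀ v : E, v * v = 1)
    (c : E → E → k) (hl : ∀ x y z, c (x * y) z = c x z * c y z)
    (hr : ∀ x y z, c x (y * z) = c x y * c x z) (halt : ∀ x, c x x = 1)
    (hone : ∀ x, c x 1 = 1 ∧ c 1 x = 1) :
    ∀ (V : Subgroup E), (∀ x ∈ V, (∀ y ∈ V, c x y = 1) → x = 1) → ∃ l, Nat.card V = l * l := by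
  classical
  intro V
  induction hn : Nat.card V using Nat.strong_induction_on generalizing V with
  | _ n ih =>
  intro hnd
  subst hn
  by_cases hV : V = ⊥
  · exact ⟨1, by rw [hV, Subgroup.card_bot]⟩
  obtain ⟨x, hx, hx1⟩ := V.bot_or_exists_ne_one.resolve_left hV
  obtain ⟨y, hy, hxy⟩ : ∃ y ∈ V, c x y ≠ 1 := by
    by_contra hc
    push Not at hc
    exact hx1 (hnd x hx hc)
  have hsym : ∀ u v, c u v * c v u = 1 := fun u v => by
    have h := halt (u * v)
    rw [hl, hr, hr, halt, halt, one_mul, mul_one] at h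
    exact h
  have hsq : ∀ u v, c u v = 1 ∨ c u v = -1 := fun u v => by
    refine sq_eq_one_iff.1 ?_
    rw [sq, ← hr, hexp, (hone u).1]
  have hm1 : c x y = -1 := (hsq x y).resolve_left hxy
  have hyx : c y x = -1 := by
    have h := hsym x y
    rw [hm1, neg_one_mul, neg_eq_iff_eq_neg] at h
    exact h
  let V' : Subgroup E :=
    { carrier := {v | v ∈ V ∧ c x v = 1 ∧ c y v = 1}
      one_mem' := ⟨one_mem V, (hone x).1, (hone y).1⟩
      mul_mem' := fun {a b} ha hb => ⟨mul_mem ha.1 hb.1, by rw [hr, ha.2.1, hb.2.1, one_mul],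
        by rw [hr, ha.2.2, hb.2.2, one_mul]⟩
      inv_mem' := fun {a} ha => by
        rw [inv_eq_of_mul_eq_one_right (hexp a)]
        exact ha }
  have h11 : (1 : k) ≠ -1 := fun e => hxy (by rw [hm1, ← e])
  have hsplit : ∀ v ∈ V, ∃ v' ∈ V', ∃ i j : Bool, v = v' * ((if i then x else 1) * (if j then y else 1)) := by
    intro v hv
    rcases hsq x v with h1 | h1 <;> rcases hsq y v with h2 | h2
    · exact ⟨v, ⟨hv, h1, h2⟩, false, false, by simp⟩
    · exact ⟨v * x, ⟨mul_mem hv hx, by rw [hr, h1, halt, one_mul], by rw [hr, h2, hyx]; norm_num⟩,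
        true, false, by simp [mul_assoc, hexp]⟩
    · exact ⟨v * y, ⟨mul_mem hv hy, by rw [hr, h1, hm1]; norm_num, by rw [hr, h2, halt, one_mul]⟩,
        false, true, by simp [mul_assoc, hexp]⟩
    · refine ⟨v * (x * y), ⟨mul_mem hv (mul_mem hx hy), by rw [hr, hr, h1, halt, hm1]; norm_num,
        by rw [hr, hr, h2, halt, hyx]; norm_num⟩, true, true, ?_⟩
      simp [mul_assoc, hexp]
  let F : V' × Bool × Bool → V := fun z => ⟨(z.1 : E) * ((if z.2.1 then x else 1) * (if z.2.2 then y else 1)),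
    mul_mem z.1.2.1 (mul_mem (by split <;> simp [hx, one_mem]) (by split <;> simp [hy, one_mem]))⟩
  have hF : Function.Bijective F := by
    refine ⟨fun z z' h => ?_, fun v => ?_⟩
    · have h' := congrArg Subtype.val h
      obtain ⟨⟨v, hv⟩, i, j⟩ := z
      obtain ⟨⟨v', hv'⟩, i', j'⟩ := z'
      simp only [F] at h'
      have e1 := congrArg (c x) h'
      have e2 := congrArg (c y) h'
      rw [hr, hr, hr, hr, hv.2.1, hv'.2.1] at e1
      rw [hr, hr, hr, hr, hv.2.2, hv'.2.2] at e2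
      have hx' : ∀ b : Bool, c x (if b then x else 1) = 1 := fun b => by
        cases b
        · exact (hone x).1
        · exact halt x
      have hxy' : ∀ b : Bool, c x (if b then y else 1) = if b then -1 else 1 := fun b => by
        cases b
        · exact (hone x).1
        · exact hm1
      have hy' : ∀ b : Bool, c y (if b then y else 1) = 1 := fun b => by
        cases b
        · exact (hone y).1
        · exact halt y
      have hyx' : ∀ b : Bool, c y (if b then x else 1) = if b then -1 else 1 := fun b => by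
        cases b
        · exact (hone y).1
        · exact hyx
      rw [hx', hx', hxy', hxy', one_mul, one_mul, one_mul, one_mul] at e1
      rw [hy', hy', hyx', hyx', mul_one, mul_one, one_mul, one_mul] at e2
      have hb : ∀ b b' : Bool, (if b then (-1 : k) else 1) = (if b' then -1 else 1) → b = b' := fun b b' h => by
        cases b <;> cases b'
        · rfl
        · exact absurd h h11
        · exact absurd h h11.symm
        · rfl
      have hij : i = i' ∧ j = j' := ⟨hb _ _ e2, hb _ _ e1⟩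
      obtain ⟨rfl, rfl⟩ := hij
      simp only [Prod.mk.injEq, Subtype.mk.injEq, and_true]
      exact mul_right_cancel h'
    · obtain ⟨v', hv', i, j, e⟩ := hsplit v v.2
      exact ⟨⟨⟨v', hv'⟩, i, j⟩, Subtype.ext e.symm⟩
  have hcard : Nat.card V = Nat.card V' * 4 := by
    rw [← Nat.card_congr (Equiv.ofBijective F hF), Nat.card_prod, Nat.card_prod]
    simp [Nat.card_eq_fintype_card]
  obtain ⟨l, hl'⟩ := ih (Nat.card V') (by rw [hcard]; have := Nat.card_pos (α := V'); omega) V' rfl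
    (fun v hv h => hnd v hv.1 fun w hw => by
      obtain ⟨w', hw', i, j, e⟩ := hsplit w hw
      have hvx : c v x = 1 := by have := hsym x v; rwa [hv.2.1, one_mul] at this
      have hvy : c v y = 1 := by have := hsym y v; rwa [hv.2.2, one_mul] at this
      rw [e, hr, hr, h w' hw', one_mul]
      split <;> split <;> simp [hvx, hvy, (hone v).1])
  exact ⟨2 * l, by rw [hcard, hl']; ring⟩

theorem sq_lt_two_pow (r : ℕ) : (r - 1) * (r - 1) < 2 ^ r := by
  induction r with
  | zero => simp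
  | succ r ih =>
    rcases r with _ | _ | _ | _ | r
    · simp
    · simp
    · simp
    · simp
    · simp only [Nat.add_sub_cancel] at ih ⊢
      rw [pow_succ]
      nlinarith

section Aut

variable {E : Type u} [CommGroup E] [Finite E]

local notation "F2" => AlgebraicClosure (ZMod 2)

theorem cast_ne_zero_two {n : ℕ} (h : ¬ 2 ∣ n) : (n : F2) ≠ 0 := by
  haveI : Fact (Nat.Prime 2) := ⟨Nat.prime_two⟩
  haveI : CharP F2 2 := charP_of_injective_algebraMap (algebraMap (ZMod 2) F2).injective 2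
  rwa [Ne, CharP.cast_eq_zero_iff F2 2]

/-- The subgroup of all `A v / v`. -/
def dRange (A : MulAut E) : Subgroup E :=
  ((A : E ≃* E).toMonoidHom / MonoidHom.id E).range

theorem mem_dRange (A : MulAut E) (v : E) : A v / v ∈ dRange A := ⟨v, rfl⟩

/-- A small commutator with `A` bounds the rank of `A - 1` on functions. -/
theorem rank_lt (hexp : ∀ v : E, v ^ 2 = 1) {A : MulAut E} {r : ℕ}
    (hA : Nat.card (dRange A) < 2 ^ r) :
    Module.finrank F2 (LinearMap.range (dRep F2 (MonoidHom.id (MulAut E)) A - 1)) < r := by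
  haveI : Fact (Nat.Prime 2) := ⟨Nat.prime_two⟩
  obtain ⟨hfd, -⟩ := finrank_addHom (V := E) hexp F2
  obtain ⟨hfdD, hcD⟩ := finrank_addHom (V := dRange A) (fun v => Subtype.ext (hexp v)) F2
  set ψ := dRep F2 (MonoidHom.id (MulAut E))
  let res : (Additive E →+ F2) →ₗ[F2] (Additive (dRange A) →+ F2) :=
    { toFun := fun f => f.comp (MonoidHom.toAdditive (dRange A).subtype)
      map_add' := fun _ _ => rfl
      map_smul' := fun _ _ => rfl }
  have hker : LinearMap.ker res ≤ LinearMap.ker (ψ A - 1) := by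
    intro f hf
    rw [LinearMap.mem_ker, LinearMap.sub_apply, Module.End.one_apply, sub_eq_zero]
    refine AddMonoidHom.ext fun v => ?_
    obtain ⟨v, rfl⟩ : ∃ w, Additive.ofMul w = v := ⟨v.toMul, rfl⟩
    rw [dRep_apply]
    set w := (MonoidHom.id (MulAut E)) A⁻¹ v with hw
    have h0 : f (Additive.ofMul (A w / w)) = 0 :=
      DFunLike.congr_fun (LinearMap.mem_ker.1 hf) (Additive.ofMul (⟨_, mem_dRange A w⟩ : dRange A))
    rw [ofMul_div, map_sub, sub_eq_zero] at h0
    rw [← h0, hw, MonoidHom.id_apply, MulAut.apply_inv_self]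
  have h1 := LinearMap.finrank_range_add_finrank_ker res
  have h2 := LinearMap.finrank_range_add_finrank_ker (ψ A - 1)
  have h3 := Submodule.finrank_mono hker
  have h4 := Submodule.finrank_le (LinearMap.range res)
  have h5 : Module.finrank F2 (Additive (dRange A) →+ F2) < r := by
    rw [hcD] at hA
    exact (Nat.pow_lt_pow_iff_right one_lt_two).1 hA
  omega

variable {k : Type v} [Field k]

/-- An abelian group of operators inverted into itself by `A` is trivial. -/
theorem abelian_trivial (hexp : ∀ v : E, v ^ 2 = 1) (c : E → E → k)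
    (hl : ∀ x y z, c (x * y) z = c x z * c y z) (hr' : ∀ x y z, c x (y * z) = c x y * c x z)
    (halt : ∀ x, c x x = 1) (hnd : ∀ x, (∀ y, c x y = 1) → x = 1)
    {A : MulAut E} {r : ℕ} (hr : r.Prime) (hr3 : 3 ≤ r) (hAr : A ^ r = 1)
    (hA : Nat.card (dRange A) < 2 ^ r)
    (Y : Subgroup (MulAut E)) (hY2 : ¬ 2 ∣ Nat.card Y) (hcomm : ∀ f ∈ Y, ∀ g ∈ Y, f * g = g * f)
    (hc : ∀ f ∈ Y, ∀ x y, c (f x) (f y) = c x y)
    (hAY : A ∈ normalizer (Y : Set (MulAut E))) (hYA : Y ≤ aComm Y A) : Y = ⊥ := by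
  classical
  haveI : Fact (Nat.Prime 2) := ⟨Nat.prime_two⟩
  have hexp' : ∀ v : E, v * v = 1 := fun v => by rw [← sq, hexp]
  have hone : ∀ x, c x 1 = 1 ∧ c 1 x = 1 := by
    intro x
    have h0 : ∀ a b, c a b ≠ 0 := fun a b h => by
      have h1 : c a b * c a b = c a 1 := by rw [← hr', hexp']
      have h2 : c a 1 = c a a * c a a := by rw [← hr', hexp']
      rw [h, zero_mul, h2, halt, one_mul] at h1
      exact zero_ne_one h1
    refine ⟨mul_left_cancel₀ (h0 x 1) (a := c x 1) ?_, mul_left_cancel₀ (h0 1 x) (a := c 1 x) ?_⟩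
    · rw [← hr', mul_one, mul_one]
    · rw [← hl, one_mul, mul_one]
  -- `E' = [E, Y]`
  let E' : Subgroup E := closure {x | ∃ f ∈ Y, ∃ v, f v / v = x}
  haveI := Fintype.ofFinite Y
  have hdec : ∀ v : E, ∃ w ∈ E', ∀ f ∈ Y, f (v * w⁻¹) = v * w⁻¹ := by
    intro v
    refine ⟨(∏ g : Y, (g : MulAut E) v / v)⁻¹, inv_mem (prod_mem fun g _ => subset_closure ⟨g, g.2, v, rfl⟩),
      fun f hf => ?_⟩
    rw [inv_inv]
    have e : v * ∏ g : Y, (g : MulAut E) v / v = ∏ g : Y, (g : MulAut E) v := by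
      rw [Finset.prod_div_distrib, Finset.prod_const, Finset.card_univ]
      obtain ⟨m, hm⟩ : Odd (Fintype.card Y) := by
        rw [← Nat.card_eq_fintype_card]
        exact Nat.not_even_iff_odd.1 fun h => hY2 h.two_dvd
      rw [hm, pow_succ, pow_mul, hexp, one_pow, one_mul, mul_div_cancel]
    rw [e, map_prod]
    exact Fintype.prod_equiv (Equiv.mulLeft (⟨f, hf⟩ : Y)) _ _ fun g => rfl
  have horth : ∀ x ∈ E', ∀ u, (∀ f ∈ Y, f u = u) → c x u = 1 := by
    intro x hx u hu
    induction hx using closure_induction with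
    | mem x hx =>
      obtain ⟨f, hf, v, rfl⟩ := hx
      have e1 : c (f v) u = c v u := by
        conv_lhs => rw [← hu f hf]
        exact hc f hf v u
      rw [div_eq_mul_inv, hl, e1, ← hl, mul_inv_cancel, (hone u).2]
    | one => exact (hone u).2
    | mul a b _ _ ha hb => rw [hl, ha, hb, one_mul]
    | inv a _ ha => rwa [inv_eq_of_mul_eq_one_right (hexp' a)]
  obtain ⟨l, hl'⟩ := square_card hexp' c hl hr' halt hone E' fun x hx h => hnd x fun y => by
    obtain ⟨w, hw, hfix⟩ := hdec y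
    rw [show y = (y * w⁻¹) * w by group, hr', horth x hx _ hfix, h w hw, one_mul]
  -- the stabiliser of `E'`
  let N : Subgroup (MulAut E) :=
    { carrier := {f | E'.map (f : E ≃* E).toMonoidHom = E'}
      one_mem' := Subgroup.map_id E'
      mul_mem' := fun {f g} hf hg => by
        show E'.map ((f * g : MulAut E) : E ≃* E).toMonoidHom = E'
        conv_rhs => rw [← hf, ← hg, Subgroup.map_map]
        rfl
      inv_mem' := fun {f} hf => by
        show E'.map ((f⁻¹ : MulAut E) : E ≃* E).toMonoidHom = E'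
        conv_lhs => rw [← hf, Subgroup.map_map]
        convert Subgroup.map_id E'
        exact MonoidHom.ext fun v => MulAut.inv_apply_self E f v }
  have hNmem : ∀ f : MulAut E, (∀ g ∈ Y, ∀ v, f (g v / v) ∈ E') → f ∈ N := by
    intro f hf
    refine eq_of_le_of_card_ge ?_ (card_map_of_injective f.injective).ge
    rw [Subgroup.map_le_iff_le_comap, closure_le]
    rintro x ⟨g, hg, v, rfl⟩
    exact hf g hg v
  have hYN : Y ≤ N := fun f hf => hNmem f fun g hg v => by
    rw [show f (g v / v) = (g (f v)) / f v by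
      rw [map_div, ← MulAut.mul_apply, hcomm f hf g hg]; rfl]
    exact subset_closure ⟨g, hg, f v, rfl⟩
  have hAN : A ∈ N := hNmem A fun g hg v => by
    refine subset_closure ⟨A * g * A⁻¹, (mem_normalizer_iff.1 hAY g).1 hg, A v, ?_⟩
    rw [map_div]
    show A (g (A⁻¹ (A v))) / A v = _
    rw [MulAut.inv_apply_self]
  let cN : N →* MulAut E' :=
    { toFun := fun f => ((f.1 : E ≃* E).subgroupMap E').trans (MulEquiv.subgroupCongr f.2)
      map_one' := MulEquiv.ext fun _ => Subtype.ext rfl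
      map_mul' := fun _ _ => MulEquiv.ext fun _ => Subtype.ext rfl }
  have hcN : ∀ (f : N) (v : E'), ((cN f v : E') : E) = (f : MulAut E) v := fun f v => rfl
  obtain ⟨hfd, hcard⟩ := finrank_addHom (V := E') (fun v => Subtype.ext (hexp v)) F2
  let ψ : N →* Module.End F2 (Additive E' →+ F2) := dRep F2 cN
  let Y' : Subgroup N := Y.subgroupOf N
  haveI := Fintype.ofFinite Y'
  have hY' : ImgComm ψ Y' := fun f hf g hg => by
    congr 1; exact Subtype.ext (hcomm f hf g hg)
  have hYk : (Fintype.card Y' : F2) ≠ 0 := by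
    rw [← Nat.card_eq_fintype_card, Nat.card_congr (subgroupOfEquivOfLe hYN).toEquiv]
    exact cast_ne_zero_two hY2
  have hAY' : (⟨A, hAN⟩ : N) ∈ normalizer (Y' : Set N) := by
    rw [mem_normalizer_iff]
    exact fun y => mem_normalizer_iff.1 hAY (y : MulAut E)
  have hA1 : ∀ χ : Y' →* F2ˣ, twist Y' hAY' χ = χ → χ = 1 := by
    intro χ h
    refine MonoidHom.ext fun y => ?_
    let K : Subgroup (MulAut E) := (MonoidHom.ker χ).map ((N.subtype).comp Y'.subtype)
    have hK : aComm Y A ≤ K := by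
      rw [aComm, closure_le]
      rintro x ⟨τ, hτ, rfl⟩
      have hτ' : A * τ * A⁻¹ ∈ Y := (mem_normalizer_iff.1 hAY τ).1 hτ
      refine ⟨(⟨⟨τ, hYN hτ⟩, hτ⟩ : Y')⁻¹ * ⟨⟨A * τ * A⁻¹, hYN hτ'⟩, hτ'⟩, ?_, rfl⟩
      have h2 := DFunLike.congr_fun h (⟨⟨A * τ * A⁻¹, hYN hτ'⟩, hτ'⟩ : Y')
      rw [twist_apply] at h2
      rw [SetLike.mem_coe, MonoidHom.mem_ker, map_mul, map_inv, ← h2, inv_mul_eq_one]
      exact congrArg χ (Subtype.ext (Subtype.ext (by simp [mul_assoc])))
    obtain ⟨z, hz, hzy⟩ := hK (hYA y.2)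
    rw [← show z = y from Subtype.ext (Subtype.ext hzy)]
    exact hz
  have hone' : ∀ f, IsEigen ψ Y' 1 f → f = 0 := by
    intro f hf
    let K : Subgroup E :=
      { carrier := {x | ∃ hx : x ∈ E', f (Additive.ofMul ⟨x, hx⟩) = 0}
        one_mem' := ⟨one_mem _, by
          rw [show (⟨1, one_mem E'⟩ : E') = 1 from rfl, ofMul_one, map_zero]⟩
        mul_mem' := fun {a b} ⟨ha, ha'⟩ ⟨hb, hb'⟩ => ⟨mul_mem ha hb, by
          rw [show (⟨a * b, mul_mem ha hb⟩ : E') = ⟨a, ha⟩ * ⟨b, hb⟩ from rfl, ofMul_mul, map_add, ha', hb',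
            add_zero]⟩
        inv_mem' := fun {a} ⟨ha, ha'⟩ => ⟨inv_mem ha, by
          rw [show (⟨a⁻¹, inv_mem ha⟩ : E') = ⟨a, ha⟩⁻¹ from rfl, ofMul_inv, map_neg, ha', neg_zero]⟩ }
    suffices hK : E' ≤ K by
      refine AddMonoidHom.ext fun v => ?_
      obtain ⟨hx, hx'⟩ := hK v.toMul.2
      exact hx'
    rw [closure_le]
    rintro x ⟨g, hg, v, rfl⟩
    obtain ⟨w, hw, hfix⟩ := hdec v
    have e : g v / v = g w / w := by
      have h1 := hfix g hg
      rw [map_mul, map_inv, ← div_eq_mul_inv, ← div_eq_mul_inv, div_eq_div_iff_mul_eq_mul] at h1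
      rw [div_eq_div_iff_mul_eq_mul, h1, mul_comm]
    have hgw : g w ∈ E' := by
      have : E'.map (g : E ≃* E).toMonoidHom = E' := hYN hg
      exact this.le (mem_map_of_mem _ hw)
    refine ⟨e ▸ div_mem hgw hw, ?_⟩
    have h2 := congrArg (fun F : Additive E' →+ F2 => F (Additive.ofMul ⟨g w, hgw⟩))
      (hf ⟨⟨g, hYN hg⟩, hg⟩)
    simp only [MonoidHom.one_apply, Units.val_one, one_smul] at h2
    rw [dRep_apply] at h2
    rw [show (⟨g v / v, _⟩ : E') = (⟨g w, hgw⟩ : E') / ⟨w, hw⟩ from Subtype.ext e, ofMul_div, map_sub,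
      sub_eq_zero, ← h2]
    congr 2
    exact Subtype.ext (MulAut.inv_apply_self E g w)
  obtain ⟨hlow, hd0⟩ := orbit_count ψ Y' hY' hYk hr (⟨A, hAN⟩ : N) (Subtype.ext hAr) hAY' hA1 hone'
  set m := Module.finrank F2 (Additive E' →+ F2)
  set d := Module.finrank F2 (LinearMap.ker (ψ (⟨A, hAN⟩ : N) - 1))
  have hm2 : Even m := by
    obtain ⟨i, -, hi⟩ := (Nat.dvd_prime_pow Nat.prime_two).1 (Dvd.intro l (hcard ▸ hl').symm)
    refine ⟨i, Nat.pow_right_injective le_rfl ?_⟩
    show 2 ^ m = 2 ^ (i + i)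
    rw [← hcard, hl', hi, pow_add]
  have hup : m < r + d := by
    let D' : Subgroup E' := (dRange A).subgroupOf E'
    obtain ⟨hfdD, hcD⟩ := finrank_addHom (V := D') (fun v => Subtype.ext (Subtype.ext (hexp v.1.1))) F2
    let res : (Additive E' →+ F2) →ₗ[F2] (Additive D' →+ F2) :=
      { toFun := fun f => f.comp (MonoidHom.toAdditive D'.subtype)
        map_add' := fun _ _ => rfl
        map_smul' := fun _ _ => rfl }
    have hker : LinearMap.ker res ≤ LinearMap.ker (ψ (⟨A, hAN⟩ : N) - 1) := by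
      intro f hf
      rw [LinearMap.mem_ker, LinearMap.sub_apply, Module.End.one_apply, sub_eq_zero]
      refine AddMonoidHom.ext fun v => ?_
      obtain ⟨v, rfl⟩ : ∃ w, Additive.ofMul w = v := ⟨v.toMul, rfl⟩
      rw [dRep_apply]
      set w := cN (⟨A, hAN⟩ : N)⁻¹ v with hw
      have hmem : cN ⟨A, hAN⟩ w / w ∈ D' := mem_dRange A (w : E)
      have h0 : f (Additive.ofMul (cN ⟨A, hAN⟩ w / w)) = 0 :=
        DFunLike.congr_fun (LinearMap.mem_ker.1 hf) (Additive.ofMul (⟨_, hmem⟩ : D'))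
      rw [ofMul_div, map_sub, sub_eq_zero] at h0
      rw [← h0, hw, map_inv, MulAut.apply_inv_self]
    have h1 := LinearMap.finrank_range_add_finrank_ker res
    have h3 := Submodule.finrank_mono hker
    have h4 := Submodule.finrank_le (LinearMap.range res)
    have h5 : Module.finrank F2 (Additive D' →+ F2) < r := by
      refine (Nat.pow_lt_pow_iff_right one_lt_two).1 (lt_of_le_of_lt ?_ hA)
      rw [← hcD]
      refine Nat.card_le_card_of_injective (fun v : D' => (⟨(v.1 : E), v.2⟩ : dRange A)) fun a b h => ?_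
      exact Subtype.ext (Subtype.ext (congrArg (fun z : dRange A => (z : E)) h))
    omega
  have hm0 : m = 0 := by
    by_contra hm0
    have hd := hd0 hm0
    obtain ⟨l', hl''⟩ := hm2
    obtain ⟨r', hr'⟩ := hr.odd_of_ne_two (by omega)
    rcases Nat.lt_or_ge 1 d with h | h
    · have : r * 2 ≤ r * d := Nat.mul_le_mul_left r h
      nlinarith
    · have hd1 : d = 1 := by omega
      rw [hd1] at hlow hup
      omega
  rw [eq_bot_iff]
  intro f hf
  rw [mem_bot]
  refine MulEquiv.ext fun v => ?_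
  have h : f v / v ∈ E' := subset_closure ⟨f, hf, v, rfl⟩
  rw [show E' = ⊥ from card_eq_one.1 (by rw [hcard, hm0, pow_zero]), mem_bot, div_eq_one] at h
  exact h

/-- A class-two group of operators of odd order inverted into itself by `A` is trivial. -/
theorem classTwo_trivial (hexp : ∀ v : E, v ^ 2 = 1) (c : E → E → k)
    (hl : ∀ x y z, c (x * y) z = c x z * c y z) (hr' : ∀ x y z, c x (y * z) = c x y * c x z)
    (halt : ∀ x, c x x = 1) (hnd : ∀ x, (∀ y, c x y = 1) → x = 1)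
    {A : MulAut E} {r t : ℕ} (hr : r.Prime) (hr3 : 3 ≤ r) (hAr : A ^ r = 1)
    (hA : Nat.card (dRange A) < 2 ^ r)
    (ht : t.Prime) (ht2 : t ≠ 2) (htr : t ≠ r) (T T0 : Subgroup (MulAut E)) (hT : IsPGroup t T)
    (hT0 : T0 ≤ T) (hab : ⁅T, T⁆ ≤ T0) (hcent : ∀ f ∈ T0, ∀ g ∈ T, Commute f g)
    (hAT : A ∈ normalizer (T : Set (MulAut E))) (hAT0 : A ∈ normalizer (T0 : Set (MulAut E)))
    (hc : ∀ f ∈ T, ∀ x y, c (f x) (f y) = c x y) : aComm T A = ⊥ := by
  classical
  haveI : Fact (Nat.Prime 2) := ⟨Nat.prime_two⟩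
  haveI : Fact t.Prime := ⟨ht⟩
  set S := aComm T A with hS
  have hST : S ≤ T := aComm_le hAT
  have hcard : ∀ Y : Subgroup (MulAut E), Y ≤ T → ¬ 2 ∣ Nat.card Y := by
    intro Y hY
    obtain ⟨n, hn⟩ := IsPGroup.iff_card.1 (hT.to_le hY)
    rw [hn]
    intro h
    exact ht2 ((Nat.prime_dvd_prime_iff_eq Nat.prime_two ht).1 (Nat.prime_two.dvd_of_dvd_pow h)).symm
  have hidem : ∀ U : Subgroup (MulAut E), U ≤ T → A ∈ normalizer (U : Set (MulAut E)) →
      aComm U A ≤ aComm (aComm U A) A := by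
    intro U hU hAU
    rw [aComm_eq (isOfFinOrder_of_finite A) hAU,
      aComm_eq (isOfFinOrder_of_finite A) (aComm_eq (isOfFinOrder_of_finite A) hAU ▸
        Conf.mem_normalizer_aComm hAU),
      CfsgLib.Coprime.commutator_commutator_eq (zpowers_le.2 hAU) ?_
        (Or.inl (CfsgLib.Coprime.isSolvable_of_isMulCommutative inferInstance))]
    obtain ⟨n, hn⟩ := IsPGroup.iff_card.1 (hT.to_le hU)
    rw [Nat.card_zpowers, hn]
    exact Nat.Coprime.pow_right n ((((Nat.coprime_primes hr ht).2 htr.symm)).coprime_dvd_left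
      (orderOf_dvd_of_pow_eq_one hAr))
  have hAS : A ∈ normalizer (S : Set (MulAut E)) := Conf.mem_normalizer_aComm hAT
  have hSS : S ≤ aComm S A := hidem T le_rfl hAT
  have hY : ∀ U : Subgroup (MulAut E), U ≤ T → A ∈ normalizer (U : Set (MulAut E)) →
      (∀ f ∈ aComm U A, ∀ g ∈ aComm U A, f * g = g * f) → aComm U A = ⊥ := by
    intro U hU hAU hcm
    have hle : aComm U A ≤ T := (aComm_le hAU).trans hU
    exact abelian_trivial hexp c hl hr' halt hnd hr hr3 hAr hA _ (hcard _ hle) hcm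
      (fun f hf => hc f (hle hf)) (Conf.mem_normalizer_aComm hAU) (hidem U hU hAU)
  by_cases habS : ∀ f ∈ S, ∀ g ∈ S, f * g = g * f
  · exact hY T le_rfl hAT habS
  push Not at habS
  obtain ⟨f₀, hf₀, g₀, hg₀, hne₀⟩ := habS
  exfalso
  have hT0fix : ∀ f ∈ T0, A * f * A⁻¹ = f := by
    intro f hf
    have h := hY T0 hT0 hAT0 fun x hx y hy => hcent x (aComm_le hAT0 hx) y (hT0 (aComm_le hAT0 hy))
    have h2 := aComm_mem (a := A) hf
    rw [h, mem_bot, inv_mul_eq_one] at h2
    exact h2.symm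
  -- the representation
  obtain ⟨hfd, -⟩ := finrank_addHom (V := E) hexp F2
  set ψ := dRep F2 (MonoidHom.id (MulAut E)) with hψ
  set Z := S ⊓ T0 with hZ
  have C : Conf ψ A r S Z t :=
    { hr := hr
      har := hAr
      hrk := cast_ne_zero_two fun h => by
        have := (Nat.prime_dvd_prime_iff_eq Nat.prime_two hr).1 h
        omega
      hq := ht
      hqk := cast_ne_zero_two fun h => ht2 ((Nat.prime_dvd_prime_iff_eq Nat.prime_two ht).1 h).symm
      hrq := htr.symm
      hP := hT.to_le hST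
      haP := hAS
      haP0 := CfsgLib.Coprime.inf_le_normalizer (zpowers_le.2 hAS) (zpowers_le.2 hAT0) (mem_zpowers A)
      hle := inf_le_left
      hab := le_inf ((commutator_le).2 fun x hx y hy => by
          rw [commutatorElement_def]; exact mul_mem (mul_mem (mul_mem hx hy) (inv_mem hx)) (inv_mem hy))
        ((commutator_mono hST hST).trans hab)
      hcent := fun z hz x hx => hcent z (mem_inf.1 hz).2 x (hST hx)
      hfaith := fun x _ hx => eq_one_of_dRep (l := 2) hexp (MonoidHom.id (MulAut E)) hx }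
  set z₀ := ⁅f₀, g₀⁆ with hz₀
  have hz₀Z : z₀ ∈ Z := C.comm_mem hf₀ hg₀
  have hz₀1 : z₀ ≠ 1 := fun h => hne₀ (commutatorElement_eq_one_iff_commute.1 h).eq
  have hD : ψ z₀ - 1 ≠ 0 := fun h => hz₀1 (C.hfaith z₀ (C.hle hz₀Z) (sub_eq_zero.1 h))
  obtain ⟨χ, w₀, -, hw₀, hDw₀⟩ := exists_eig (ρ := ψ) (Y := Z) (C.card_ne_zero C.hle) (U := ⊤)
    (fun _ _ _ _ => Submodule.mem_top)
    (fun u hu v hv w _ => by rw [(C.hcent u hu v (C.hle hv)).eq]) (ψ z₀ - 1)
    (fun _ _ => Submodule.mem_top)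
    (fun z hz w _ => by
      rw [LinearMap.sub_apply, LinearMap.sub_apply, Module.End.one_apply, Module.End.one_apply, map_sub,
        ← rep_mul_apply, ← rep_mul_apply, (C.hcent z hz z₀ (C.hle hz₀Z)).eq])
    (by
      by_contra hc'
      push Not at hc'
      exact hD (LinearMap.ext fun w => hc' w Submodule.mem_top))
  have hw₀0 : w₀ ≠ 0 := fun h => hDw₀ (by rw [h, map_zero])
  have hχ : HomOn Z χ := hw₀.homOn hw₀0
  have hχz : χ z₀ ≠ 1 := fun h => hDw₀ (by
    rw [LinearMap.sub_apply, Module.End.one_apply, hw₀ z₀ hz₀Z, h, one_smul, sub_self])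
  set R := Rad C hχ with hR
  have hkeep : ∀ v, Eig ψ Z χ v → ∀ p ∈ S, Eig ψ Z χ (ψ p v) := fun v hv p hp z hz => by
    rw [← rep_mul_apply, (C.hcent z hz p hp).eq, rep_mul_apply, hv z hz, map_smul]
  have hcommR : ∀ g ∈ R, ∀ p ∈ S, ∀ v, Eig ψ Z χ v → ψ (g * p) v = ψ (p * g) v := by
    intro g hg p hp v hv
    rw [show g * p = (p * g) * ⁅g, p⁆ by
      rw [← (C.hcent _ (C.comm_mem hg.1 hp) _ (mul_mem hp hg.1)).eq, commutatorElement_def]; group,
      rep_mul_apply, hv _ (C.comm_mem hg.1 hp), hg.2 p hp, one_smul]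
  obtain ⟨φ, w, hwU, hw, hw0'⟩ := exists_eig (ρ := ψ) (Y := R) (C.card_ne_zero fun g hg => hg.1)
    (U := eigSub ψ Z χ) (fun g hg v hv => hkeep v hv g hg.1)
    (fun g hg g' hg' v hv => hcommR g hg g' hg'.1 v hv) 1
    (fun v hv => hv) (fun g hg v hv => rfl) ⟨w₀, hw₀, hw₀0⟩
  have hw0 : w ≠ 0 := hw0'
  have hφχ : ∀ z ∈ Z, φ z = χ z := fun z hz =>
    smul_left_injective F2 hw0 ((hw z (P0_le_Rad C hχ hz)).symm.trans (hwU z hz))
  have hrank := rank_lt hexp hA
  rw [← hψ] at hrank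
  have hkeepR : ∀ g ∈ S, Eig ψ R φ (ψ g w) := fun g hg x hx => by
    rw [← rep_mul_apply, hcommR x hx g hg w hwU, rep_mul_apply, hw x hx, map_smul]
  have haR : A ∈ normalizer (R : Set (MulAut E)) := by
    rw [← CfsgLib.Coprime.conjBy_eq_self_iff]
    refine eq_of_le_of_card_ge (fun x hx => ?_) (CfsgLib.Coprime.card_conjBy _ _).ge
    rw [CfsgLib.Coprime.mem_conjBy] at hx
    refine ⟨?_, fun h hh => ?_⟩
    · have := (mem_normalizer_iff.1 hAS _).1 hx.1
      simpa [mul_assoc] using this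
    · have hh' : A⁻¹ * h * A ∈ S := (mem_normalizer_iff''.1 hAS h).1 hh
      rw [show ⁅x, h⁆ = A * ⁅A⁻¹ * x * A, A⁻¹ * h * A⁆ * A⁻¹ by simp only [commutatorElement_def]; group,
        hT0fix _ (mem_inf.1 (C.comm_mem hx.1 hh')).2]
      exact hx.2 _ hh'
  by_cases hfix : ∀ z ∈ R, φ (A * z * A⁻¹) = φ z
  · -- a fixed component
    have hφ0 : HomOn Z φ := (hw.homOn hw0).mono (P0_le_Rad C hχ)
    have hR' : R = Rad C hφ0 := by
      ext g
      refine and_congr_right fun hg => forall_congr' fun h => forall_congr' fun hh => ?_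
      rw [hφχ _ (C.comm_mem hg hh)]
    have K : IsComp C φ R := ⟨hφ0, hR', fun z hz => by rw [hT0fix z (mem_inf.1 hz).2], hfix, w, hw0, hw⟩
    have hne : ¬ S ≤ R := fun h => hχz ((h hf₀).2 g₀ hg₀)
    exact absurd hrank (not_lt.2 (K.rank_fixed C hSS ht2 hr3 hne))
  · -- a moved component
    push Not at hfix
    obtain ⟨z, hz, hzne⟩ := hfix
    have hmov : ∃ y ∈ R, φ (A⁻¹ * y * A) ≠ φ y := ⟨_, (mem_normalizer_iff.1 haR z).1 hz, by
      rw [show A⁻¹ * (A * z * A⁻¹) * A = z by group]; exact Ne.symm hzne⟩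
    obtain ⟨g, hg, hgR⟩ : ∃ g ∈ S, ¬ ∃ e : F2, ψ g w = e • w := by
      by_contra hc'
      push Not at hc'
      obtain ⟨e₁, he₁⟩ := hc' f₀ hf₀
      obtain ⟨e₂, he₂⟩ := hc' g₀ hg₀
      have hcomm' : ψ (f₀ * g₀) w = ψ (g₀ * f₀) w := by
        rw [rep_mul_apply, rep_mul_apply, he₁, he₂, map_smul, map_smul, he₁, he₂, smul_smul, smul_smul,
          mul_comm]
      refine hχz ?_
      rw [show f₀ * g₀ = (g₀ * f₀) * z₀ by
        rw [← (C.hcent z₀ hz₀Z _ (mul_mem hg₀ hf₀)).eq, hz₀, commutatorElement_def]; group,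
        rep_mul_apply, hwU z₀ hz₀Z, map_smul] at hcomm'
      exact smul_left_injective F2 (show ψ (g₀ * f₀) w ≠ 0 from fun h => hw0 (rep_injective ψ _
        (h.trans (map_zero _).symm))) (hcomm'.trans (one_smul _ _).symm)
    exact absurd hrank (not_lt.2 (rank_moved C (Y := R) (fun x hx => hx.1) haR hmov hw (hkeepR g hg) hw0 hgR))

end Aut

section Radical

variable {H : Type u} [Group H] [Finite H] {k : Type v} [Field k] [IsAlgClosed k] {W : Type w}
  [AddCommGroup W] [Module k W] [FiniteDimensional k W] {ρ : H →* Module.End k W}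
  {a : H} {r : ℕ} {P P0 : Subgroup H} {q : ℕ} (C : Conf ρ a r P P0 q)

/-- On an invisible component the commutator of `P` with `⁅T, a⁆` is scalar. -/
theorem IsComp.comm_le {φ : H → k} {R : Subgroup H} (K : IsComp C φ R) {t : ℕ} (ht : t.Prime)
    (htq : t ≠ q) (htr : t ≠ r) (T T0 : Subgroup H) (hT : IsPGroup t T) (hT0 : T0 ≤ T)
    (hab : ⁅T, T⁆ ≤ T0) (haT : a ∈ normalizer (T : Set H)) (haT0 : a ∈ normalizer (T0 : Set H))
    (hTP : T ≤ normalizer (P : Set H)) (hTc : ∀ τ ∈ T, ∀ z ∈ P0, Commute τ z)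
    (hT0c : ∀ τ ∈ T0, ∀ τ' ∈ T, ∀ x ∈ P, Commute ⁅τ, τ'⁆ x) (hpow : ∀ x ∈ P, x ^ q ∈ P0)
    (hexc : ¬ aComm P a ≤ R → q = 2 ∧ 3 ≤ r ∧ R.relIndex (aComm P a) = (r - 1) * (r - 1)) :
    ⁅P, aComm T a⁆ ≤ R := by
  classical
  have hRP := K.le C
  have hRn : (R.subgroupOf P).Normal :=
    ⟨fun x hx g => mem_subgroupOf.2 (K.conj_P_mem C g.2 (mem_subgroupOf.1 hx))⟩
  haveI := hRn
  letI : CommGroup (P ⧸ R.subgroupOf P) :=
    { QuotientGroup.Quotient.group (R.subgroupOf P) with
      mul_comm := fun a b => by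
        obtain ⟨x, rfl⟩ := QuotientGroup.mk_surjective a
        obtain ⟨y, rfl⟩ := QuotientGroup.mk_surjective b
        refine (QuotientGroup.eq (s := R.subgroupOf P)).2 ?_
        rw [mem_subgroupOf]
        show ((x : H) * y)⁻¹ * (y * x) ∈ R
        rw [show ((x : H) * y)⁻¹ * (y * x) = ⁅(y : H)⁻¹, (x : H)⁻¹⁆ by rw [commutatorElement_def]; group]
        exact K.P0_le C (C.comm_mem (inv_mem y.2) (inv_mem x.2)) }
  haveI : Finite (P ⧸ R.subgroupOf P) := Quotient.finite _
  let π : P →* (P ⧸ R.subgroupOf P) := QuotientGroup.mk' _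
  let N : Subgroup H := normalizer (P : Set H) ⊓ normalizer (R : Set H)
  let cj : N → P ≃* P := fun g =>
    { toFun := fun x => ⟨g * x * (g : H)⁻¹, (mem_normalizer_iff.1 g.2.1 _).1 x.2⟩
      invFun := fun x => ⟨(g : H)⁻¹ * x * g, (mem_normalizer_iff''.1 g.2.1 _).1 x.2⟩
      left_inv := fun x => Subtype.ext (by simp [mul_assoc])
      right_inv := fun x => Subtype.ext (by simp [mul_assoc])
      map_mul' := fun x y => Subtype.ext (by simp [mul_assoc]) }
  have hcj : ∀ g : N, (R.subgroupOf P).map (cj g : P →* P) = R.subgroupOf P := by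
    intro g
    refine eq_of_le_of_card_ge (map_le_iff_le_comap.2 fun x hx => ?_)
      (card_map_of_injective (cj g).injective).ge
    exact mem_subgroupOf.2 ((mem_normalizer_iff.1 g.2.2 _).1 (mem_subgroupOf.1 hx))
  let c : N →* MulAut (P ⧸ R.subgroupOf P) :=
    MonoidHom.mk' (fun g => QuotientGroup.congr _ _ (cj g) (hcj g)) fun g h => MulEquiv.ext fun m => by
      obtain ⟨x, rfl⟩ := QuotientGroup.mk_surjective m
      show QuotientGroup.mk (cj (g * h) x) = QuotientGroup.mk (cj g (cj h x))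
      congr 1
      exact Subtype.ext (by simp [cj, mul_assoc])
  have hc : ∀ (g : N) (x : P), c g (π x) = π (cj g x) := fun g x => rfl
  have hTR : T ≤ normalizer (R : Set H) := by
    intro τ hτ
    rw [← CfsgLib.Coprime.conjBy_eq_self_iff]
    refine eq_of_le_of_card_ge (fun x hx => ?_) (CfsgLib.Coprime.card_conjBy _ _).ge
    rw [CfsgLib.Coprime.mem_conjBy, K.hR] at hx
    rw [K.hR]
    have hxP : x ∈ P := by
      have := (mem_normalizer_iff.1 (hTP hτ) _).1 hx.1
      simpa [mul_assoc] using this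
    refine ⟨hxP, fun h hh => ?_⟩
    have hh' : τ⁻¹ * h * τ ∈ P := (mem_normalizer_iff''.1 (hTP hτ) h).1 hh
    rw [show ⁅x, h⁆ = τ * ⁅τ⁻¹ * x * τ, τ⁻¹ * h * τ⁆ * τ⁻¹ by simp only [commutatorElement_def]; group,
      (hTc τ hτ _ (C.comm_mem hx.1 hh')).eq, mul_inv_cancel_right]
    exact hx.2 _ hh'
  have hTN : T ≤ N := le_inf hTP hTR
  have haN : a ∈ N := ⟨C.haP, K.a_mem C⟩
  set A := c ⟨a, haN⟩ with hA
  let TE : Subgroup (MulAut (P ⧸ R.subgroupOf P)) := (T.subgroupOf N).map c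
  let T0E : Subgroup (MulAut (P ⧸ R.subgroupOf P)) := (T0.subgroupOf N).map c
  have hnorm : ∀ {U : Subgroup H}, a ∈ normalizer (U : Set H) →
      A ∈ normalizer ((U.subgroupOf N).map c : Set (MulAut (P ⧸ R.subgroupOf P))) := by
    intro U haU
    refine le_normalizer_map c (mem_map_of_mem c ?_)
    rw [mem_normalizer_iff]
    exact fun x => mem_normalizer_iff.1 haU (x : H)
  suffices h : aComm TE A = ⊥ by
    rw [commutator_le]
    intro g hg s hs
    have hsN : s ∈ N := hTN (aComm_le haT hs)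
    have hcs : c ⟨s, hsN⟩ = 1 := by
      let U : Subgroup H :=
        { carrier := {x | ∃ hx : x ∈ N, c ⟨x, hx⟩ = 1}
          one_mem' := ⟨one_mem N, map_one c⟩
          mul_mem' := fun {x y} ⟨hx, ex⟩ ⟨hy, ey⟩ => ⟨mul_mem hx hy, by
            rw [show (⟨x * y, _⟩ : N) = ⟨x, hx⟩ * ⟨y, hy⟩ from rfl, map_mul, ex, ey, one_mul]⟩
          inv_mem' := fun {x} ⟨hx, ex⟩ => ⟨inv_mem hx, by
            rw [show (⟨x⁻¹, _⟩ : N) = ⟨x, hx⟩⁻¹ from rfl, map_inv, ex, inv_one]⟩ }
      suffices hU : aComm T a ≤ U by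
        obtain ⟨hx, ex⟩ := hU hs
        exact ex
      rw [aComm, closure_le]
      rintro x ⟨τ, hτ, rfl⟩
      have hτN := hTN hτ
      refine ⟨mul_mem (inv_mem hτN) (mul_mem (mul_mem haN hτN) (inv_mem haN)), ?_⟩
      have h2 := aComm_mem (a := A) (show c ⟨τ, hτN⟩ ∈ TE from mem_map_of_mem c (mem_subgroupOf.2 hτ))
      rw [h, mem_bot, hA, ← map_inv, ← map_inv, ← map_mul, ← map_mul, ← map_mul] at h2
      exact h2
    have h1 := hc ⟨s, hsN⟩ ⟨g⁻¹, inv_mem hg⟩
    rw [hcs] at h1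
    have h2 := (QuotientGroup.eq (s := R.subgroupOf P)).1 h1
    rw [mem_subgroupOf] at h2
    rw [commutatorElement_def, show g * s * g⁻¹ * s⁻¹ = (g⁻¹)⁻¹ * (s * g⁻¹ * s⁻¹) by group]
    exact h2
  -- reduce to operators on `(P ⧸ R.subgroupOf P)`
  by_cases hM : aComm P a ≤ R
  · have hA1 : A = 1 := MulEquiv.ext fun v => by
      obtain ⟨x, rfl⟩ := QuotientGroup.mk_surjective v
      refine ((QuotientGroup.eq (s := R.subgroupOf P)).2 ?_).symm
      rw [mem_subgroupOf]
      exact hM (aComm_mem x.2)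
    rw [eq_bot_iff, aComm, closure_le]
    rintro x ⟨τ, -, rfl⟩
    simp [hA1]
  obtain ⟨hq2, hr3, hrel⟩ := hexc hM
  subst hq2
  let χ : (P ⧸ R.subgroupOf P) → (P ⧸ R.subgroupOf P) → k := fun u v => φ ⁅(u.out : H), (v.out : H)⁆
  have hχ : ∀ x y : P, χ (π x) (π y) = φ ⁅(x : H), (y : H)⁆ := by
    intro x y
    obtain ⟨⟨d, hd⟩, e⟩ := QuotientGroup.mk_out_eq_mul (R.subgroupOf P) x
    obtain ⟨⟨d', hd'⟩, e'⟩ := QuotientGroup.mk_out_eq_mul (R.subgroupOf P) y
    show φ ⁅((π x).out : H), ((π y).out : H)⁆ = _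
    rw [show (π x).out = x * d from e, show (π y).out = y * d' from e', Subgroup.coe_mul, Subgroup.coe_mul]
    have hdR : (d : H) ∈ Rad C K.hφ := K.hR ▸ mem_subgroupOf.1 hd
    have hdR' : (d' : H) ∈ Rad C K.hφ := K.hR ▸ mem_subgroupOf.1 hd'
    have hyd : (y : H) * d' ∈ P := mul_mem y.2 d'.2
    rw [C.comm_mul_left x.2 d.2 hyd, K.hφ.map_mul _ (C.comm_mem d.2 hyd) _ (C.comm_mem x.2 hyd),
      hdR.2 _ hyd, one_mul, C.comm_mul_right x.2 y.2 d'.2,
      K.hφ.map_mul _ (C.comm_mem x.2 y.2) _ (C.comm_mem x.2 d'.2)]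
    have h2 := K.hφ.map_mul _ (C.comm_mem d'.2 x.2) _ (C.comm_mem x.2 d'.2)
    rw [← commutatorElement_inv (x : H) d', inv_mul_cancel, K.hφ.map_one, commutatorElement_inv,
      hdR'.2 _ x.2, one_mul] at h2
    rw [← h2, mul_one]
  have hcardM : Nat.card (dRange (E := P ⧸ R.subgroupOf P) A) < 2 ^ r := by
    refine lt_of_le_of_lt ?_ (sq_lt_two_pow r)
    rw [← hrel]
    have hsub : dRange A ≤ ((aComm P a).subgroupOf P).map π := by
      rintro v ⟨u, rfl⟩
      obtain ⟨x, rfl⟩ := QuotientGroup.mk_surjective u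
      refine ⟨x⁻¹ * cj ⟨a, haN⟩ x, mem_subgroupOf.2 (aComm_mem x.2), ?_⟩
      rw [map_mul, map_inv, inv_mul_eq_div]
      rfl
    refine (card_le_of_le hsub).trans (le_of_eq ?_)
    rw [← Subgroup.relIndex_ker, QuotientGroup.ker_mk',
      ← Subgroup.relIndex_map_map_of_injective _ _ P.subtype_injective,
      map_subgroupOf_eq_of_le hRP, map_subgroupOf_eq_of_le (aComm_le C.haP)]
  refine classTwo_trivial (k := k) (fun v => ?_) χ ?_ ?_ ?_ ?_ C.hr hr3 ?_ hcardM ht htq htr TE T0E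
    ?_ (map_mono (fun x hx => hT0 hx)) ?_ ?_ (hnorm haT) (hnorm haT0) ?_
  · obtain ⟨x, rfl⟩ := QuotientGroup.mk_surjective v
    refine (QuotientGroup.eq_one_iff (x ^ 2)).2 (mem_subgroupOf.2 ?_)
    exact K.P0_le C (hpow x x.2)
  · intro u v z
    obtain ⟨x, rfl⟩ := QuotientGroup.mk'_surjective _ u
    obtain ⟨y, rfl⟩ := QuotientGroup.mk'_surjective _ v
    obtain ⟨z, rfl⟩ := QuotientGroup.mk'_surjective _ z
    rw [← map_mul, hχ, hχ, hχ, Subgroup.coe_mul, C.comm_mul_left x.2 y.2 z.2,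
      K.hφ.map_mul _ (C.comm_mem y.2 z.2) _ (C.comm_mem x.2 z.2), mul_comm]
  · intro u v z
    obtain ⟨x, rfl⟩ := QuotientGroup.mk'_surjective _ u
    obtain ⟨y, rfl⟩ := QuotientGroup.mk'_surjective _ v
    obtain ⟨z, rfl⟩ := QuotientGroup.mk'_surjective _ z
    rw [← map_mul, hχ, hχ, hχ, Subgroup.coe_mul, C.comm_mul_right x.2 y.2 z.2,
      K.hφ.map_mul _ (C.comm_mem x.2 y.2) _ (C.comm_mem x.2 z.2)]
  · intro u
    show φ ⁅(u.out : H), (u.out : H)⁆ = 1
    rw [commutatorElement_self, K.hφ.map_one]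
  · intro u h
    obtain ⟨x, rfl⟩ := QuotientGroup.mk_surjective u
    refine (QuotientGroup.eq_one_iff x).2 (mem_subgroupOf.2 ?_)
    rw [K.hR]
    refine ⟨x.2, fun y hy => ?_⟩
    rw [← hχ x ⟨y, hy⟩]
    exact h _
  · rw [hA, ← map_pow, show (⟨a, haN⟩ : N) ^ r = 1 from Subtype.ext C.har, map_one]
  · exact (hT.comap_of_injective _ (Subtype.val_injective)).map c
  · rw [← map_commutator]
    refine map_mono ?_
    rw [commutator_le]
    exact fun x hx y hy => hab (commutator_mem_commutator hx hy)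
  · rintro _ ⟨f, hf, rfl⟩ _ ⟨g, hg, rfl⟩
    refine commutatorElement_eq_one_iff_commute.1 ?_
    rw [← map_commutatorElement]
    refine MulEquiv.ext fun v => ?_
    obtain ⟨x, rfl⟩ := QuotientGroup.mk_surjective v
    show π (cj ⁅f, g⁆ x) = π x
    congr 1
    refine Subtype.ext ?_
    show ((⁅f, g⁆ : N) : H) * x * ((⁅f, g⁆ : N) : H)⁻¹ = x
    rw [show ((⁅f, g⁆ : N) : H) = ⁅(f : H), (g : H)⁆ from rfl,
      (hT0c (f : H) hf (g : H) hg x x.2).eq, mul_inv_cancel_right]
  · rintro _ ⟨f, hf, rfl⟩ u v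
    obtain ⟨x, rfl⟩ := QuotientGroup.mk'_surjective _ u
    obtain ⟨y, rfl⟩ := QuotientGroup.mk'_surjective _ v
    rw [hc, hc, hχ, hχ]
    show φ ⁅(f : H) * x * (f : H)⁻¹, (f : H) * y * (f : H)⁻¹⁆ = _
    rw [show ⁅(f : H) * x * (f : H)⁻¹, (f : H) * y * (f : H)⁻¹⁆ = f * ⁅(x : H), (y : H)⁆ * (f : H)⁻¹ by
      simp only [commutatorElement_def]; group, (hTc (f : H) hf _ (C.comm_mem x.2 y.2)).eq, mul_inv_cancel_right]

end Radical

end CfsgLib.PGroup.TurullFix
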