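import Mathlib.GroupTheory.PGroup
import Mathlib.GroupTheory.Commutator.Basic
import Mathlib.Algebra.BigOperators.GroupWithZero.Finset
import Cfsg.Agent.Lib.Coprime.Action
import Cfsg.Agent.Lib.PGroup.ShortTools

/-!
Operators of prime order on subgroups: norms, and functions that are multiplicative on a subgroup.
-/

set_option autoImplicit false
set_option linter.style.haveILetI false
set_option linter.unusedSectionVars false

namespace CfsgLib.PGroup.TurullFix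

open Subgroup
open scoped commutatorElement

universe u v

variable {H : Type u} [Group H]

/-- The subgroup generated by all `τ⁻¹ (a τ a⁻¹)`. -/
def aComm (T : Subgroup H) (a : H) : Subgroup H :=
  closure {x | ∃ τ ∈ T, τ⁻¹ * (a * τ * a⁻¹) = x}

theorem aComm_mem {T : Subgroup H} {a τ : H} (hτ : τ ∈ T) : τ⁻¹ * (a * τ * a⁻¹) ∈ aComm T a :=
  subset_closure ⟨τ, hτ, rfl⟩

theorem conj_pow_mem {T : Subgroup H} {a : H} (ha : a ∈ normalizer (T : Set H)) {τ : H} (hτ : τ ∈ T)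
    (i : ℕ) : a ^ i * τ * (a ^ i)⁻¹ ∈ T :=
  (mem_normalizer_iff.1 (pow_mem ha i) τ).1 hτ

theorem aComm_le {T : Subgroup H} {a : H} (ha : a ∈ normalizer (T : Set H)) : aComm T a ≤ T := by
  rw [aComm, closure_le]
  rintro x ⟨τ, hτ, rfl⟩
  exact mul_mem (inv_mem hτ) ((mem_normalizer_iff.1 ha τ).1 hτ)

theorem pow_comm_mem {T : Subgroup H} {a : H} (ha : a ∈ normalizer (T : Set H)) {τ : H} (hτ : τ ∈ T)
    (i : ℕ) : τ⁻¹ * (a ^ i * τ * (a ^ i)⁻¹) ∈ aComm T a := by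
  induction i with
  | zero => simp
  | succ i ih =>
    rw [show τ⁻¹ * (a ^ (i + 1) * τ * (a ^ (i + 1))⁻¹) = τ⁻¹ * (a ^ i * τ * (a ^ i)⁻¹) *
      ((a ^ i * τ * (a ^ i)⁻¹)⁻¹ * (a * (a ^ i * τ * (a ^ i)⁻¹) * a⁻¹)) by rw [pow_succ']; group]
    exact mul_mem ih (aComm_mem (conj_pow_mem ha hτ i))

theorem aComm_eq {T : Subgroup H} {a : H} (hao : IsOfFinOrder a) (ha : a ∈ normalizer (T : Set H)) :
    aComm T a = ⁅T, zpowers a⁆ := by
  refine le_antisymm ?_ ?_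
  · rw [aComm, closure_le]
    rintro x ⟨τ, hτ, rfl⟩
    rw [SetLike.mem_coe, show τ⁻¹ * (a * τ * a⁻¹) = ⁅τ⁻¹, a⁆ by rw [commutatorElement_def]; group]
    exact commutator_mem_commutator (inv_mem hτ) (mem_zpowers a)
  · rw [commutator_le]
    intro τ hτ b hb
    obtain ⟨i, rfl⟩ := (Submonoid.mem_powers_iff _ _).1 (hao.mem_powers_iff_mem_zpowers.2 hb)
    rw [show ⁅τ, a ^ i⁆ = (τ⁻¹)⁻¹ * (a ^ i * τ⁻¹ * (a ^ i)⁻¹) by rw [commutatorElement_def]; group]
    exact pow_comm_mem ha (inv_mem hτ) i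

theorem aComm_mono {S T : Subgroup H} (h : S ≤ T) (a : H) : aComm S a ≤ aComm T a :=
  closure_mono fun _ ⟨τ, hτ, e⟩ => ⟨τ, h hτ, e⟩

/-- `f n s` is the product of the first `n` translates of `s` by `a`. -/
def pnorm (a : H) (n : ℕ) (s : H) : H := (s * a) ^ n * (a ^ n)⁻¹

theorem pnorm_zero (a s : H) : pnorm a 0 s = 1 := by simp [pnorm]

theorem pnorm_succ (a : H) (n : ℕ) (s : H) :
    pnorm a (n + 1) s = pnorm a n s * (a ^ n * s * (a ^ n)⁻¹) := by
  simp only [pnorm]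
  rw [pow_succ, pow_succ]
  group

theorem pnorm_eq {a : H} {r : ℕ} (har : a ^ r = 1) (s : H) : pnorm a r s = (s * a) ^ r := by
  rw [pnorm, har, inv_one, mul_one]

theorem pnorm_comm {a : H} {r : ℕ} (har : a ^ r = 1) (τ : H) :
    pnorm a r (τ⁻¹ * (a * τ * a⁻¹)) = 1 := by
  rw [pnorm_eq har, show τ⁻¹ * (a * τ * a⁻¹) * a = τ⁻¹ * a * τ by group]
  conv_lhs => rw [show τ⁻¹ * a * τ = τ⁻¹ * a * (τ⁻¹)⁻¹ by rw [inv_inv], conj_pow, har]
  group

theorem conj_pnorm {a : H} {r : ℕ} (har : a ^ r = 1) (s : H) :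
    a * pnorm a r s * a⁻¹ = s⁻¹ * pnorm a r s * s := by
  rw [pnorm_eq har]
  have h : (a * s) ^ r = s⁻¹ * (s * a) ^ r * s := by
    rw [show a * s = s⁻¹ * (s * a) * (s⁻¹)⁻¹ by group, conj_pow, inv_inv]
  have h' : (a * s) ^ r = a * (s * a) ^ r * a⁻¹ := by
    rw [show a * s = a * (s * a) * a⁻¹ by group, conj_pow]
  rw [← h', h]

theorem pnorm_mem {S : Subgroup H} {a : H} (ha : a ∈ normalizer (S : Set H)) {s : H} (hs : s ∈ S)
    (n : ℕ) : pnorm a n s ∈ S := by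
  induction n with
  | zero => rw [pnorm_zero]; exact one_mem S
  | succ n ih => rw [pnorm_succ]; exact mul_mem ih (conj_pow_mem ha hs n)

theorem conj_mem_of_comm_le {S K : Subgroup H} (hKS : K ≤ S) (hab : ⁅S, S⁆ ≤ K) {g z : H}
    (hg : g ∈ S) (hz : z ∈ K) : g * z * g⁻¹ ∈ K := by
  rw [show g * z * g⁻¹ = ⁅g, z⁆ * z by rw [commutatorElement_def]; group]
  exact mul_mem (hab (commutator_mem_commutator hg (hKS hz))) hz

theorem pnorm_mem_of_closure {S K : Subgroup H} {a : H} (ha : a ∈ normalizer (S : Set H))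
    (hKS : K ≤ S) (hab : ⁅S, S⁆ ≤ K) {X : Set H} (hX : X ⊆ S) {n : ℕ}
    (hn : ∀ x ∈ X, pnorm a n x ∈ K) {s : H} (hs : s ∈ closure X) : pnorm a n s ∈ K := by
  have hmul : ∀ m, ∀ x ∈ S, ∀ y ∈ S, ∃ z ∈ K, pnorm a m (x * y) = z * (pnorm a m x * pnorm a m y) := by
    intro m x hx y hy
    induction m with
    | zero => exact ⟨1, one_mem K, by simp [pnorm_zero]⟩
    | succ m ih =>
      obtain ⟨z, hz, e⟩ := ih
      set X' := pnorm a m x with hX'
      set Y' := pnorm a m y with hY'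
      set x' := a ^ m * x * (a ^ m)⁻¹ with hx'
      set y' := a ^ m * y * (a ^ m)⁻¹ with hy'
      refine ⟨z * (X' * ⁅Y', x'⁆ * X'⁻¹), mul_mem hz (conj_mem_of_comm_le hKS hab (pnorm_mem ha hx m)
        (hab (commutator_mem_commutator (pnorm_mem ha hy m) (conj_pow_mem ha hx m)))), ?_⟩
      rw [pnorm_succ, pnorm_succ, pnorm_succ, e, ← hX', ← hY', ← hx', ← hy',
        show a ^ m * (x * y) * (a ^ m)⁻¹ = x' * y' by rw [hx', hy']; group, commutatorElement_def]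
      group
  induction hs using closure_induction with
  | mem x hx => exact hn x hx
  | one => rw [pnorm, one_mul, mul_inv_cancel]; exact one_mem K
  | mul x y hx hy ihx ihy =>
    have hle : closure X ≤ S := (closure_le S).2 hX
    obtain ⟨z, hz, e⟩ := hmul n x (hle hx) y (hle hy)
    rw [e]; exact mul_mem hz (mul_mem ihx ihy)
  | inv x hx ihx =>
    have hle : closure X ≤ S := (closure_le S).2 hX
    obtain ⟨z, hz, e⟩ := hmul n x (hle hx) x⁻¹ (inv_mem (hle hx))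
    rw [mul_inv_cancel, show pnorm a n 1 = 1 by rw [pnorm, one_mul, mul_inv_cancel]] at e
    rw [show pnorm a n x⁻¹ = (z * pnorm a n x)⁻¹ from eq_inv_of_mul_eq_one_right (by
      rw [mul_assoc]; exact e.symm)]
    exact inv_mem (mul_mem hz ihx)

/-- An element of norm one modulo `K` fixed modulo `K` lies in `K`. -/
theorem mem_of_pnorm {S K : Subgroup H} (hKS : K ≤ S) (hab : ⁅S, S⁆ ≤ K) {a : H} {r : ℕ}
    (ha : a ∈ normalizer (S : Set H)) (haK : a ∈ normalizer (K : Set H)) [Finite H]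
    (hcop : r.Coprime (Nat.card S)) {s : H} (hs : s ∈ S) (hnorm : pnorm a r s ∈ K)
    (hfix : s⁻¹ * (a * s * a⁻¹) ∈ K) : s ∈ K := by
  have hi : ∀ i, s⁻¹ * (a ^ i * s * (a ^ i)⁻¹) ∈ K := by
    intro i
    induction i with
    | zero => simp
    | succ i ih =>
      have h1 : a ^ i * (s⁻¹ * (a * s * a⁻¹)) * (a ^ i)⁻¹ ∈ K :=
        (mem_normalizer_iff.1 (pow_mem haK i) _).1 hfix
      rw [show s⁻¹ * (a ^ (i + 1) * s * (a ^ (i + 1))⁻¹) = s⁻¹ * (a ^ i * s * (a ^ i)⁻¹) *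
        (a ^ i * (s⁻¹ * (a * s * a⁻¹)) * (a ^ i)⁻¹) by rw [pow_succ]; group]
      exact mul_mem ih h1
  have hn : ∀ n, (pnorm a n s)⁻¹ * s ^ n ∈ K := by
    intro n
    induction n with
    | zero => simp [pnorm_zero]
    | succ n ih =>
      rw [pnorm_succ, pow_succ, show (pnorm a n s * (a ^ n * s * (a ^ n)⁻¹))⁻¹ * (s ^ n * s) =
        (s⁻¹ * (a ^ n * s * (a ^ n)⁻¹))⁻¹ * (s⁻¹ * ((pnorm a n s)⁻¹ * s ^ n) * (s⁻¹)⁻¹) by group]
      exact mul_mem (inv_mem (hi n)) (conj_mem_of_comm_le hKS hab (inv_mem hs) ih)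
  have hr : s ^ r ∈ K := by simpa using mul_mem hnorm (hn r)
  have h1 : orderOf s ∣ Nat.card S := by
    have h := orderOf_dvd_natCard (⟨s, hs⟩ : S)
    rwa [Subgroup.orderOf_mk] at h
  obtain ⟨m, hm⟩ := exists_pow_eq_self_of_coprime (hcop.coprime_dvd_right h1)
  rw [← hm]
  exact pow_mem hr m

/-- Multiplicative on `P`. -/
structure HomOn {k : Type v} [CommMonoid k] (P : Subgroup H) (φ : H → k) : Prop where
  map_one : φ 1 = 1
  map_mul : ∀ x ∈ P, ∀ y ∈ P, φ (x * y) = φ x * φ y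

namespace HomOn

variable {k : Type v} [CommMonoid k] {P : Subgroup H} {φ : H → k} (hφ : HomOn P φ)
include hφ

theorem map_inv_mul {x : H} (hx : x ∈ P) : φ x⁻¹ * φ x = 1 := by
  rw [← hφ.map_mul _ (inv_mem hx) _ hx, inv_mul_cancel, hφ.map_one]

theorem map_conj {x y : H} (hx : x ∈ P) (hy : y ∈ P) : φ (x * y * x⁻¹) = φ y := by
  rw [hφ.map_mul _ (mul_mem hx hy) _ (inv_mem hx), hφ.map_mul _ hx _ hy, mul_right_comm,
    mul_comm (φ x), hφ.map_inv_mul hx, one_mul]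

theorem map_pow {x : H} (hx : x ∈ P) (n : ℕ) : φ (x ^ n) = φ x ^ n := by
  induction n with
  | zero => rw [pow_zero, pow_zero, hφ.map_one]
  | succ n ih => rw [pow_succ, pow_succ, hφ.map_mul _ (pow_mem hx n) _ hx, ih]

theorem map_comm {x y : H} (hx : x ∈ P) (hy : y ∈ P) : φ ⁅x, y⁆ = 1 := by
  rw [commutatorElement_def, hφ.map_mul _ (mul_mem (mul_mem hx hy) (inv_mem hx)) _ (inv_mem hy),
    hφ.map_conj hx hy, mul_comm, hφ.map_inv_mul hy]

theorem comp_conj {g : H} (hg : g ∈ normalizer (P : Set H)) : HomOn P fun p => φ (g * p * g⁻¹) where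
  map_one := by rw [mul_one, mul_inv_cancel, hφ.map_one]
  map_mul x hx y hy := by
    rw [show g * (x * y) * g⁻¹ = (g * x * g⁻¹) * (g * y * g⁻¹) by group,
      hφ.map_mul _ ((mem_normalizer_iff.1 hg x).1 hx) _ ((mem_normalizer_iff.1 hg y).1 hy)]

theorem mono {Q : Subgroup H} (hQ : Q ≤ P) : HomOn Q φ :=
  ⟨hφ.map_one, fun x hx y hy => hφ.map_mul x (hQ hx) y (hQ hy)⟩

/-- The product over translates of `φ` evaluated at a norm. -/
theorem map_pnorm {a p : H} (ha : a ∈ normalizer (P : Set H)) (hp : p ∈ P) (n : ℕ) :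
    φ (pnorm a n p) = ∏ i ∈ Finset.range n, φ (a ^ i * p * (a ^ i)⁻¹) := by
  induction n with
  | zero => rw [pnorm_zero, Finset.range_zero, Finset.prod_empty, hφ.map_one]
  | succ n ih =>
    rw [pnorm_succ, hφ.map_mul _ (pnorm_mem ha hp n) _ (conj_pow_mem ha hp n), Finset.prod_range_succ, ih]

end HomOn

variable {k : Type v} [CommMonoid k]

/-- The averaged function is trivial on `⁅P, S⁆`. -/
theorem avg_eq_one [Finite H] {P : Subgroup H} {φ : H → k} (hφ : HomOn P φ) (S : Subgroup H)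
    [Fintype S] (hS : S ≤ normalizer (P : Set H)) {p : H} (hp : p ∈ ⁅P, S⁆) :
    p ∈ P ∧ ∏ s : S, φ (s * p * (s : H)⁻¹) = 1 := by
  have hm : ∀ (s : S) {x : H}, x ∈ P → (s : H) * x * (s : H)⁻¹ ∈ P := fun s x hx =>
    (mem_normalizer_iff.1 (hS s.2) x).1 hx
  let K : Subgroup H :=
    { carrier := {p | p ∈ P ∧ ∏ s : S, φ (s * p * (s : H)⁻¹) = 1}
      one_mem' := ⟨one_mem P, Finset.prod_eq_one fun s _ => by
        rw [mul_one, mul_inv_cancel, hφ.map_one]⟩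
      mul_mem' := fun {x y} hx hy => ⟨mul_mem hx.1 hy.1, by
        refine Eq.trans ?_ ((congrArg₂ (· * ·) hx.2 hy.2).trans (mul_one _))
        rw [← Finset.prod_mul_distrib]
        exact Finset.prod_congr rfl fun s _ => by
          rw [← hφ.map_mul _ (hm s hx.1) _ (hm s hy.1)]; congr 1; group⟩
      inv_mem' := fun {x} hx => ⟨inv_mem hx.1, by
        conv_lhs => rw [← mul_one (∏ s : S, φ (s * x⁻¹ * (s : H)⁻¹)), ← hx.2, ← Finset.prod_mul_distrib]
        refine Finset.prod_eq_one fun s _ => ?_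
        rw [← hφ.map_mul _ (hm s (inv_mem hx.1)) _ (hm s hx.1)]
        convert hφ.map_one using 2
        group⟩ }
  suffices h : ⁅P, S⁆ ≤ K from h hp
  rw [commutator_le]
  intro x hx g hg
  refine ⟨?_, ?_⟩
  · rw [commutatorElement_def, show x * g * x⁻¹ * g⁻¹ = x * (g * x⁻¹ * g⁻¹) by group]
    exact mul_mem hx (hm ⟨g, hg⟩ (inv_mem hx))
  · have e : ∏ s : S, φ ((s : H) * (g * x⁻¹ * g⁻¹) * (s : H)⁻¹) = ∏ s : S, φ ((s : H) * x⁻¹ * (s : H)⁻¹) :=
      Fintype.prod_equiv (Equiv.mulRight ⟨g, hg⟩) _ _ fun s => by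
        simp only [Equiv.coe_mulRight, Subgroup.coe_mul]; congr 1; group
    calc ∏ s : S, φ ((s : H) * ⁅x, g⁆ * (s : H)⁻¹)
        = ∏ s : S, φ ((s : H) * x * (s : H)⁻¹) * φ ((s : H) * (g * x⁻¹ * g⁻¹) * (s : H)⁻¹) :=
          Finset.prod_congr rfl fun s _ => by
            rw [← hφ.map_mul _ (hm s hx) _ (hm s (hm ⟨g, hg⟩ (inv_mem hx))), commutatorElement_def]
            congr 1; group
      _ = ∏ s : S, φ ((s : H) * x * (s : H)⁻¹) * φ ((s : H) * x⁻¹ * (s : H)⁻¹) := by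
          rw [Finset.prod_mul_distrib, e, ← Finset.prod_mul_distrib]
      _ = 1 := Finset.prod_eq_one fun s _ => by
          rw [← hφ.map_mul _ (hm s hx) _ (hm s (inv_mem hx))]
          convert hφ.map_one using 2
          group

theorem eq_one_of_pow_coprime {x : k} {m n : ℕ} (h : m.Coprime n) (hm : x ^ m = 1) (hn : x ^ n = 1) :
    x = 1 := by
  have := pow_gcd_eq_one.2 ⟨hm, hn⟩
  rwa [h.gcd_eq_one, pow_one] at this

theorem HomOn.pow_card_eq_one [Finite H] {P : Subgroup H} {φ : H → k} (hφ : HomOn P φ) {x : H}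
    (hx : x ∈ P) : φ x ^ Nat.card P = 1 := by
  rw [← hφ.map_pow hx, show x ^ Nat.card P = 1 from ?_, hφ.map_one]
  exact congrArg Subtype.val (pow_card_eq_one' (x := (⟨x, hx⟩ : P)))

/-- Functions multiplicative on `P = ⁅P, S⁆` are trivial on what a coprime `S` centralizes. -/
theorem eq_one_of_centralized [Finite H] {P : Subgroup H} {φ : H → k} (hφ : HomOn P φ) {S : Subgroup H}
    (hS : S ≤ normalizer (P : Set H)) (hPS : P ≤ ⁅P, S⁆) (hcop : (Nat.card S).Coprime (Nat.card P))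
    {z : H} (hz : z ∈ P) (hzS : ∀ s ∈ S, s * z * s⁻¹ = z) : φ z = 1 := by
  classical
  haveI := Fintype.ofFinite S
  obtain ⟨-, h⟩ := avg_eq_one hφ S hS (hPS hz)
  rw [Finset.prod_congr rfl (g := fun _ => φ z) fun s _ => by rw [hzS s s.2], Finset.prod_const,
    Finset.card_univ, ← Nat.card_eq_fintype_card] at h
  exact eq_one_of_pow_coprime hcop h (hφ.pow_card_eq_one hz)

/-- Functions multiplicative on `P = ⁅P, S⁆` and fixed by a coprime `S` are trivial. -/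
theorem eq_one_of_invariant [Finite H] {P : Subgroup H} {φ : H → k} (hφ : HomOn P φ) {S : Subgroup H}
    (hS : S ≤ normalizer (P : Set H)) (hPS : P ≤ ⁅P, S⁆) (hcop : (Nat.card S).Coprime (Nat.card P))
    (hinv : ∀ s ∈ S, ∀ p ∈ P, φ (s * p * s⁻¹) = φ p) {p : H} (hp : p ∈ P) : φ p = 1 := by
  classical
  haveI := Fintype.ofFinite S
  obtain ⟨-, h⟩ := avg_eq_one hφ S hS (hPS hp)
  rw [Finset.prod_congr rfl (g := fun _ => φ p) fun (s : S) _ => hinv s s.2 p hp, Finset.prod_const,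
    Finset.card_univ, ← Nat.card_eq_fintype_card] at h
  exact eq_one_of_pow_coprime hcop h (hφ.pow_card_eq_one hp)

section Fixed

variable [Finite H] {P L : Subgroup H} {a : H} {r : ℕ} (har : a ^ r = 1)
  (ha : a ∈ normalizer (P : Set H)) (haL : a ∈ normalizer (L : Set H)) (hLP : L ≤ P)
  (hab : ⁅P, P⁆ ≤ L) (hcop : r.Coprime (Nat.card P))
include har ha haL hLP hab hcop

/-- A fixed element with the values of a norm. -/
theorem exists_fixed_norm {p : H} (hp : p ∈ P) :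
    ∃ y ∈ P, a * y * a⁻¹ = y ∧ ∀ φ : H → k, HomOn P φ → (∀ z ∈ L, φ z = 1) →
      φ y = ∏ i ∈ Finset.range r, φ (a ^ i * p * (a ^ i)⁻¹) := by
  set y₀ := pnorm a r p with hy₀
  have hy₀P : y₀ ∈ P := pnorm_mem ha hp r
  have hfix : ∀ b ∈ zpowers a, b * y₀ * b⁻¹ * y₀⁻¹ ∈ L := by
    intro b hb
    have hyL : y₀ ∈ normalizer (L : Set H) := by
      rw [mem_normalizer_iff]
      refine fun z => ⟨conj_mem_of_comm_le hLP hab hy₀P, fun h => ?_⟩
      simpa [mul_assoc] using conj_mem_of_comm_le hLP hab (inv_mem hy₀P) h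
    let Q : Subgroup H :=
      { carrier := {b | b ∈ normalizer (L : Set H) ∧ b * y₀ * b⁻¹ * y₀⁻¹ ∈ L}
        one_mem' := ⟨one_mem _, by simp⟩
        mul_mem' := fun {b c} hb hc => ⟨mul_mem hb.1 hc.1, by
          rw [show b * c * y₀ * (b * c)⁻¹ * y₀⁻¹ =
            b * (c * y₀ * c⁻¹ * y₀⁻¹) * b⁻¹ * (b * y₀ * b⁻¹ * y₀⁻¹) by group]
          exact mul_mem ((mem_normalizer_iff.1 hb.1 _).1 hc.2) hb.2⟩
        inv_mem' := fun {b} hb => ⟨inv_mem hb.1, by
          rw [show b⁻¹ * y₀ * b⁻¹⁻¹ * y₀⁻¹ = b⁻¹ * (b * y₀ * b⁻¹ * y₀⁻¹)⁻¹ * b by group]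
          exact (mem_normalizer_iff''.1 hb.1 _).1 (inv_mem hb.2)⟩ }
    refine ((zpowers_le.2 (show a ∈ Q from ⟨haL, ?_⟩)) hb).2
    rw [hy₀, conj_pnorm har, ← hy₀,
      show p⁻¹ * y₀ * p * y₀⁻¹ = ⁅p⁻¹, y₀⁆ by rw [commutatorElement_def]; group]
    exact hab (commutator_mem_commutator (inv_mem hp) hy₀P)
  have hkN : y₀ ∈ normalizer (L : Set H) := by
    rw [mem_normalizer_iff]
    refine fun z => ⟨conj_mem_of_comm_le hLP hab hy₀P, fun h => ?_⟩
    simpa [mul_assoc] using conj_mem_of_comm_le hLP hab (inv_mem hy₀P) h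
  obtain ⟨n, hn, hy⟩ := CfsgLib.Coprime.exists_fixed_in_coset (zpowers_le.2 haL)
    (by rw [Nat.card_zpowers]
        exact (hcop.coprime_dvd_left (orderOf_dvd_of_pow_eq_one har)).coprime_dvd_right
          (card_dvd_of_le hLP))
    (Or.inl (CfsgLib.Coprime.isSolvable_of_isMulCommutative inferInstance)) hkN hfix
  refine ⟨y₀ * n, mul_mem hy₀P (hLP hn),
    (CfsgLib.Coprime.mem_centralizer_iff_conj_eq.1 hy) a (mem_zpowers a), fun φ hφ hL => ?_⟩
  rw [hφ.map_mul _ hy₀P _ (hLP hn), hL n hn, mul_one, hy₀, hφ.map_pnorm ha hp]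

/-- A fixed function trivial on the fixed elements is trivial. -/
theorem eq_one_of_fixed_trivial {φ : H → k} (hφ : HomOn P φ) (hL : ∀ z ∈ L, φ z = 1)
    (hinv : ∀ p ∈ P, φ (a * p * a⁻¹) = φ p) (h : ∀ y ∈ P, a * y * a⁻¹ = y → φ y = 1) {p : H}
    (hp : p ∈ P) : φ p = 1 := by
  obtain ⟨y, hy, hay, hval⟩ := exists_fixed_norm (k := k) har ha haL hLP hab hcop hp
  have hi : ∀ i, φ (a ^ i * p * (a ^ i)⁻¹) = φ p := by
    intro i
    induction i with
    | zero => simp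
    | succ i ih =>
      rw [show a ^ (i + 1) * p * (a ^ (i + 1))⁻¹ = a * (a ^ i * p * (a ^ i)⁻¹) * a⁻¹ by
        rw [pow_succ']; group, hinv _ (conj_pow_mem ha hp i), ih]
  have h1 := hval φ hφ hL
  rw [h y hy hay, Finset.prod_congr rfl fun i _ => hi i, Finset.prod_const, Finset.card_range] at h1
  exact eq_one_of_pow_coprime hcop h1.symm (hφ.pow_card_eq_one hp)

/-- The key lemma: `δ` is fixed, and two families of translates of `δ` are trivial on fixed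
elements. -/
theorem eq_one_of_translates {δ : H → k} (hδ : HomOn P δ) (hL : ∀ z ∈ L, δ z = 1)
    (hinv : ∀ p ∈ P, δ (a * p * a⁻¹) = δ p) {s : H} (hs : s ∈ normalizer (P : Set H))
    (hsL : ∀ z ∈ L, δ (s⁻¹ * z * s) = 1)
    (h0 : ∀ y ∈ P, a * y * a⁻¹ = y → δ (s⁻¹ * y * s) = 1)
    (hi : ∀ i, 0 < i → i < r → ∀ y ∈ P, a * y * a⁻¹ = y →
      δ ((s⁻¹ * (a ^ i * s * (a ^ i)⁻¹)) * y * (s⁻¹ * (a ^ i * s * (a ^ i)⁻¹))⁻¹) = 1)
    (hr : 0 < r) {p : H} (hp : p ∈ P) : δ p = 1 := by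
  refine eq_one_of_fixed_trivial har ha haL hLP hab hcop hδ hL hinv (fun c hc hac => ?_) hp
  have hcs : s * c * s⁻¹ ∈ P := (mem_normalizer_iff.1 hs c).1 hc
  obtain ⟨y, hy, hay, hval⟩ := exists_fixed_norm (k := k) har ha haL hLP hab hcop hcs
  have hδs : HomOn P fun p => δ (s⁻¹ * p * (s⁻¹)⁻¹) := hδ.comp_conj (inv_mem hs)
  have h1 := hval _ hδs (fun z hz => by rw [inv_inv]; exact hsL z hz)
  simp only [inv_inv] at h1
  rw [h0 y hy hay, Finset.prod_eq_single 0] at h1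
  · simpa [mul_assoc] using h1.symm
  · intro i hir hi0
    have hai : a ^ i * c * (a ^ i)⁻¹ = c := by
      clear hir hi0
      induction i with
      | zero => simp
      | succ i ih => rw [show a ^ (i + 1) * c * (a ^ (i + 1))⁻¹ = a * (a ^ i * c * (a ^ i)⁻¹) * a⁻¹ by
          rw [pow_succ']; group, ih, hac]
    rw [show s⁻¹ * (a ^ i * (s * c * s⁻¹) * (a ^ i)⁻¹) * s = (s⁻¹ * (a ^ i * s * (a ^ i)⁻¹)) *
      (a ^ i * c * (a ^ i)⁻¹) * (s⁻¹ * (a ^ i * s * (a ^ i)⁻¹))⁻¹ by group, hai]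
    exact hi i (Nat.pos_of_ne_zero hi0) (Finset.mem_range.1 hir) c hc hac
  · exact fun h => absurd (Finset.mem_range.2 hr) h

end Fixed

end CfsgLib.PGroup.TurullFix
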