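import Cfsg.Agent.Lib.PGroup.TurullFix.Count

/-!
Irreducible representations of class two that are stable under an operator of prime order: the
exceptional dimension `r - 1`, and operators centralizing the first one.
-/

set_option autoImplicit false
set_option linter.style.haveILetI false
set_option linter.unusedSectionVars false

namespace CfsgLib.PGroup.TurullFix

open CfsgLib.PGroup
open scoped BigOperators

universe u v w

variable {E : Type u} [Group E] [Finite E] {k : Type v} [Field k] [IsAlgClosed k] {W : Type w}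
  [AddCommGroup W] [Module k W] [FiniteDimensional k W] (ρ : E →* Module.End k W)

theorem fix_scalar {N : ℕ} (hN : 1 ≤ N) {σ : E ≃* E} {b : Module.End k W} (hbN : b ^ N = 1)
    (hb : ∀ x, b * ρ x = ρ (σ x) * b) : ∀ x (c : k), ρ x = c • 1 → ρ (σ x) = c • 1 := by
  intro x c hc
  obtain ⟨v, hv⟩ : ∃ v : Module.End k W, b * v = 1 :=
    ⟨b ^ (N - 1), by rw [← pow_succ', Nat.sub_add_cancel hN, hbN]⟩
  have h := hb x
  rw [hc, mul_smul_comm, mul_one, ← one_mul b, ← smul_mul_assoc] at h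
  have := congrArg (· * v) h
  simpa [mul_assoc, hv] using this.symm

/-- An irreducible subspace invariant under the operator. -/
theorem exists_stable [Nontrivial W] (hE : ClassTwo ρ) (hnd : Nondeg ρ)
    (hm : (Nat.card (ScalarQuot ρ) : k) ≠ 0) {N : ℕ} (hN : 1 ≤ N) {σ : E ≃* E} {u : Module.End k W}
    (huN : u ^ N = 1) (hu : ∀ x, u * ρ x = ρ (σ x) * u) :
    ∃ (X : Submodule k W) (hX : ∀ x : E, ∀ w ∈ X, ρ x w ∈ X), X ≠ ⊥ ∧ (∀ w ∈ X, u w ∈ X) ∧
      Irred (restrictRep ρ X hX) ∧ scalarSub (restrictRep ρ X hX) = scalarSub ρ := by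
  classical
  obtain ⟨U, hU0, hUinv, hUmin⟩ := exists_irred_sub ρ
  haveI : Nontrivial U := Submodule.nontrivial_iff_ne_bot.2 hU0
  set ρU := restrictRep ρ U hUinv with hρU
  have hsub : scalarSub ρU = scalarSub ρ := scalarSub_restrictRep ρ hE hnd hUinv hU0
  have hirr : Irred ρU := by
    intro V hV
    rcases hUmin (V.map U.subtype) (Submodule.map_subtype_le _ _) (fun x w hw => by
      obtain ⟨v, hv, rfl⟩ := Submodule.mem_map.1 hw
      exact Submodule.mem_map.2 ⟨ρU x v, hV x v hv, rfl⟩) with h | h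
    · left
      rwa [← Submodule.map_bot U.subtype,
        (Submodule.map_injective_of_injective U.subtype_injective).eq_iff] at h
    · right
      rw [← Submodule.map_injective_of_injective U.subtype_injective |>.eq_iff, h,
        Submodule.map_subtype_top]
  have hEU : ClassTwo ρU := fun x y => hsub.symm ▸ hE x y
  have hσW := fix_scalar ρ hN huN hu
  have hσU : ∀ x (c : k), ρU x = c • 1 → ρU (σ x) = c • 1 := by
    intro x c hc
    obtain ⟨d, hd⟩ : x ∈ scalarSub ρ := hsub ▸ ⟨c, hc⟩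
    have h1 := restrictRep_smul_one ρ (hU := hUinv) hd
    rw [show c = d from smul_rep_inj ρU (x := 1) (by rw [map_one, ← hc, ← h1])]
    exact restrictRep_smul_one ρ (hσW x d hd)
  have hmU : (Nat.card (ScalarQuot ρU) : k) ≠ 0 := by
    unfold ScalarQuot at hm ⊢
    rw [hsub]; exact hm
  obtain ⟨b, hb⟩ := exists_intertwiner ρU hirr hEU hmU σ hσU
  let Hm : Submodule k (U →ₗ[k] W) :=
    { carrier := {h | ∀ x v, h (ρU x v) = ρ x (h v)}
      add_mem' := fun {h h'} hh hh' x v => by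
        rw [LinearMap.add_apply, LinearMap.add_apply, hh, hh', map_add]
      zero_mem' := fun x v => by simp
      smul_mem' := fun c h hh x v => by
        rw [LinearMap.smul_apply, LinearMap.smul_apply, hh, map_smul] }
  let L₀ : (U →ₗ[k] W) →ₗ[k] (U →ₗ[k] W) :=
    { toFun := fun h => u.comp (h.comp b.symm.toLinearMap)
      map_add' := fun h h' => by simp [LinearMap.add_comp, LinearMap.comp_add]
      map_smul' := fun c h => by simp [LinearMap.smul_comp, LinearMap.comp_smul] }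
  have hL : ∀ h ∈ Hm, L₀ h ∈ Hm := by
    intro h hh x v
    show u (h (b.symm (ρU x v))) = ρ x (u (h (b.symm v)))
    have e : b.symm (ρU x v) = ρU (σ.symm x) (b.symm v) := by
      apply b.injective
      rw [LinearEquiv.apply_symm_apply, hb, MulEquiv.apply_symm_apply, LinearEquiv.apply_symm_apply]
    rw [e, hh]
    have := LinearMap.congr_fun (hu (σ.symm x)) (h (b.symm v))
    simpa using this
  haveI : Nontrivial Hm := Submodule.nontrivial_iff_ne_bot.2 fun h => hU0 (by
    have : U.subtype ∈ Hm := fun x v => rfl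
    rw [h, Submodule.mem_bot] at this
    rw [← Submodule.range_subtype U, this, LinearMap.range_zero])
  obtain ⟨ζ, hζ⟩ := Module.End.exists_eigenvalue (L₀.restrict hL : Module.End k Hm)
  obtain ⟨h, hh⟩ := hζ.exists_hasEigenvector
  have hhe : ∀ v, u ((h : U →ₗ[k] W) (b.symm v)) = ζ • (h : U →ₗ[k] W) v := fun v =>
    LinearMap.congr_fun (congrArg Subtype.val (Module.End.mem_eigenspace_iff.1 hh.1)) v
  have hinj : Function.Injective (h : U →ₗ[k] W) := by
    rw [← LinearMap.ker_eq_bot]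
    refine (hirr _ fun x v hv => ?_).resolve_right fun e =>
      hh.2 (Subtype.ext (LinearMap.ker_eq_top.1 e))
    rw [LinearMap.mem_ker] at hv ⊢
    rw [h.2 x v, hv, map_zero]
  let X : Submodule k W := LinearMap.range (h : U →ₗ[k] W)
  have hX : ∀ x : E, ∀ w ∈ X, ρ x w ∈ X := by
    rintro x _ ⟨v, rfl⟩
    exact ⟨ρU x v, h.2 x v⟩
  have hX0 : X ≠ ⊥ := by
    intro e
    obtain ⟨v, hv⟩ := exists_ne (0 : U)
    exact hv (hinj (by
      rw [map_zero]
      exact (Submodule.mem_bot k).1 (e.le ⟨v, rfl⟩)))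
  refine ⟨X, hX, hX0, ?_, ?_, scalarSub_restrictRep ρ hE hnd hX hX0⟩
  · rintro _ ⟨v, rfl⟩
    refine ⟨ζ • b v, ?_⟩
    rw [map_smul, ← hhe, LinearEquiv.symm_apply_apply]
  · intro V hV
    let V' : Submodule k U := (V.map X.subtype).comap (h : U →ₗ[k] W)
    have hV' : ∀ x : E, ∀ v ∈ V', ρU x v ∈ V' := by
      intro x v hv
      obtain ⟨y, hy, hye⟩ := Submodule.mem_map.1 (Submodule.mem_comap.1 hv)
      refine Submodule.mem_comap.2 (Submodule.mem_map.2 ⟨restrictRep ρ X hX x y, hV x y hy, ?_⟩)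
      show ρ x (y : W) = _
      rw [h.2 x v, ← hye]; rfl
    rcases hirr V' hV' with e | e
    · left
      rw [eq_bot_iff]
      intro y hy
      obtain ⟨v, hv⟩ := y.2
      have : v ∈ V' := Submodule.mem_comap.2 (Submodule.mem_map.2 ⟨y, hy, hv.symm⟩)
      rw [e, Submodule.mem_bot] at this
      rw [Submodule.mem_bot]
      exact Subtype.ext (by rw [← hv, this, map_zero]; rfl)
    · right
      rw [eq_top_iff]
      intro y _
      obtain ⟨v, hv⟩ := y.2
      obtain ⟨y', hy', hye⟩ := Submodule.mem_map.1 (Submodule.mem_comap.1 (e.ge (Submodule.mem_top (x := v))))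
      rwa [show y = y' from Subtype.ext (hv.symm.trans hye.symm)]

variable [Nontrivial W]

theorem iterate_fix {σ : E ≃* E} {x : E} (hσ : ∀ d ∈ scalarSub ρ, σ d ∈ scalarSub ρ)
    (h : x⁻¹ * σ x ∈ scalarSub ρ) (n : ℕ) : x⁻¹ * σ^[n] x ∈ scalarSub ρ := by
  induction n with
  | zero => simp
  | succ n ih =>
    rw [Function.iterate_succ_apply', show x⁻¹ * σ (σ^[n] x) = (x⁻¹ * σ x) * (σ x⁻¹ * σ (σ^[n] x)) by
      rw [map_inv]; group, ← map_mul]
    exact mul_mem h (hσ _ ih)

theorem iterate_mem {σ : E ≃* E} (hσ : ∀ d ∈ scalarSub ρ, σ d ∈ scalarSub ρ) {d : E}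
    (hd : d ∈ scalarSub ρ) (n : ℕ) : σ^[n] d ∈ scalarSub ρ := by
  induction n with
  | zero => exact hd
  | succ n ih => rw [Function.iterate_succ_apply']; exact hσ _ ih

theorem iterate_mulEquiv_inv_mul (σ : E ≃* E) (n : ℕ) (x y : E) :
    σ^[n] (x⁻¹ * y) = (σ^[n] x)⁻¹ * σ^[n] y := by
  induction n with
  | zero => rfl
  | succ n ih => rw [Function.iterate_succ_apply', ih, map_mul, map_inv, Function.iterate_succ_apply',
      Function.iterate_succ_apply']

theorem iterate_fix_mul {σ : E ≃* E} {x : E} {j : ℕ} (hσ : ∀ d ∈ scalarSub ρ, σ d ∈ scalarSub ρ)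
    (h : x⁻¹ * σ^[j] x ∈ scalarSub ρ) (n : ℕ) : x⁻¹ * σ^[j * n] x ∈ scalarSub ρ := by
  induction n with
  | zero => simp
  | succ n ih =>
    have := mul_mem ih (iterate_mem ρ hσ h (j * n))
    rw [iterate_mulEquiv_inv_mul, ← Function.iterate_add_apply, mul_assoc, mul_inv_cancel_left] at this
    rwa [Nat.mul_succ]

/-- Fixed-point-freeness of all powers of an operator of prime order. -/
theorem free_of_prime {σ : E ≃* E} {r : ℕ} (hr : r.Prime) (hσr : ∀ x, σ^[r] x = x)
    (hσ : ∀ d ∈ scalarSub ρ, σ d ∈ scalarSub ρ)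
    (hfpf : ∀ x, x⁻¹ * σ x ∈ scalarSub ρ → x ∈ scalarSub ρ) :
    ∀ j, ¬ r ∣ j → ∀ x, x⁻¹ * σ^[j] x ∈ scalarSub ρ → x ∈ scalarSub ρ := by
  intro j hj x hx
  obtain ⟨e, he⟩ := Nat.exists_mul_mod_eq_one_of_coprime ((hr.coprime_iff_not_dvd.2 hj).symm) hr.one_lt
  refine hfpf x ?_
  have hper : ∀ i y, σ^[r * i] y = y := by
    intro i
    induction i with
    | zero => intro y; rfl
    | succ i ih => intro y; rw [Nat.mul_succ, Function.iterate_add_apply, hσr, ih]
  have h1 := iterate_fix_mul ρ hσ hx e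
  rwa [← Nat.mod_add_div (j * e) r, he.2, Function.iterate_add_apply, hper, Function.iterate_one] at h1

open Classical in
/-- In the exceptional dimension the eigenspaces of the operator are lines. -/
theorem exceptional_lines (hirr : Irred ρ) (hE : ClassTwo ρ) (hm : (Nat.card (ScalarQuot ρ) : k) ≠ 0)
    {r : ℕ} [NeZero r] (hr : r.Prime) (hrk : (r : k) ≠ 0) (σ : E ≃* E) (hσr : ∀ x, σ^[r] x = x)
    (u : Module.End k W) (hur : u ^ r = 1) (hu : ∀ x, u * ρ x = ρ (σ x) * u)
    (hfix : ∀ w, u w = w → w = 0) (hfpf : ∀ x, x⁻¹ * σ x ∈ scalarSub ρ → x ∈ scalarSub ρ)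
    (hne : scalarSub ρ ≠ ⊤) (ζ : rootsOfUnity r k) :
    Module.finrank k (Module.End.eigenspace u ((ζ : kˣ) : k)) = if ζ = 1 then 0 else 1 := by
  classical
  have hσc := fix_scalar ρ hr.one_le hur hu
  have hσm : ∀ d ∈ scalarSub ρ, σ d ∈ scalarSub ρ := fun d ⟨c, hc⟩ => ⟨c, hσc d c hc⟩
  have hnd : Nondeg ρ := fun x hx => schur ρ hirr (ρ x) fun y => by rw [← map_mul, hx, map_mul]
  obtain ⟨d, hd, hrd⟩ := hh_core ρ hE hnd hm hr hrk σ hσr u hur hu hfix hfpf hne
  have hdn : d = Module.finrank k W :=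
    Nat.mul_self_inj.1 (hd.symm.trans (card_scalarQuot ρ hirr hE hm))
  obtain ⟨hC, -⟩ := commute_le ρ hirr hE hm hr.one_le hrk σ hσr hσc u hu hur
    fun i hi hir x hx => free_of_prime ρ hr hσr hσm hfpf i
      (fun h => Nat.not_lt.2 (Nat.le_of_dvd hi h) hir) x hx
  let f : rootsOfUnity r k → ℕ := fun ζ => Module.finrank k (Module.End.eigenspace u ((ζ : kˣ) : k))
  have hsum : Module.finrank k W = ∑ ζ, f ζ := finrank_eigen_sum hur hrk
  have hsq : ∑ ζ, f ζ ^ 2 ≤ Module.finrank k (comm u) := finrank_le_comm hur hrk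
  have h1 : f 1 = 0 := by
    rw [Submodule.finrank_eq_zero, eq_bot_iff]
    intro w hw
    rw [Module.End.mem_eigenspace_iff] at hw
    exact (Submodule.mem_bot k).2 (hfix w (by simpa using hw))
  rw [hd, ← hdn] at *
  have hCd : Module.finrank k (comm u) ≤ d := by
    subst hrd
    by_contra hlt
    have := Nat.mul_le_mul_left (d + 1) (show d + 1 ≤ Module.finrank k (comm u) by omega)
    nlinarith
  have hle : ∑ ζ, f ζ ^ 2 ≤ ∑ ζ, f ζ := by rw [← hsum]; exact hsq.trans hCd
  have hone : ∀ ζ, f ζ ≤ 1 := by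
    intro ζ
    by_contra hgt
    exact absurd hle (not_le.2 (Finset.sum_lt_sum (fun i _ => Nat.le_self_pow two_ne_zero _)
      ⟨ζ, Finset.mem_univ _, by nlinarith⟩))
  show f ζ = _
  split
  · next h => rw [h, h1]
  · next h =>
    refine le_antisymm (hone ζ) ?_
    by_contra h0
    have hlt : ∑ η, f η < ∑ η ∈ (Finset.univ : Finset (rootsOfUnity r k)).erase 1, 1 := by
      rw [← Finset.add_sum_erase _ _ (Finset.mem_univ (1 : rootsOfUnity r k)), h1, zero_add]
      exact Finset.sum_lt_sum (fun i _ => hone i)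
        ⟨ζ, Finset.mem_erase.2 ⟨h, Finset.mem_univ _⟩, by omega⟩
    rw [← hsum, ← Finset.card_eq_sum_ones, Finset.card_erase_of_mem (Finset.mem_univ _), Finset.card_univ,
      card_roots hrk] at hlt
    omega

/-- An operator centralizing an exceptional one is trivial modulo the scalars. -/
theorem exceptional_centralizer (hirr : Irred ρ) (hE : ClassTwo ρ)
    (hm : (Nat.card (ScalarQuot ρ) : k) ≠ 0)
    {r : ℕ} (hr : r.Prime) (hrk : (r : k) ≠ 0) (σ : E ≃* E) (hσr : ∀ x, σ^[r] x = x)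
    (u : Module.End k W) (hur : u ^ r = 1) (hu : ∀ x, u * ρ x = ρ (σ x) * u)
    (hfix : ∀ w, u w = w → w = 0) (hfpf : ∀ x, x⁻¹ * σ x ∈ scalarSub ρ → x ∈ scalarSub ρ)
    (τ : E ≃* E) (hτσ : ∀ x, τ (σ x) = σ (τ x)) (hτ : ∀ x (c : k), ρ x = c • 1 → ρ (τ x) = c • 1)
    {m : ℕ} (hmr : ¬ r ∣ m) (hτm : ∀ x, τ^[m] x = x) : ∀ x, x⁻¹ * τ x ∈ scalarSub ρ := by
  classical
  haveI : NeZero r := ⟨hr.ne_zero⟩
  haveI := scalarSub_normal ρ
  haveI := Fintype.ofFinite (ScalarQuot ρ)
  have hm' : (Fintype.card (ScalarQuot ρ) : k) ≠ 0 := by rwa [← Nat.card_eq_fintype_card]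
  by_cases hne : scalarSub ρ = ⊤
  · intro x; rw [hne]; exact Subgroup.mem_top _
  have hσc := fix_scalar ρ hr.one_le hur hu
  have hσm : ∀ d ∈ scalarSub ρ, σ d ∈ scalarSub ρ := fun d ⟨c, hc⟩ => ⟨c, hσc d c hc⟩
  have hτs : ∀ d ∈ scalarSub ρ, τ d ∈ scalarSub ρ := fun d ⟨c, hc⟩ => ⟨c, hτ d c hc⟩
  have hlines := exceptional_lines ρ hirr hE hm hr hrk σ hσr u hur hu hfix hfpf hne
  obtain ⟨B, hB⟩ := exists_intertwiner ρ hirr hE hm τ hτ
  let B' : Module.End k W := B.toLinearMap
  let Bi : Module.End k W := B.symm.toLinearMap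
  have hBB : B' * Bi = 1 := LinearMap.ext fun w => B.apply_symm_apply w
  have hBB' : Bi * B' = 1 := LinearMap.ext fun w => B.symm_apply_apply w
  have hB' : ∀ x, B' * ρ x = ρ (τ x) * B' := fun x => LinearMap.ext fun w => hB x w
  have hBi : ∀ x, Bi * ρ (τ x) = ρ x * Bi := fun x => by
    calc Bi * ρ (τ x) = Bi * (ρ (τ x) * B') * Bi := by rw [mul_assoc, mul_assoc, hBB, mul_one]
      _ = ρ x * Bi := by rw [← hB', ← mul_assoc Bi, hBB', one_mul]
  -- the conjugate of `u` by `B` is `u` times a scalar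
  let T : Module.End k W := B' * u * Bi
  let ui : Module.End k W := u ^ (r - 1)
  have hui : ui * u = 1 := by rw [← pow_succ, Nat.sub_add_cancel hr.one_le, hur]
  have hui' : u * ui = 1 := by rw [← pow_succ', Nat.sub_add_cancel hr.one_le, hur]
  have hT : ∀ y, T * ρ y = ρ (σ y) * T := by
    intro y
    obtain ⟨x, rfl⟩ := τ.surjective y
    show B' * u * Bi * ρ (τ x) = _
    rw [mul_assoc, hBi, ← mul_assoc, mul_assoc B', hu, ← mul_assoc, hB', hτσ, mul_assoc, mul_assoc]
    simp [T, mul_assoc]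
  obtain ⟨c, hc⟩ : ∃ c : k, ui * T = c • 1 := schur ρ hirr _ fun y => by
    have h1 : ui * ρ (σ y) = ρ y * ui := by
      calc ui * ρ (σ y) = ui * (ρ (σ y) * u) * ui := by rw [mul_assoc, mul_assoc, hui', mul_one]
        _ = ρ y * ui := by rw [← hu, ← mul_assoc ui, hui, one_mul]
    rw [mul_assoc, hT, ← mul_assoc, h1, mul_assoc]
  have hTu : T = c • u := by
    calc T = u * (ui * T) := by rw [← mul_assoc, hui', one_mul]
      _ = c • u := by rw [hc, mul_smul_comm, mul_one]
  have hcr : c ^ r = 1 := by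
    have hTn : ∀ n, T ^ n = B' * u ^ n * Bi := by
      intro n
      induction n with
      | zero => rw [pow_zero, pow_zero, mul_one, hBB]
      | succ n ih =>
        rw [pow_succ, ih, pow_succ]
        simp only [T, mul_assoc]
        rw [← mul_assoc Bi B', hBB', one_mul]
    have h := hTn r
    rw [hur, mul_one, hBB, hTu, smul_pow, hur] at h
    exact smul_rep_inj ρ (x := (1 : E)) (by rw [map_one, one_smul]; exact h)
  have hc1 : c = 1 := by
    by_contra hc1
    have hc0 : c ≠ 0 := fun e => by rw [e, zero_pow hr.ne_zero] at hcr; exact zero_ne_one hcr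
    let ζ : rootsOfUnity r k := rootsOfUnity.mkOfPowEq c⁻¹ (by rw [inv_pow, hcr, inv_one])
    have hζ : ((ζ : kˣ) : k) = c⁻¹ := rfl
    have h1 := hlines ζ
    rw [if_neg fun e => hc1 (by
      have := congrArg (fun z : rootsOfUnity r k => ((z : kˣ) : k)) e
      simpa [hζ] using this), hζ] at h1
    obtain ⟨w, hw, hw0⟩ := Submodule.exists_mem_ne_zero_of_ne_bot
      (p := Module.End.eigenspace u c⁻¹) fun e => by rw [e, finrank_bot] at h1; exact zero_ne_one h1
    rw [Module.End.mem_eigenspace_iff] at hw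
    have hTw : T w = w := by
      rw [hTu, LinearMap.smul_apply, hw, smul_smul, mul_inv_cancel₀ hc0, one_smul]
    refine hw0 (B.symm.injective ?_)
    rw [map_zero]
    refine hfix _ ?_
    have := congrArg B.symm hTw
    rw [show T w = B (u (B.symm w)) from rfl, LinearEquiv.symm_apply_apply] at this
    exact this
  have hBu : u * B' = B' * u := by
    have : B' * u * Bi = u := by rw [show B' * u * Bi = T from rfl, hTu, hc1, one_smul]
    calc u * B' = B' * u * Bi * B' := by rw [this]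
      _ = B' * u := by rw [mul_assoc (B' * u), hBB', mul_one]
  -- the commutant of `u` is commutative
  have hcomm : ∀ X Y : Module.End k W, u * X = X * u → u * Y = Y * u → X * Y = Y * X := by
    intro X Y hX hY
    refine LinearMap.ext fun w => ?_
    rw [← sum_eproj hur hrk w, map_sum, map_sum]
    refine Finset.sum_congr rfl fun ζ _ => ?_
    set v := eproj u r ((ζ : kˣ) : k) w with hv
    have hvm : v ∈ Module.End.eigenspace u ((ζ : kˣ) : k) := eproj_mem hur (root_pow ζ) w
    by_cases hv0 : v = 0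
    · rw [hv0, map_zero, map_zero]
    have hle : Module.finrank k (Module.End.eigenspace u ((ζ : kˣ) : k)) ≤ 1 := by
      rw [hlines ζ]; split <;> omega
    have hscal : ∀ Z : Module.End k W, u * Z = Z * u → ∃ a : k, Z v = a • v := by
      intro Z hZ
      have hZv : Z v ∈ Module.End.eigenspace u ((ζ : kˣ) : k) := by
        rw [Module.End.mem_eigenspace_iff] at hvm ⊢
        rw [← Module.End.mul_apply, hZ, Module.End.mul_apply, hvm, map_smul]
      have hspan : (k ∙ v) = Module.End.eigenspace u ((ζ : kˣ) : k) :=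
        Submodule.eq_of_le_of_finrank_le ((Submodule.span_singleton_le_iff_mem _ _).2 hvm)
          (by rw [finrank_span_singleton hv0]; exact hle)
      obtain ⟨a, ha⟩ := Submodule.mem_span_singleton.1 (hspan.symm ▸ hZv : Z v ∈ (k ∙ v))
      exact ⟨a, ha.symm⟩
    obtain ⟨a, ha⟩ := hscal X hX
    obtain ⟨a', ha'⟩ := hscal Y hY
    rw [Module.End.mul_apply, Module.End.mul_apply, ha', map_smul, ha, map_smul, ha', smul_smul, smul_smul,
      mul_comm]
  let S : E → Module.End k W := fun x => ∑ i ∈ Finset.range r, ρ (σ^[i] x)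
  have hS : ∀ x, u * S x = S x * u := by
    intro x
    simp only [S, Finset.mul_sum, Finset.sum_mul, hu]
    simp only [← Function.iterate_succ_apply' σ]
    have e2 := Finset.sum_range_succ' (fun i => ρ (σ^[i] x) * u) r
    rw [Finset.sum_range_succ, hσr, Function.iterate_zero_apply, add_left_inj] at e2
    exact e2.symm
  have hSτ : ∀ x, S (τ x) = S x := by
    intro x
    have e : B' * S x = S (τ x) * B' := by
      simp only [S, Finset.mul_sum, Finset.sum_mul, hB']
      refine Finset.sum_congr rfl fun i _ => ?_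
      congr 2
      exact (Function.Commute.iterate_right (f := ⇑τ) (g := ⇑σ) hτσ i).eq x
    have e' := congrArg (· * Bi) (e.symm.trans (hcomm _ _ hBu (hS x)))
    simpa [mul_assoc, hBB] using e'
  -- coefficients in the basis of a transversal
  have hli : LinearIndependent k fun i : ScalarQuot ρ => ρ i.out := by
    rw [Fintype.linearIndependent_iff]
    exact fun a h => rep_indep ρ hirr hE hm' (fun i => i.out)
      (fun i j h => by simpa [QuotientGroup.out_eq'] using h) a h
  let bas := Module.Basis.mk hli (rep_span ρ hirr hE hm').ge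
  have hcoef : ∀ x : E, ∃ e : k, e ≠ 0 ∧
      ∀ j, bas.repr (ρ x) j = if (QuotientGroup.mk x : ScalarQuot ρ) = j then e else 0 := by
    intro x
    obtain ⟨d, ⟨e, he⟩, hout⟩ := out_mk_eq ρ x
    have he0 : e ≠ 0 := fun h0 => rep_ne_zero ρ d (by rw [he, h0, zero_smul])
    refine ⟨e⁻¹, inv_ne_zero he0, fun j => ?_⟩
    have h1 : ρ x = e⁻¹ • bas (QuotientGroup.mk x : ScalarQuot ρ) := by
      rw [Module.Basis.mk_apply, hout, map_mul, he, mul_smul_comm, mul_one, inv_smul_smul₀ he0]
    rw [h1, map_smul, Module.Basis.repr_self, Finsupp.smul_apply, Finsupp.single_apply]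
    split <;> simp
  have hfree := free_of_prime ρ hr hσr hσm hfpf
  intro x
  by_cases hx : x ∈ scalarSub ρ
  · exact mul_mem (inv_mem hx) (hτs x hx)
  have hτx : τ x ∉ scalarSub ρ := by
    intro h
    apply hx
    have h2 : ∀ n, τ^[n + 1] x ∈ scalarSub ρ := by
      intro n
      induction n with
      | zero => exact h
      | succ n ih => rw [Function.iterate_succ_apply']; exact hτs _ ih
    obtain ⟨m', rfl⟩ : ∃ m', m = m' + 1 :=
      ⟨m - 1, (Nat.sub_add_cancel (Nat.one_le_iff_ne_zero.2 fun e => hmr (by rw [e]; exact dvd_zero r))).symm⟩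
    rw [← hτm x]
    exact h2 m'
  have hdist : ∀ y, y ∉ scalarSub ρ → ∀ i, i < r → i ≠ 0 →
      (QuotientGroup.mk (σ^[i] y) : ScalarQuot ρ) ≠ QuotientGroup.mk y := fun y hy i hir hi0 e =>
    hy (hfree i (fun h => Nat.not_lt.2 (Nat.le_of_dvd (Nat.pos_of_ne_zero hi0) h) hir) y
      (QuotientGroup.eq.1 e.symm))
  obtain ⟨i, hir, hi⟩ : ∃ i, i < r ∧ (QuotientGroup.mk (σ^[i] x) : ScalarQuot ρ) = QuotientGroup.mk (τ x) := by
    by_contra hne'
    push Not at hne'
    have h := congrArg (fun Z => bas.repr Z (QuotientGroup.mk (τ x) : ScalarQuot ρ)) (hSτ x)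
    simp only [S, map_sum, Finsupp.finsetSum_apply] at h
    rw [Finset.sum_eq_single 0, Finset.sum_eq_zero] at h
    · obtain ⟨e, he, hj⟩ := hcoef (τ x)
      rw [Function.iterate_zero_apply, hj, if_pos rfl] at h
      exact he h
    · intro i hi
      obtain ⟨e, -, hj⟩ := hcoef (σ^[i] x)
      rw [hj, if_neg (hne' i (Finset.mem_range.1 hi))]
    · intro i hi hi0
      obtain ⟨e, -, hj⟩ := hcoef (σ^[i] (τ x))
      rw [hj, if_neg (hdist _ hτx i (Finset.mem_range.1 hi) hi0)]
    · exact fun h => absurd (Finset.mem_range.2 hr.pos) h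
  have h1 : (σ^[i] x)⁻¹ * τ x ∈ scalarSub ρ := QuotientGroup.eq.1 hi
  have h2 : ∀ n, (σ^[i * n] x)⁻¹ * τ^[n] x ∈ scalarSub ρ := by
    intro n
    induction n with
    | zero => simp
    | succ n ih =>
      have hc : ∀ y, τ (σ^[i * n] y) = σ^[i * n] (τ y) := fun y => by
        exact (Function.Commute.iterate_right (f := ⇑τ) (g := ⇑σ) hτσ (i * n)).eq y
      have h4 := mul_mem (iterate_mem ρ hσm h1 (i * n)) (hτs _ ih)
      rw [iterate_mulEquiv_inv_mul, map_mul, map_inv, hc, ← Function.iterate_add_apply,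
        ← Function.iterate_succ_apply' τ, mul_assoc, mul_inv_cancel_left] at h4
      rwa [Nat.mul_succ]
  have h3 := h2 m
  rw [hτm] at h3
  by_cases hi0 : i = 0
  · rw [hi0, Function.iterate_zero_apply] at h1; exact h1
  refine absurd (hfree (i * m) (fun hd => ?_) x ?_) hx
  · rcases hr.dvd_mul.1 hd with h | h
    · exact Nat.not_lt.2 (Nat.le_of_dvd (Nat.pos_of_ne_zero hi0) h) hir
    · exact hmr h
  · simpa using inv_mem h3

/-- The orbit bound for a pair of commuting operators. -/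
theorem pair_le (hirr : Irred ρ) (hE : ClassTwo ρ) (hm : (Nat.card (ScalarQuot ρ) : k) ≠ 0)
    {r m : ℕ} (hr : r.Prime) (hrk : (r : k) ≠ 0) (hm1 : 1 ≤ m) (hmk : (m : k) ≠ 0) (hmr : m.Coprime r)
    (σ : E ≃* E) (hσr : ∀ x, σ^[r] x = x) (u : Module.End k W) (hur : u ^ r = 1)
    (hu : ∀ x, u * ρ x = ρ (σ x) * u) (hfpf : ∀ x, x⁻¹ * σ x ∈ scalarSub ρ → x ∈ scalarSub ρ)
    (τ : E ≃* E) (hτσ : ∀ x, τ (σ x) = σ (τ x)) (B : Module.End k W) (hBm : B ^ m = 1)
    (hB : ∀ x, B * ρ x = ρ (τ x) * B) (hBu : u * B = B * u) (hτm : ∀ x, τ^[m] x = x)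
    (hτfree : ∀ j, ¬ m ∣ j → ∀ x, x⁻¹ * τ^[j] x ∈ scalarSub ρ → x ∈ scalarSub ρ) :
    r * m * Module.finrank k (comm u ⊓ comm B : Submodule k (Module.End k W)) + 1 ≤
        Module.finrank k W * Module.finrank k W + r * m ∧
      r * m * Module.finrank k (comm (u * B)) + 1 ≤ Module.finrank k W * Module.finrank k W + r * m := by
  have hσc := fix_scalar ρ hr.one_le hur hu
  have hτc := fix_scalar ρ hm1 hBm hB
  have hσm : ∀ d ∈ scalarSub ρ, σ d ∈ scalarSub ρ := fun d ⟨c, hc⟩ => ⟨c, hσc d c hc⟩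
  have hτs : ∀ d ∈ scalarSub ρ, τ d ∈ scalarSub ρ := fun d ⟨c, hc⟩ => ⟨c, hτc d c hc⟩
  let ψ : E ≃* E := τ.trans σ
  have hψn : ∀ n x, ψ^[n] x = σ^[n] (τ^[n] x) := by
    intro n
    induction n with
    | zero => intro x; rfl
    | succ n ih =>
      intro x
      rw [Function.iterate_succ_apply', ih, Function.iterate_succ_apply' σ, Function.iterate_succ_apply' τ]
      show σ (τ (σ^[n] (τ^[n] x))) = σ (σ^[n] (τ (τ^[n] x)))
      rw [(Function.Commute.iterate_right (f := ⇑τ) (g := ⇑σ) hτσ n).eq]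
  have hper : ∀ (f : E ≃* E) (N : ℕ), (∀ x, f^[N] x = x) → ∀ i y, f^[N * i] y = y := by
    intro f N hf i
    induction i with
    | zero => intro y; rfl
    | succ i ih => intro y; rw [Nat.mul_succ, Function.iterate_add_apply, hf, ih]
  have hle := commute_le ρ hirr hE hm (q := r * m) (Nat.one_le_iff_ne_zero.2 (Nat.mul_ne_zero hr.ne_zero (by omega)))
    (by rw [Nat.cast_mul]; exact mul_ne_zero hrk hmk) ψ
    (fun x => by rw [hψn, mul_comm r m, hper τ m hτm, mul_comm m r, hper σ r hσr])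
    (fun x c hc => hσc _ c (hτc x c hc)) (u * B)
    (fun x => by
      show u * B * ρ x = ρ (σ (τ x)) * (u * B)
      rw [mul_assoc, hB, ← mul_assoc, hu, mul_assoc])
    (by rw [(show Commute u B from hBu).mul_pow, pow_mul, hur, one_pow, one_mul, mul_comm r m, pow_mul,
      hBm, one_pow])
    (fun i hi0 hi x hx => ?_)
  · have hd := card_scalarQuot ρ hirr hE hm
    refine ⟨le_trans ?_ (hd ▸ hle.1), hd ▸ hle.1⟩
    refine Nat.add_le_add_right (Nat.mul_le_mul_left _ (Submodule.finrank_mono fun X hX => ?_)) 1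
    rw [mem_comm]
    rw [mul_assoc, mem_comm.1 hX.2, ← mul_assoc, mem_comm.1 hX.1, mul_assoc]
  · by_cases hmi : m ∣ i
    · obtain ⟨l, rfl⟩ := hmi
      rw [hψn, hper τ m hτm] at hx
      refine free_of_prime ρ hr hσr hσm hfpf _ (fun hd => ?_) x hx
      obtain ⟨c, rfl⟩ := (Nat.Coprime.dvd_of_dvd_mul_left hmr.symm hd)
      have : r * m ≤ m * (r * c) := by
        rcases Nat.eq_zero_or_pos c with rfl | hc0
        · simp at hi0
        · rw [← mul_assoc, mul_comm m r]; exact Nat.le_mul_of_pos_right _ hc0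
      omega
    · have hψs : ∀ d ∈ scalarSub ρ, ψ d ∈ scalarSub ρ := fun d hd => hσm _ (hτs d hd)
      have h1 := iterate_fix_mul ρ hψs hx r
      rw [hψn, mul_comm i r, hper σ r hσr] at h1
      exact hτfree _ (fun hd => hmi (Nat.Coprime.dvd_of_dvd_mul_left hmr hd)) x h1

/-- A centralizing operator of prime order with a scalar row. -/
theorem scalar_row (hirr : Irred ρ) (hE : ClassTwo ρ) (hm : (Nat.card (ScalarQuot ρ) : k) ≠ 0)
    (hne : scalarSub ρ ≠ ⊤) {r t : ℕ} [NeZero r] (hr : r.Prime) (hrk : (r : k) ≠ 0) (ht : t.Prime)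
    (htk : (t : k) ≠ 0) (htr : t ≠ r)
    (σ : E ≃* E) (hσr : ∀ x, σ^[r] x = x) (u : Module.End k W) (hur : u ^ r = 1)
    (hu : ∀ x, u * ρ x = ρ (σ x) * u) (hfpf : ∀ x, x⁻¹ * σ x ∈ scalarSub ρ → x ∈ scalarSub ρ)
    (τ : E ≃* E) (hτσ : ∀ x, τ (σ x) = σ (τ x)) (B : Module.End k W) (hBt : B ^ t = 1)
    (hB : ∀ x, B * ρ x = ρ (τ x) * B) (hBu : u * B = B * u) (hτt : ∀ x, τ^[t] x = x)
    (hτfpf : ∀ x, x⁻¹ * τ x ∈ scalarSub ρ → x ∈ scalarSub ρ)
    (ζ : rootsOfUnity r k) (hζ : Module.End.eigenspace u ((ζ : kˣ) : k) ≠ ⊥) (c : k)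
    (hrow : ∀ w ∈ Module.End.eigenspace u ((ζ : kˣ) : k), B w = c • w) :
    t = 2 ∧ Module.finrank k W = 2 * r - 1 ∧
      Module.finrank k (Module.End.eigenspace u ((ζ : kˣ) : k)) = 1 := by
  classical
  haveI : NeZero t := ⟨ht.ne_zero⟩
  have hσc := fix_scalar ρ hr.one_le hur hu
  have hτc := fix_scalar ρ ht.one_le hBt hB
  have hσm : ∀ d ∈ scalarSub ρ, σ d ∈ scalarSub ρ := fun d ⟨c, hc⟩ => ⟨c, hσc d c hc⟩
  have hτs : ∀ d ∈ scalarSub ρ, τ d ∈ scalarSub ρ := fun d ⟨c, hc⟩ => ⟨c, hτc d c hc⟩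
  have hcop : t.Coprime r := (Nat.coprime_primes ht hr).2 htr
  obtain ⟨hjoint, -⟩ := pair_le ρ hirr hE hm hr hrk ht.one_le htk hcop σ hσr u hur hu hfpf τ hτσ B hBt hB
    hBu hτt (free_of_prime ρ ht hτt hτs hτfpf)
  obtain ⟨-, hmod⟩ := commute_le ρ hirr hE hm hr.one_le hrk σ hσr hσc u hu hur
    fun i hi hir x hx => free_of_prime ρ hr hσr hσm hfpf i
      (fun h => Nat.not_lt.2 (Nat.le_of_dvd hi h) hir) x hx
  have hnr : ¬ r ∣ Module.finrank k W := by
    intro hd
    have h1 := hmod hne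
    rw [card_scalarQuot ρ hirr hE hm] at h1
    have h2 : (Module.finrank k W * Module.finrank k W) % r = 0 := Nat.mod_eq_zero_of_dvd (hd.mul_right _)
    unfold Nat.ModEq at h1
    rw [h2, Nat.one_mod_eq_one.2 hr.ne_one] at h1
    exact zero_ne_one h1
  let d : rootsOfUnity r k → ℕ := fun η => Module.finrank k (Module.End.eigenspace u ((η : kˣ) : k))
  have hsum : Module.finrank k W = ∑ η, d η := finrank_eigen_sum hur hrk
  have hres : ∀ η : rootsOfUnity r k, ∀ x ∈ Module.End.eigenspace u ((η : kˣ) : k),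
      B x ∈ Module.End.eigenspace u ((η : kˣ) : k) := fun η x hx => by
    rw [Module.End.mem_eigenspace_iff] at hx ⊢
    rw [← Module.End.mul_apply, hBu, Module.End.mul_apply, hx, map_smul]
  let g : rootsOfUnity r k → ℕ := fun η => Module.finrank k (comm (B.restrict (hres η)))
  have hC : ∑ η, g η ≤ Module.finrank k (comm u ⊓ comm B : Submodule k (Module.End k W)) :=
    sum_comm_le hur hrk B hBu
  have hrow1 : g ζ = d ζ ^ 2 := by
    show Module.finrank k (comm (B.restrict (hres ζ))) = _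
    rw [show comm (B.restrict (hres ζ)) = ⊤ from eq_top_iff.2 fun X _ => mem_comm.2
      (LinearMap.ext fun x => by
        have : ∀ y, (B.restrict (hres ζ)) y = c • y := fun y => Subtype.ext (hrow y y.2)
        rw [Module.End.mul_apply, Module.End.mul_apply, this, this, map_smul]),
      finrank_top, Module.finrank_linearMap, sq]
  -- each row, with a bonus when `t` does not divide its dimension
  have hrowη : ∀ η, d η ^ 2 + (t - 1) * (if t ∣ d η then 0 else 1) ≤ t * g η := by
    intro η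
    have hBp : (B.restrict (hres η)) ^ t = 1 := LinearMap.ext fun x => Subtype.ext (by
      have h : ∀ n, (((B.restrict (hres η)) ^ n) x : W) = (B ^ n) (x : W) := by
        intro n
        induction n with
        | zero => rfl
        | succ n ih => rw [pow_succ', pow_succ', Module.End.mul_apply, Module.End.mul_apply, ← ih]; rfl
      rw [h, hBt]; rfl)
    have h1 := finrank_le_comm hBp htk
    have h2 := finrank_eigen_sum hBp htk
    let e : rootsOfUnity t k → ℕ := fun θ =>
      Module.finrank k (Module.End.eigenspace (B.restrict (hres η)) ((θ : kˣ) : k))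
    have hde : d η = ∑ θ, e θ := h2
    rw [hde]
    by_cases hd : t ∣ ∑ θ, e θ
    · rw [if_pos hd, mul_zero, add_zero]
      refine le_trans ?_ (Nat.mul_le_mul_left t h1)
      refine (sq_sum_le_card_mul_sum_sq (s := Finset.univ) (f := e)).trans (le_of_eq ?_)
      rw [Finset.card_univ, card_roots htk]; rfl
    · rw [if_neg hd, mul_one]
      have h3 := (var_lower e (by rwa [card_roots htk])).1
      rw [card_roots htk] at h3
      have h4 := Nat.mul_le_mul_left t h1
      have ht1 := ht.one_le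
      show _ ≤ t * g η
      have h5 : t * ∑ θ, e θ ^ 2 ≤ t * g η := h4
      omega
  obtain ⟨hvar, hspread⟩ := var_lower d (by rw [card_roots hrk, ← hsum]; exact hnr)
  rw [card_roots hrk] at hvar hspread
  let K : rootsOfUnity r k → ℕ := fun η => if t ∣ d η then 0 else 1
  set others := (Finset.univ : Finset (rootsOfUnity r k)).erase ζ with hothers
  have hA : t * d ζ ^ 2 + ∑ η ∈ others, (d η ^ 2 + (t - 1) * K η) ≤ t * ∑ η, g η := by
    rw [← Finset.add_sum_erase _ _ (Finset.mem_univ ζ), hrow1, mul_add, Finset.mul_sum]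
    exact Nat.add_le_add_left (Finset.sum_le_sum fun η _ => hrowη η) _
  rw [Finset.sum_add_distrib, ← Finset.mul_sum] at hA
  have hsq : ∑ η, d η ^ 2 = d ζ ^ 2 + ∑ η ∈ others, d η ^ 2 :=
    (Finset.add_sum_erase _ _ (Finset.mem_univ ζ)).symm
  set So := ∑ η ∈ others, d η ^ 2
  set SK := ∑ η ∈ others, K η with hSK
  have h6 := Nat.mul_le_mul_left (r * t) hC
  have hd0 : 1 ≤ d ζ := by
    by_contra h0
    exact hζ (Submodule.finrank_eq_zero.1 (show Module.finrank k _ = 0 by
      show d ζ = 0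
      omega))
  rw [← sq, hsum] at hjoint
  obtain ⟨t', rfl⟩ : ∃ t', t = t' + 1 := ⟨t - 1, (Nat.sub_add_cancel ht.one_le).symm⟩
  have ht' : 1 ≤ t' := by have := ht.two_le; omega
  rw [Nat.add_sub_cancel] at hA
  have h7 := Nat.mul_le_mul_left r hA
  have hkey : r * (t' * (d ζ ^ 2 + SK)) ≤ r * t' := by
    rw [hsq] at hvar
    nlinarith
  have hkey' : d ζ ^ 2 + SK ≤ 1 := by
    have := Nat.le_of_mul_le_mul_left hkey hr.pos
    exact Nat.le_of_mul_le_mul_left (this.trans (mul_one t').ge) ht'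
  have hd1 : d ζ = 1 := by nlinarith
  have hSK0 : SK = 0 := by rw [hd1] at hkey'; omega
  have hdvd : ∀ η ∈ others, (t' + 1) ∣ d η := fun η hη => by
    have := (Finset.sum_eq_zero_iff.1 hSK0) η hη
    by_contra h
    simp [K, h] at this
  have hspr : ∀ η θ, d η ≤ d θ + 1 := by
    refine hspread ?_
    rw [hsq, hd1]
    rw [hd1, hSK0] at h7
    nlinarith
  have hval : ∀ η ∈ others, d η = 0 ∨ (d η = 2 ∧ t' + 1 = 2) := by
    intro η hη
    obtain ⟨l, hl⟩ := hdvd η hη
    have h1 := hspr η ζ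
    rw [hd1] at h1
    rcases Nat.eq_zero_or_pos l with rfl | hl0
    · exact Or.inl (by rw [hl, mul_zero])
    · have h2 : t' + 1 ≤ d η := hl ▸ Nat.le_mul_of_pos_right _ hl0
      exact Or.inr ⟨by omega, by omega⟩
  by_cases hall : ∀ η ∈ others, d η = 0
  · exfalso
    apply hne
    refine Subgroup.index_eq_one.1 ?_
    rw [Subgroup.index_eq_card]
    show Nat.card (ScalarQuot ρ) = 1
    rw [card_scalarQuot ρ hirr hE hm, hsum, ← Finset.add_sum_erase _ _ (Finset.mem_univ ζ),
      Finset.sum_eq_zero hall, hd1, add_zero, mul_one]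
  · push Not at hall
    obtain ⟨η₀, hη₀, hne0⟩ := hall
    obtain ⟨h20, ht2⟩ := (hval η₀ hη₀).resolve_left hne0
    have htwo : ∀ η ∈ others, d η = 2 := fun η hη => by
      rcases hval η hη with h | h
      · have := hspr η₀ η; omega
      · exact h.1
    refine ⟨ht2, ?_, hd1⟩
    rw [hsum, ← Finset.add_sum_erase _ _ (Finset.mem_univ ζ), Finset.sum_congr rfl htwo, Finset.sum_const,
      Finset.card_erase_of_mem (Finset.mem_univ ζ), Finset.card_univ, card_roots hrk, hd1, smul_eq_mul]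
    have := hr.two_le
    omega

end CfsgLib.PGroup.TurullFix
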