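import Cfsg.Agent.Lib.PGroup.TurullFix.Basic
import Cfsg.Agent.Lib.PGroup.TurullFix.Stable

/-!
Components of a group of class two under an operator of prime order, and the fixed vectors they show.
-/

set_option autoImplicit false
set_option linter.style.haveILetI false
set_option linter.unusedSectionVars false

namespace CfsgLib.PGroup.TurullFix

open CfsgLib.PGroup
open Subgroup
open scoped commutatorElement BigOperators

universe u v w

variable {H : Type u} [Group H] {k : Type v} [Field k] {W : Type w} [AddCommGroup W] [Module k W]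
  (ρ : H →* Module.End k W)

/-- The span of the vectors `g w - w`. -/
def cspan (G₁ : Subgroup H) : Submodule k W :=
  Submodule.span k {x | ∃ g ∈ G₁, ∃ w, ρ g w - w = x}

theorem sub_mem_cspan {G₁ : Subgroup H} {g : H} (hg : g ∈ G₁) (w : W) : ρ g w - w ∈ cspan ρ G₁ :=
  Submodule.subset_span ⟨g, hg, w, rfl⟩

theorem cspan_inv {G₁ : Subgroup H} {h : H} (hh : h ∈ normalizer (G₁ : Set H)) {x : W}
    (hx : x ∈ cspan ρ G₁) : ρ h x ∈ cspan ρ G₁ := by
  induction hx using Submodule.span_induction with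
  | mem x hx =>
    obtain ⟨g, hg, w, rfl⟩ := hx
    have : ρ h (ρ g w - w) = ρ (h * g * h⁻¹) (ρ h w) - ρ h w := by
      rw [map_sub, ← rep_mul_apply, ← rep_mul_apply, inv_mul_cancel_right]
    rw [this]
    exact sub_mem_cspan ρ ((mem_normalizer_iff.1 hh g).1 hg) _
  | zero => rw [map_zero]; exact zero_mem _
  | add x y _ _ hx hy => rw [map_add]; exact add_mem hx hy
  | smul c x _ hx => rw [map_smul]; exact Submodule.smul_mem _ c hx

theorem mem_cspan_of_scalar {G₁ : Subgroup H} {g : H} (hg : g ∈ G₁) {c : k} (hc : c ≠ 1) {w : W}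
    (hw : ρ g w = c • w) : w ∈ cspan ρ G₁ := by
  have h := Submodule.smul_mem _ (c - 1)⁻¹ (sub_mem_cspan ρ hg w)
  rwa [hw, show c • w - w = (c - 1) • w by rw [sub_smul, one_smul],
    inv_smul_smul₀ (sub_ne_zero.2 hc)] at h

/-- A subspace without fixed vectors lies in the span. -/
theorem le_cspan {G₁ : Subgroup H} [Fintype G₁] (hk : (Fintype.card G₁ : k) ≠ 0) {U : Submodule k W}
    (hU : ∀ g ∈ G₁, ∀ w ∈ U, ρ g w ∈ U) (hfix : ∀ w ∈ U, (∀ g ∈ G₁, ρ g w = w) → w = 0) :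
    U ≤ cspan ρ G₁ := by
  intro w hw
  have h0 : ∑ g : G₁, ρ (g : H) w = 0 := by
    refine hfix _ (sum_mem fun g _ => hU g g.2 w hw) fun h hh => ?_
    rw [map_sum]
    exact Fintype.sum_equiv (Equiv.mulLeft (⟨h, hh⟩ : G₁)) _ _ fun g => by
      rw [← rep_mul_apply]; rfl
  have h1 : (Fintype.card G₁ : k) • w = - ∑ g : G₁, (ρ (g : H) w - w) := by
    rw [Finset.sum_sub_distrib, h0, Finset.sum_const, Finset.card_univ, zero_sub, neg_neg,
      Nat.cast_smul_eq_nsmul]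
  rw [← inv_smul_smul₀ hk w, h1]
  exact Submodule.smul_mem _ _ (neg_mem (sum_mem fun g _ => sub_mem_cspan ρ g.2 w))

/-- An eigenvector of `Y`. -/
def Eig (Y : Subgroup H) (φ : H → k) (w : W) : Prop := ∀ y ∈ Y, ρ y w = φ y • w

/-- The eigenvectors of `Y` for `φ`. -/
def eigSub (Y : Subgroup H) (φ : H → k) : Submodule k W where
  carrier := {w | Eig ρ Y φ w}
  add_mem' := fun {x y} hx hy z hz => by rw [map_add, hx z hz, hy z hz, smul_add]
  zero_mem' := fun z _ => by rw [map_zero, smul_zero]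
  smul_mem' := fun c x hx z hz => by rw [map_smul, hx z hz, smul_comm]

theorem mem_eigSub {Y : Subgroup H} {φ : H → k} {w : W} : w ∈ eigSub ρ Y φ ↔ Eig ρ Y φ w := Iff.rfl

variable {ρ}

theorem Eig.homOn {Y : Subgroup H} {φ : H → k} {w : W} (h : Eig ρ Y φ w) (hw : w ≠ 0) : HomOn Y φ where
  map_one := smul_left_injective k hw (by
    show φ 1 • w = (1 : k) • w
    rw [← h 1 (one_mem Y), map_one, Module.End.one_apply, one_smul])
  map_mul x hx y hy := smul_left_injective k hw (by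
    show φ (x * y) • w = (φ x * φ y) • w
    rw [← h _ (mul_mem hx hy), rep_mul_apply, h y hy, map_smul, h x hx, smul_smul, mul_comm])

theorem Eig.map {Y : Subgroup H} {φ : H → k} {w : W} (h : Eig ρ Y φ w) {g : H}
    (hg : g ∈ normalizer (Y : Set H)) : Eig ρ Y (fun y => φ (g⁻¹ * y * g)) (ρ g w) := by
  intro y hy
  rw [← rep_mul_apply, show y * g = g * (g⁻¹ * y * g) by group, rep_mul_apply,
    h _ ((mem_normalizer_iff''.1 hg y).1 hy), map_smul]

theorem Eig.ne_zero {Y : Subgroup H} {φ : H → k} {w : W} (h : Eig ρ Y φ w) (hw : w ≠ 0) {y : H}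
    (hy : y ∈ Y) : φ y ≠ 0 := fun e => hw (rep_injective ρ y (by rw [h y hy, e, zero_smul, map_zero]))

variable (ρ)

/-- The projection to the eigenvectors. -/
noncomputable def proj [Finite H] (Y : Subgroup H) (φ : H → k) : Module.End k W :=
  letI := Fintype.ofFinite Y
  (Nat.card Y : k)⁻¹ • ∑ y : Y, (φ y)⁻¹ • ρ (y : H)

variable {ρ}

theorem proj_self [Finite H] {Y : Subgroup H} {φ : H → k} {w : W} (h : Eig ρ Y φ w)
    (hY : (Nat.card Y : k) ≠ 0) : proj ρ Y φ w = w := by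
  letI := Fintype.ofFinite Y
  by_cases hw : w = 0
  · rw [hw, map_zero]
  simp only [proj, LinearMap.smul_apply, LinearMap.sum_apply]
  rw [Finset.sum_congr rfl (g := fun _ => w) fun y _ => by
    rw [h y y.2, smul_smul, inv_mul_cancel₀ (h.ne_zero hw y.2), one_smul], Finset.sum_const,
    Finset.card_univ, ← Nat.card_eq_fintype_card, ← Nat.cast_smul_eq_nsmul k, inv_smul_smul₀ hY]

theorem proj_ne [Finite H] {Y : Subgroup H} {φ ψ : H → k} {v w : W} (hv : Eig ρ Y φ v) (hv0 : v ≠ 0)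
    (h : Eig ρ Y ψ w) (hne : ∃ y ∈ Y, φ y ≠ ψ y) : proj ρ Y φ w = 0 := by
  letI := Fintype.ofFinite Y
  by_cases hw : w = 0
  · rw [hw, map_zero]
  simp only [proj, LinearMap.smul_apply, LinearMap.sum_apply]
  obtain ⟨y₀, hy₀, hy⟩ := hne
  set s := ∑ y : Y, (φ (y : H))⁻¹ * ψ y with hs
  have h0 : s = 0 := by
    have e : ((φ y₀)⁻¹ * ψ y₀) * s = s := by
      rw [hs, Finset.mul_sum]
      refine Fintype.sum_equiv (Equiv.mulLeft (⟨y₀, hy₀⟩ : Y)) _ _ fun y => ?_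
      rw [Equiv.coe_mulLeft, Subgroup.coe_mul, (hv.homOn hv0).map_mul _ hy₀ _ y.2,
        (h.homOn hw).map_mul _ hy₀ _ y.2, mul_inv]
      ring
    by_contra hs0
    have h1 := mul_right_cancel₀ hs0 (e.trans (one_mul _).symm)
    rw [inv_mul_eq_one₀ (hv.ne_zero hv0 hy₀)] at h1
    exact hy h1
  rw [Finset.sum_congr rfl fun (y : Y) _ => by rw [h (y : H) y.2, smul_smul], ← Finset.sum_smul, ← hs, h0,
    zero_smul, smul_zero]

theorem sum_pow_fixed {a : H} {r : ℕ} (har : a ^ r = 1) (v : W) :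
    ρ a (∑ i ∈ Finset.range r, ρ (a ^ i) v) = ∑ i ∈ Finset.range r, ρ (a ^ i) v := by
  have e1 : ρ a (∑ i ∈ Finset.range r, ρ (a ^ i) v) = ∑ i ∈ Finset.range r, ρ (a ^ (i + 1)) v := by
    rw [map_sum]
    exact Finset.sum_congr rfl fun i _ => by rw [← rep_mul_apply, pow_succ']
  have e2 := Finset.sum_range_succ' (fun i => ρ (a ^ i) v) r
  rw [Finset.sum_range_succ, har, pow_zero, ← e1, add_left_inj] at e2
  exact e2.symm

theorem not_fixed_pow {Y : Subgroup H} {φ : H → k} {a : H} {r : ℕ} (hr : r.Prime) (har : a ^ r = 1)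
    (ha : a ∈ normalizer (Y : Set H)) (hmov : ∃ y ∈ Y, φ (a⁻¹ * y * a) ≠ φ y) {i : ℕ} (hi0 : i ≠ 0)
    (hir : i < r) : ∃ y ∈ Y, φ y ≠ φ ((a ^ i)⁻¹ * y * a ^ i) := by
  by_contra hc
  push Not at hc
  obtain ⟨y, hy, hne⟩ := hmov
  have hmul : ∀ j, ∀ z ∈ Y, φ ((a ^ (i * j))⁻¹ * z * a ^ (i * j)) = φ z := by
    intro j
    induction j with
    | zero => intro z _; simp
    | succ j ih =>
      intro z hz
      rw [Nat.mul_succ, pow_add,
        show (a ^ (i * j) * a ^ i)⁻¹ * z * (a ^ (i * j) * a ^ i) =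
          (a ^ i)⁻¹ * ((a ^ (i * j))⁻¹ * z * a ^ (i * j)) * a ^ i by group,
        ← hc _ ((mem_normalizer_iff''.1 (pow_mem ha _) z).1 hz), ih z hz]
  obtain ⟨j, hj⟩ := Nat.exists_mul_mod_eq_one_of_coprime
    ((Nat.coprime_of_lt_prime hi0 hir hr).symm) hr.one_lt
  have h := hmul j y hy
  rw [← Nat.mod_add_div (i * j) r, hj.2, pow_add, pow_one, pow_mul, har, one_pow, mul_one] at h
  exact hne h

/-- An operator fixing the fixed vectors of the span fixes a moved eigenvector. -/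
theorem moved_fix [Finite H] {Y : Subgroup H} (hY : (Nat.card Y : k) ≠ 0) {G₁ : Subgroup H} {a : H}
    {r : ℕ} (hr : r.Prime) (har : a ^ r = 1) (haY : a ∈ normalizer (Y : Set H))
    (haG : a ∈ normalizer (G₁ : Set H)) {y : H} (hya : Commute y a)
    (hy : ∀ w ∈ cspan ρ G₁, ρ a w = w → ρ y w = w) {φ : H → k} {w : W} (hw : Eig ρ Y φ w)
    (hyw : Eig ρ Y φ (ρ y w)) (hmov : ∃ z ∈ Y, φ (a⁻¹ * z * a) ≠ φ z) (hwV : w ∈ cspan ρ G₁) :
    ρ y w = w := by
  classical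
  by_contra hne
  set z := ρ y w - w with hz
  have hz0 : z ≠ 0 := sub_ne_zero.2 hne
  have hzE : Eig ρ Y φ z := (eigSub ρ Y φ).sub_mem hyw hw
  have h0 : ∑ i ∈ Finset.range r, ρ (a ^ i) z = 0 := by
    have hs := hy _ (sum_mem fun i _ => cspan_inv ρ (pow_mem haG i) hwV) (sum_pow_fixed har w)
    rw [map_sum] at hs
    rw [hz, Finset.sum_congr rfl fun i _ => map_sub (ρ (a ^ i)) _ _, Finset.sum_sub_distrib, sub_eq_zero]
    refine Eq.trans ?_ hs
    exact Finset.sum_congr rfl fun i _ => by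
      rw [← rep_mul_apply, ← rep_mul_apply, (hya.pow_right i).eq]
  have h := congrArg (proj ρ Y φ) h0
  rw [map_sum, map_zero, Finset.sum_eq_single 0] at h
  · rw [pow_zero, map_one, Module.End.one_apply, proj_self hzE hY] at h
    exact hz0 h
  · intro i hir hi0
    exact proj_ne hzE hz0 (hzE.map (pow_mem haY i))
      (not_fixed_pow hr har haY hmov hi0 (Finset.mem_range.1 hir))
  · exact fun h => absurd (Finset.mem_range.2 hr.pos) h

/-- An operator commuting with a commutative image is detected on an eigenvector. -/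
theorem exists_eig [IsAlgClosed k] [FiniteDimensional k W] [Finite H] {Y : Subgroup H}
    (hY : (Nat.card Y : k) ≠ 0) {U : Submodule k W} (hU : ∀ y ∈ Y, ∀ w ∈ U, ρ y w ∈ U)
    (hcomm : ∀ y ∈ Y, ∀ z ∈ Y, ∀ w ∈ U, ρ (y * z) w = ρ (z * y) w) (D : Module.End k W)
    (hDU : ∀ w ∈ U, D w ∈ U) (hD : ∀ y ∈ Y, ∀ w ∈ U, D (ρ y w) = ρ y (D w))
    (hne : ∃ w ∈ U, D w ≠ 0) : ∃ (φ : H → k) (w : W), w ∈ U ∧ Eig ρ Y φ w ∧ D w ≠ 0 := by
  classical
  haveI := Fintype.ofFinite Y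
  by_contra hc
  push Not at hc
  obtain ⟨w₀, hw₀, hDw⟩ := hne
  let ρ' := subRep ρ U Y hU
  let Y' : Subgroup Y := ⊤
  haveI := Fintype.ofFinite Y'
  haveI := finite_hom_units (k := k) (Y := Y')
  have hI : ImgComm ρ' Y' := fun y _ z _ => LinearMap.ext fun x => Subtype.ext (hcomm y y.2 z z.2 x x.2)
  have hk : (Fintype.card Y' : k) ≠ 0 := by
    rwa [← Nat.card_eq_fintype_card, Subgroup.card_top]
  have h := eq_zero_of_forall_eigen ρ' hI hk (D.restrict hDU)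
    (fun y _ x => Subtype.ext (hD y y.2 x x.2)) (fun χ x hx => Subtype.ext ?_)
  · exact hDw (congrArg Subtype.val (LinearMap.congr_fun h ⟨w₀, hw₀⟩))
  · show D (x : W) = 0
    refine hc (fun h => if hh : h ∈ Y then ((χ ⟨⟨h, hh⟩, mem_top _⟩ : kˣ) : k) else 1) x x.2 fun y hy => ?_
    have := congrArg Subtype.val (hx ⟨⟨y, hy⟩, mem_top _⟩)
    beta_reduce
    rw [dif_pos hy]
    exact this

/-! ### The configuration -/

/-- A faithful action of a group of class two normalised by an operator of prime order. -/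
structure Conf (ρ : H →* Module.End k W) (a : H) (r : ℕ) (P P0 : Subgroup H) (q : ℕ) : Prop where
  hr : r.Prime
  har : a ^ r = 1
  hrk : (r : k) ≠ 0
  hq : q.Prime
  hqk : (q : k) ≠ 0
  hrq : r ≠ q
  hP : IsPGroup q P
  haP : a ∈ normalizer (P : Set H)
  haP0 : a ∈ normalizer (P0 : Set H)
  hle : P0 ≤ P
  hab : ⁅P, P⁆ ≤ P0
  hcent : ∀ z ∈ P0, ∀ x ∈ P, Commute z x
  hfaith : ∀ x ∈ P, ρ x = 1 → x = 1

theorem commutator_mul_left (x y h : H) : ⁅x * y, h⁆ = x * ⁅y, h⁆ * x⁻¹ * ⁅x, h⁆ := by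
  simp only [commutatorElement_def]; group

theorem commutator_mul_right (g x y : H) : ⁅g, x * y⁆ = ⁅g, x⁆ * (x * ⁅g, y⁆ * x⁻¹) := by
  simp only [commutatorElement_def]; group

namespace Conf

variable {a : H} {r : ℕ} {P P0 : Subgroup H} {q : ℕ} (C : Conf ρ a r P P0 q)
include C

theorem card_ne_zero [Finite H] {Y : Subgroup H} (hY : Y ≤ P) : (Nat.card Y : k) ≠ 0 := by
  haveI : Fact q.Prime := ⟨C.hq⟩
  obtain ⟨n, hn⟩ := IsPGroup.iff_card.1 (C.hP.to_le hY)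
  rw [hn, Nat.cast_pow]
  exact pow_ne_zero _ C.hqk

theorem coprime_card [Finite H] {Y : Subgroup H} (hY : Y ≤ P) : r.Coprime (Nat.card Y) := by
  haveI : Fact q.Prime := ⟨C.hq⟩
  obtain ⟨n, hn⟩ := IsPGroup.iff_card.1 (C.hP.to_le hY)
  rw [hn]
  exact Nat.Coprime.pow_right n ((Nat.coprime_primes C.hr C.hq).2 C.hrq)

theorem comm_mem {g h : H} (hg : g ∈ P) (hh : h ∈ P) : ⁅g, h⁆ ∈ P0 :=
  C.hab (commutator_mem_commutator hg hh)

theorem conj_comm {g h x : H} (hg : g ∈ P) (hh : h ∈ P) (hx : x ∈ P) : x * ⁅g, h⁆ * x⁻¹ = ⁅g, h⁆ := by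
  rw [(C.hcent _ (C.comm_mem hg hh) x hx).symm.eq, mul_inv_cancel_right]

theorem comm_mul_left {x y h : H} (hx : x ∈ P) (hy : y ∈ P) (hh : h ∈ P) :
    ⁅x * y, h⁆ = ⁅y, h⁆ * ⁅x, h⁆ := by
  rw [commutator_mul_left, C.conj_comm hy hh hx]

theorem comm_mul_right {g x y : H} (hg : g ∈ P) (hx : x ∈ P) (hy : y ∈ P) :
    ⁅g, x * y⁆ = ⁅g, x⁆ * ⁅g, y⁆ := by
  rw [commutator_mul_right, C.conj_comm hg hy hx]

omit C in
theorem conj_mem_aComm (haP : a ∈ normalizer (P : Set H)) {h m : H} (hh : h ∈ P) (hm : m ∈ aComm P a) :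
    h * m * h⁻¹ ∈ aComm P a := by
  induction hm using closure_induction with
  | mem x hx =>
    obtain ⟨τ, hτ, rfl⟩ := hx
    rw [show h * (τ⁻¹ * (a * τ * a⁻¹)) * h⁻¹ = (τ * h⁻¹)⁻¹ * (a * (τ * h⁻¹) * a⁻¹) *
      ((h⁻¹)⁻¹ * (a * h⁻¹ * a⁻¹))⁻¹ by group]
    exact mul_mem (aComm_mem (mul_mem hτ (inv_mem hh))) (inv_mem (aComm_mem (inv_mem hh)))
  | one => rw [mul_one, mul_inv_cancel]; exact one_mem _
  | mul x y _ _ hx hy =>
    rw [show h * (x * y) * h⁻¹ = (h * x * h⁻¹) * (h * y * h⁻¹) by group]; exact mul_mem hx hy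
  | inv x _ hx => rw [show h * x⁻¹ * h⁻¹ = (h * x * h⁻¹)⁻¹ by group]; exact inv_mem hx

omit C in
theorem mem_normalizer_aComm {T : Subgroup H} (haT : a ∈ normalizer (T : Set H)) [Finite H] :
    a ∈ normalizer (aComm T a : Set H) := by
  have key : ∀ m ∈ aComm T a, a * m * a⁻¹ ∈ aComm T a := by
    intro m hm
    induction hm using closure_induction with
    | mem x hx =>
      obtain ⟨τ, hτ, rfl⟩ := hx
      rw [show a * (τ⁻¹ * (a * τ * a⁻¹)) * a⁻¹ = (a * τ * a⁻¹)⁻¹ * (a * (a * τ * a⁻¹) * a⁻¹) by group]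
      exact aComm_mem ((mem_normalizer_iff.1 haT τ).1 hτ)
    | one => rw [mul_one, mul_inv_cancel]; exact one_mem _
    | mul x y _ _ hx hy =>
      rw [show a * (x * y) * a⁻¹ = (a * x * a⁻¹) * (a * y * a⁻¹) by group]; exact mul_mem hx hy
    | inv x _ hx => rw [show a * x⁻¹ * a⁻¹ = (a * x * a⁻¹)⁻¹ by group]; exact inv_mem hx
  rw [← CfsgLib.Coprime.conjBy_eq_self_iff]
  refine eq_of_le_of_card_ge (fun x hx => ?_) (CfsgLib.Coprime.card_conjBy _ _).ge
  rw [CfsgLib.Coprime.mem_conjBy] at hx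
  have := key _ hx
  simpa [mul_assoc] using this

end Conf

/-- The radical of the pairing `φ ⁅g, h⁆`. -/
def Rad {a : H} {r : ℕ} {P P0 : Subgroup H} {q : ℕ} (C : Conf ρ a r P P0 q) {φ : H → k}
    (hφ : HomOn P0 φ) : Subgroup H where
  carrier := {g | g ∈ P ∧ ∀ h ∈ P, φ ⁅g, h⁆ = 1}
  one_mem' := ⟨one_mem P, fun h _ => by rw [commutatorElement_one_left, hφ.map_one]⟩
  mul_mem' := fun {x y} hx hy => ⟨mul_mem hx.1 hy.1, fun h hh => by
    rw [C.comm_mul_left hx.1 hy.1 hh, hφ.map_mul _ (C.comm_mem hy.1 hh) _ (C.comm_mem hx.1 hh), hy.2 h hh,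
      hx.2 h hh, one_mul]⟩
  inv_mem' := fun {x} hx => ⟨inv_mem hx.1, fun h hh => by
    have e := C.comm_mul_left hx.1 (inv_mem hx.1) hh
    rw [mul_inv_cancel, commutatorElement_one_left] at e
    have e2 := hφ.map_mul _ (C.comm_mem (inv_mem hx.1) hh) _ (C.comm_mem hx.1 hh)
    rw [← e, hφ.map_one, hx.2 h hh, mul_one] at e2
    exact e2.symm⟩

/-- A fixed component. -/
structure IsComp {a : H} {r : ℕ} {P P0 : Subgroup H} {q : ℕ} (C : Conf ρ a r P P0 q) (φ : H → k)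
    (R : Subgroup H) : Prop where
  hφ : HomOn P0 φ
  hR : R = Rad C hφ
  hfix0 : ∀ z ∈ P0, φ (a * z * a⁻¹) = φ z
  hfix : ∀ z ∈ R, φ (a * z * a⁻¹) = φ z
  hne : ∃ w, w ≠ 0 ∧ Eig ρ R φ w

section Component

variable {a : H} {r : ℕ} {P P0 : Subgroup H} {q : ℕ} (C : Conf ρ a r P P0 q)

theorem mem_Rad {φ : H → k} (hφ : HomOn P0 φ) {g : H} :
    g ∈ Rad C hφ ↔ g ∈ P ∧ ∀ h ∈ P, φ ⁅g, h⁆ = 1 := Iff.rfl

theorem P0_le_Rad {φ : H → k} (hφ : HomOn P0 φ) : P0 ≤ Rad C hφ := fun z hz => ⟨C.hle hz, fun h hh => by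
  rw [commutatorElement_eq_one_iff_commute.2 (C.hcent z hz h hh), hφ.map_one]⟩

include C in
/-- A pairing preserved by `a` is orthogonal between `⁅P, a⁆` and the fixed points. -/
theorem orth {φ : H → k} (hφ : HomOn P0 φ) (hfix : ∀ z ∈ P0, φ (a * z * a⁻¹) = φ z) {m y : H}
    (hm : m ∈ aComm P a) (hy : y ∈ P) (hya : a * y * a⁻¹ = y) : φ ⁅m, y⁆ = 1 ∧ φ ⁅y, m⁆ = 1 := by
  have hmP : m ∈ P := aComm_le C.haP hm
  have h1 : φ ⁅m, y⁆ = 1 := by
    let K : Subgroup H :=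
      { carrier := {g | g ∈ P ∧ φ ⁅g, y⁆ = 1}
        one_mem' := ⟨one_mem P, by rw [commutatorElement_one_left, hφ.map_one]⟩
        mul_mem' := fun {g g'} hg hg' => ⟨mul_mem hg.1 hg'.1, by
          rw [C.comm_mul_left hg.1 hg'.1 hy, hφ.map_mul _ (C.comm_mem hg'.1 hy) _ (C.comm_mem hg.1 hy),
            hg'.2, hg.2, one_mul]⟩
        inv_mem' := fun {g} hg => ⟨inv_mem hg.1, by
          have e := C.comm_mul_left hg.1 (inv_mem hg.1) hy
          rw [mul_inv_cancel, commutatorElement_one_left] at e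
          have e2 := hφ.map_mul _ (C.comm_mem (inv_mem hg.1) hy) _ (C.comm_mem hg.1 hy)
          rw [← e, hφ.map_one, hg.2, mul_one] at e2
          exact e2.symm⟩ }
    suffices h : aComm P a ≤ K from (h hm).2
    rw [aComm, closure_le]
    rintro x ⟨τ, hτ, rfl⟩
    have hτ' : a * τ * a⁻¹ ∈ P := (mem_normalizer_iff.1 C.haP τ).1 hτ
    refine ⟨mul_mem (inv_mem hτ) hτ', ?_⟩
    have e1 : φ ⁅a * τ * a⁻¹, y⁆ = φ ⁅τ, y⁆ := by
      conv_lhs => rw [show y = a * y * a⁻¹ from hya.symm]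
      rw [show ⁅a * τ * a⁻¹, a * y * a⁻¹⁆ = a * ⁅τ, y⁆ * a⁻¹ by simp only [commutatorElement_def]; group]
      exact hfix _ (C.comm_mem hτ hy)
    have e := C.comm_mul_left hτ (inv_mem hτ) hy
    rw [mul_inv_cancel, commutatorElement_one_left] at e
    rw [C.comm_mul_left (inv_mem hτ) hτ' hy, hφ.map_mul _ (C.comm_mem hτ' hy) _ (C.comm_mem (inv_mem hτ) hy),
      e1, mul_comm, ← hφ.map_mul _ (C.comm_mem (inv_mem hτ) hy) _ (C.comm_mem hτ hy), ← e, hφ.map_one]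
  refine ⟨h1, ?_⟩
  have h2 := hφ.map_mul _ (C.comm_mem hmP hy) _ (C.comm_mem hy hmP)
  rw [h1, one_mul, show ⁅m, y⁆ * ⁅y, m⁆ = 1 by rw [← commutatorElement_inv y m, inv_mul_cancel],
    hφ.map_one] at h2
  exact h2.symm

variable [Finite H]

include C in
/-- `P` is generated by `⁅P, a⁆` and the fixed points. -/
theorem mem_of_parts {K : Subgroup H} (h1 : aComm P a ≤ K)
    (h2 : ∀ y ∈ P, a * y * a⁻¹ = y → y ∈ K) : P ≤ K := by
  refine (CfsgLib.Coprime.commutator_sup_centralizer (A := zpowers a) (K := P)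
    (zpowers_le.2 C.haP) ?_ (Or.inl (CfsgLib.Coprime.isSolvable_of_isMulCommutative inferInstance))).ge.trans
    (sup_le ?_ ?_)
  · rw [Nat.card_zpowers]
    exact (C.coprime_card le_rfl).coprime_dvd_left (orderOf_dvd_of_pow_eq_one C.har)
  · rw [← aComm_eq (isOfFinOrder_of_finite a) C.haP]
    exact h1
  · exact fun y hy => h2 y (mem_inf.1 hy).1
      ((CfsgLib.Coprime.mem_centralizer_iff_conj_eq.1 (mem_inf.1 hy).2) a (mem_zpowers a))

theorem radical_fpf {φ : H → k} (hφ : HomOn P0 φ) (hfix : ∀ z ∈ P0, φ (a * z * a⁻¹) = φ z) {m : H}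
    (hm : m ∈ aComm P a) (h : m⁻¹ * (a * m * a⁻¹) ∈ Rad C hφ) : m ∈ Rad C hφ := by
  have hmP : m ∈ P := aComm_le C.haP hm
  refine ⟨hmP, fun h' hh' => ?_⟩
  have hm' : a * m * a⁻¹ ∈ P := (mem_normalizer_iff.1 C.haP m).1 hmP
  let f : H → k := fun p => φ ⁅m, p⁆
  have hf : HomOn P f := ⟨by simp only [f, commutatorElement_one_right, hφ.map_one], fun x hx y hy => by
    simp only [f, C.comm_mul_right hmP hx hy, hφ.map_mul _ (C.comm_mem hmP hx) _ (C.comm_mem hmP hy)]⟩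
  have hinv : ∀ p ∈ P, f (a * p * a⁻¹) = f p := by
    intro p hp
    have hp' : a * p * a⁻¹ ∈ P := (mem_normalizer_iff.1 C.haP p).1 hp
    have e1 : φ ⁅a * m * a⁻¹, a * p * a⁻¹⁆ = φ ⁅m, p⁆ := by
      rw [show ⁅a * m * a⁻¹, a * p * a⁻¹⁆ = a * ⁅m, p⁆ * a⁻¹ by simp only [commutatorElement_def]; group]
      exact hfix _ (C.comm_mem hmP hp)
    show φ ⁅m, a * p * a⁻¹⁆ = φ ⁅m, p⁆
    rw [← e1]
    have e2 := C.comm_mul_left hmP h.1 hp'
    rw [mul_inv_cancel_left] at e2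
    rw [e2, hφ.map_mul _ (C.comm_mem h.1 hp') _ (C.comm_mem hmP hp'), h.2 _ hp', one_mul]
  let K : Subgroup H :=
    { carrier := {p | p ∈ P ∧ f p = 1}
      one_mem' := ⟨one_mem P, hf.map_one⟩
      mul_mem' := fun {x y} hx hy => ⟨mul_mem hx.1 hy.1, by rw [hf.map_mul _ hx.1 _ hy.1, hx.2, hy.2, one_mul]⟩
      inv_mem' := fun {x} hx => ⟨inv_mem hx.1, by
        have := hf.map_inv_mul hx.1
        rwa [hx.2, mul_one] at this⟩ }
  suffices hK : P ≤ K from (hK hh').2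
  refine mem_of_parts C ?_ fun y hy hya => ⟨hy, (orth C hφ hfix hm hy hya).1⟩
  rw [aComm, closure_le]
  rintro x ⟨τ, hτ, rfl⟩
  refine ⟨mul_mem (inv_mem hτ) ((mem_normalizer_iff.1 C.haP τ).1 hτ), ?_⟩
  rw [hf.map_mul _ (inv_mem hτ) _ ((mem_normalizer_iff.1 C.haP τ).1 hτ), hinv τ hτ, hf.map_inv_mul hτ]

variable {φ : H → k} {R : Subgroup H} (K : IsComp C φ R)
include K

omit [Finite H] in
theorem IsComp.le : R ≤ P := fun g hg => by rw [K.hR] at hg; exact hg.1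

omit [Finite H] in
theorem IsComp.P0_le : P0 ≤ R := K.hR ▸ P0_le_Rad C K.hφ

omit [Finite H] in
theorem IsComp.homOn : HomOn R φ := by
  obtain ⟨w, hw0, hw⟩ := K.hne
  exact hw.homOn hw0

theorem IsComp.conj_a_mem {g : H} (hg : g ∈ R) : a * g * a⁻¹ ∈ R := by
  rw [K.hR] at hg ⊢
  refine ⟨(mem_normalizer_iff.1 C.haP g).1 hg.1, fun h hh => ?_⟩
  have hh' : a⁻¹ * h * a ∈ P := (mem_normalizer_iff''.1 C.haP h).1 hh
  rw [show ⁅a * g * a⁻¹, h⁆ = a * ⁅g, a⁻¹ * h * a⁆ * a⁻¹ by simp only [commutatorElement_def]; group,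
    K.hfix0 _ (C.comm_mem hg.1 hh')]
  exact hg.2 _ hh'

theorem IsComp.a_mem : a ∈ normalizer (R : Set H) := by
  rw [← CfsgLib.Coprime.conjBy_eq_self_iff]
  refine eq_of_le_of_card_ge (fun x hx => ?_) (CfsgLib.Coprime.card_conjBy _ _).ge
  rw [CfsgLib.Coprime.mem_conjBy] at hx
  have := K.conj_a_mem C hx
  simpa [mul_assoc] using this

theorem IsComp.conj_P_mem {g h : H} (hh : h ∈ P) (hg : g ∈ R) : h * g * h⁻¹ ∈ R := by
  rw [show h * g * h⁻¹ = ⁅h, g⁆ * g by rw [commutatorElement_def]; group]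
  exact mul_mem (K.P0_le C (C.comm_mem hh (K.le C hg))) hg

/-- On the component, `P` commutes up to the pairing. -/
theorem IsComp.swap {w : W} (hw : Eig ρ R φ w) {g h : H} (hg : g ∈ P) (hh : h ∈ P) :
    ρ (g * h) w = φ ⁅g, h⁆ • ρ (h * g) w := by
  rw [show g * h = (h * g) * ⁅g, h⁆ by
    rw [← (C.hcent _ (C.comm_mem hg hh) _ (mul_mem hh hg)).eq, commutatorElement_def]; group,
    rep_mul_apply, hw _ (K.P0_le C (C.comm_mem hg hh)), map_smul]

theorem IsComp.smul_invariant {w : W} (hw : Eig ρ R φ w) {h : H} (hh : h ∈ P) : Eig ρ R φ (ρ h w) := by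
  intro g hg
  have hgR : g ∈ Rad C K.hφ := K.hR ▸ hg
  rw [← rep_mul_apply, K.swap C hw (K.le C hg) hh, hgR.2 h hh, one_smul, rep_mul_apply, hw g hg, map_smul]

theorem IsComp.a_invariant {w : W} (hw : Eig ρ R φ w) : Eig ρ R φ (ρ a w) := by
  intro g hg
  rw [hw.map (K.a_mem C) g hg]
  congr 1
  have h := K.hfix _ ((mem_normalizer_iff''.1 (K.a_mem C) g).1 hg)
  rw [show a * (a⁻¹ * g * a) * a⁻¹ = g by group] at h
  exact h.symm

/-- Vectors fixed by an element of `⁅P, a⁆` outside the radical. -/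
theorem IsComp.no_fixed {G₁ : Subgroup H} (hG : G₁ ≤ P) {g h : H} (hg : g ∈ G₁) (hh : h ∈ P)
    (hne : φ ⁅g, h⁆ ≠ 1) (hn : h⁻¹ * g * h ∈ G₁) {w : W} (hw : Eig ρ R φ w)
    (hfix : ∀ x ∈ G₁, ρ x w = w) : w = 0 := by
  have e := K.swap C hw (hG hg) hh
  have e1 : ρ (g * h) w = ρ h w := by
    rw [show g * h = h * (h⁻¹ * g * h) by group, rep_mul_apply, hfix _ hn]
  rw [e1, rep_mul_apply, hfix g hg] at e
  by_contra hw0
  refine hne (smul_left_injective k (fun h0 => hw0 (rep_injective ρ h (h0.trans (map_zero _).symm))) ?_)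
  show φ ⁅g, h⁆ • ρ h w = (1 : k) • ρ h w
  rw [one_smul, ← e]

theorem IsComp.le_cspan (hne : ¬ aComm P a ≤ R) {w : W} (hw : Eig ρ R φ w) :
    w ∈ cspan ρ (aComm P a) := by
  classical
  haveI := Fintype.ofFinite (aComm P a)
  obtain ⟨g, hg, hgR⟩ := SetLike.not_le_iff_exists.1 hne
  have hgP := aComm_le C.haP hg
  rw [K.hR] at hgR
  obtain ⟨h, hh, hh1⟩ : ∃ h ∈ P, φ ⁅g, h⁆ ≠ 1 := by
    by_contra hc
    push Not at hc
    exact hgR ⟨hgP, hc⟩
  refine TurullFix.le_cspan ρ (G₁ := aComm P a) (by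
    rw [← Nat.card_eq_fintype_card]; exact C.card_ne_zero (aComm_le C.haP)) (U := eigSub ρ R φ)
    (fun x hx v hv => K.smul_invariant C hv (aComm_le C.haP hx)) (fun v hv hfix =>
      K.no_fixed C (aComm_le C.haP) hg hh hh1 ?_ hv hfix) hw
  have := Conf.conj_mem_aComm (P := P) C.haP (inv_mem hh) hg
  simpa using this

variable [IsAlgClosed k] [FiniteDimensional k W]

/-- A component on which a fixed element moves a vector, although it fixes all fixed vectors: either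
`⁅P, a⁆` is scalar, or some invariant subspace has no fixed vector. -/
theorem IsComp.invisible {y : H} (hy : y ∈ P) (hya : a * y * a⁻¹ = y)
    (hfix : ∀ w ∈ cspan ρ (aComm P a), ρ a w = w → ρ y w = w) {w : W} (hw : Eig ρ R φ w)
    (hyw : ρ y w ≠ w) : aComm P a ≤ R ∨ ∃ X : Submodule k W, X ≠ ⊥ ∧ (∀ x ∈ X, Eig ρ R φ x) ∧
      (∀ m ∈ aComm P a, ∀ x ∈ X, ρ m x ∈ X) ∧ (∀ x ∈ X, ρ a x ∈ X) ∧ ∀ x ∈ X, ρ a x = x → x = 0 := by
  classical
  refine or_iff_not_imp_left.2 fun hne => ⟨(eigSub ρ R φ).map (ρ y - 1), ?_, ?_, ?_, ?_, ?_⟩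
  · intro e
    have hm : (ρ y - 1) w ∈ (eigSub ρ R φ).map (ρ y - 1) := Submodule.mem_map_of_mem hw
    rw [e, Submodule.mem_bot, LinearMap.sub_apply, Module.End.one_apply, sub_eq_zero] at hm
    exact hyw hm
  · rintro x ⟨v, hv, rfl⟩
    exact (eigSub ρ R φ).sub_mem (K.smul_invariant C hv hy) hv
  · rintro m hm x ⟨v, hv, rfl⟩
    refine ⟨ρ m v, K.smul_invariant C hv (aComm_le C.haP hm), ?_⟩
    rw [LinearMap.sub_apply, LinearMap.sub_apply, Module.End.one_apply, Module.End.one_apply, map_sub,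
      ← rep_mul_apply ρ y, ← rep_mul_apply ρ m, K.swap C hv hy (aComm_le C.haP hm),
      (orth C K.hφ K.hfix0 hm hy hya).2, one_smul]
  · rintro x ⟨v, hv, rfl⟩
    refine ⟨ρ a v, K.a_invariant C hv, ?_⟩
    rw [LinearMap.sub_apply, LinearMap.sub_apply, Module.End.one_apply, Module.End.one_apply, map_sub,
      ← rep_mul_apply ρ y, ← rep_mul_apply ρ a, show a * y = y * a from mul_inv_eq_iff_eq_mul.1 hya]
  · rintro x ⟨v, hv, rfl⟩ hax
    set v' := (r : k)⁻¹ • ∑ i ∈ Finset.range r, ρ (a ^ i) v with hv'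
    have hit : ∀ i, Eig ρ R φ (ρ (a ^ i) v) := by
      intro i
      induction i with
      | zero => rw [pow_zero, map_one]; exact hv
      | succ i ih => rw [pow_succ', rep_mul_apply]; exact K.a_invariant C ih
    have hv'E : Eig ρ R φ v' :=
      (eigSub ρ R φ).smul_mem _ ((eigSub ρ R φ).sum_mem fun i _ => hit i)
    have hfixv : ρ a v' = v' := by rw [hv', map_smul, sum_pow_fixed C.har]
    have h0 : (ρ y - 1) v' = 0 := by
      rw [LinearMap.sub_apply, Module.End.one_apply, hfix v' (K.le_cspan C hne hv'E) hfixv, sub_self]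
    rw [← h0, hv', map_smul, map_sum]
    have hai : ∀ i, ρ (a ^ i) ((ρ y - 1) v) = (ρ y - 1) v := by
      intro i
      induction i with
      | zero => rw [pow_zero, map_one]; rfl
      | succ i ih => rw [pow_succ', rep_mul_apply, ih, hax]
    rw [Finset.sum_congr rfl (g := fun _ => (ρ y - 1) v) fun i _ => by
      conv_rhs => rw [← hai i]
      rw [LinearMap.sub_apply, LinearMap.sub_apply, Module.End.one_apply, Module.End.one_apply, map_sub,
        ← rep_mul_apply, ← rep_mul_apply,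
        ((show Commute y a from (mul_inv_eq_iff_eq_mul.1 hya).symm).pow_right i).eq],
      Finset.sum_const, Finset.card_range, ← Nat.cast_smul_eq_nsmul k, inv_smul_smul₀ C.hrk]

omit [IsAlgClosed k] in
/-- The representation of `⁅P, a⁆` on an invariant subspace of a component. -/
theorem IsComp.sub_rep {X : Submodule k W} (hX0 : X ≠ ⊥) (hXE : ∀ x ∈ X, Eig ρ R φ x)
    (hXM : ∀ m ∈ aComm P a, ∀ x ∈ X, ρ m x ∈ X) :
    ClassTwo (subRep ρ X (aComm P a) hXM) ∧ Nondeg (subRep ρ X (aComm P a) hXM) ∧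
      scalarSub (subRep ρ X (aComm P a) hXM) = R.subgroupOf (aComm P a) := by
  haveI : Nontrivial X := Submodule.nontrivial_iff_ne_bot.2 hX0
  set M := aComm P a
  set ρ' := subRep ρ X M hXM
  have hscal : ∀ m : M, (m : H) ∈ R → m ∈ scalarSub ρ' := fun m hm => ⟨φ m,
    LinearMap.ext fun x => Subtype.ext (hXE x x.2 m hm)⟩
  have hkey : ∀ m : M, (∀ n : M, ρ' (m * n) = ρ' (n * m)) → (m : H) ∈ R := by
    intro m hm
    rw [K.hR]
    have hmP : (m : H) ∈ P := aComm_le C.haP m.2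
    refine ⟨hmP, fun h hh => ?_⟩
    let L : Subgroup H :=
      { carrier := {p | p ∈ P ∧ φ ⁅(m : H), p⁆ = 1}
        one_mem' := ⟨one_mem P, by rw [commutatorElement_one_right, K.hφ.map_one]⟩
        mul_mem' := fun {x y} hx hy => ⟨mul_mem hx.1 hy.1, by
          rw [C.comm_mul_right hmP hx.1 hy.1, K.hφ.map_mul _ (C.comm_mem hmP hx.1) _ (C.comm_mem hmP hy.1),
            hx.2, hy.2, one_mul]⟩
        inv_mem' := fun {x} hx => ⟨inv_mem hx.1, by
          have e := C.comm_mul_right hmP hx.1 (inv_mem hx.1)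
          rw [mul_inv_cancel, commutatorElement_one_right] at e
          have e2 := K.hφ.map_mul _ (C.comm_mem hmP hx.1) _ (C.comm_mem hmP (inv_mem hx.1))
          rw [← e, K.hφ.map_one, hx.2, one_mul] at e2
          exact e2.symm⟩ }
    suffices hL : P ≤ L from (hL hh).2
    refine mem_of_parts C (fun n hn => ⟨aComm_le C.haP hn, ?_⟩) fun y hy hya =>
      ⟨hy, (orth C K.hφ K.hfix0 m.2 hy hya).1⟩
    obtain ⟨x, hx, hx0⟩ := X.exists_mem_ne_zero_of_ne_bot hX0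
    have e : ρ ((m : H) * n) x = ρ (n * (m : H)) x :=
      congrArg Subtype.val (LinearMap.congr_fun (hm ⟨n, hn⟩) ⟨x, hx⟩)
    have e2 := K.swap C (hXE x hx) hmP (aComm_le C.haP hn)
    rw [e] at e2
    refine smul_left_injective k (show ρ (n * (m : H)) x ≠ 0 from fun h0 =>
      hx0 (rep_injective ρ _ (h0.trans (map_zero _).symm))) ?_
    show φ ⁅(m : H), n⁆ • ρ (n * (m : H)) x = (1 : k) • ρ (n * (m : H)) x
    rw [one_smul, ← e2]
  refine ⟨fun x y => hscal _ ?_, fun m hm => hscal m (hkey m hm), le_antisymm (fun m hm => ?_)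
    fun m hm => hscal m hm⟩
  · exact K.P0_le C (C.comm_mem (aComm_le C.haP x.2) (aComm_le C.haP y.2))
  · obtain ⟨c, hc⟩ := hm
    exact hkey m fun n => by rw [map_mul, map_mul, hc, smul_mul_assoc, one_mul, mul_smul_comm, mul_one]

omit K [FiniteDimensional k W] [IsAlgClosed k] in
/-- Conjugation by an element normalizing a subgroup. -/
theorem exists_conjEquiv {M : Subgroup H} {b : H} (hb : b ∈ normalizer (M : Set H)) :
    ∃ s : M ≃* M, (∀ m : M, (s m : H) = b * m * b⁻¹) ∧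
      ∀ (n : ℕ) (m : M), ((s^[n] m : M) : H) = b ^ n * m * (b ^ n)⁻¹ := by
  refine ⟨{ toFun := fun x => ⟨b * x * b⁻¹, (mem_normalizer_iff.1 hb x).1 x.2⟩
            invFun := fun x => ⟨b⁻¹ * x * b, (mem_normalizer_iff''.1 hb x).1 x.2⟩
            left_inv := fun x => Subtype.ext (by simp [mul_assoc])
            right_inv := fun x => Subtype.ext (by simp [mul_assoc])
            map_mul' := fun x y => Subtype.ext (by simp [mul_assoc]) }, fun m => rfl, fun n => ?_⟩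
  induction n with
  | zero => intro m; simp
  | succ n ih =>
    intro m
    rw [Function.iterate_succ_apply']
    show b * _ * b⁻¹ = _
    rw [ih, pow_succ']
    group

/-- The operator on an invariant subspace of a component. -/
theorem IsComp.operator {X : Submodule k W} (hX0 : X ≠ ⊥) (hXE : ∀ x ∈ X, Eig ρ R φ x)
    (hXM : ∀ m ∈ aComm P a, ∀ x ∈ X, ρ m x ∈ X) (hXa : ∀ x ∈ X, ρ a x ∈ X) :
    ∃ (s : aComm P a ≃* aComm P a) (u : Module.End k X), (∀ m, (s m : H) = a * m * a⁻¹) ∧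
      (∀ m, s^[r] m = m) ∧ u ^ r = 1 ∧ (∀ x : X, ((u x : X) : W) = ρ a x) ∧
      (∀ m, u * subRep ρ X (aComm P a) hXM m = subRep ρ X (aComm P a) hXM (s m) * u) ∧
      ∀ m, m⁻¹ * s m ∈ scalarSub (subRep ρ X (aComm P a) hXM) →
        m ∈ scalarSub (subRep ρ X (aComm P a) hXM) := by
  obtain ⟨s, hs, hsn⟩ := exists_conjEquiv (Conf.mem_normalizer_aComm (T := P) C.haP)
  obtain ⟨-, -, hsc⟩ := K.sub_rep C hX0 hXE hXM
  refine ⟨s, (ρ a).restrict hXa, hs, fun m => Subtype.ext (by rw [hsn, C.har, one_mul, inv_one, mul_one]),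
    ?_, fun x => rfl, fun m => ?_, fun m hm => ?_⟩
  · have h : ∀ n (x : X), ((((ρ a).restrict hXa) ^ n) x : W) = ρ (a ^ n) (x : W) := by
      intro n
      induction n with
      | zero => intro x; rw [pow_zero, pow_zero, map_one]; rfl
      | succ n ih =>
        intro x
        rw [pow_succ', pow_succ', rep_mul_apply, Module.End.mul_apply, ← ih x]
        rfl
    exact LinearMap.ext fun x => Subtype.ext (by rw [h, C.har, map_one]; rfl)
  · refine LinearMap.ext fun x => Subtype.ext ?_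
    show ρ a (ρ (m : H) (x : W)) = ρ (s m : H) (ρ a (x : W))
    rw [hs, ← rep_mul_apply, ← rep_mul_apply, inv_mul_cancel_right]
  · rw [hsc, mem_subgroupOf] at hm ⊢
    rw [Subgroup.coe_mul, Subgroup.coe_inv, hs, K.hR] at hm
    rw [K.hR]
    exact radical_fpf C K.hφ K.hfix0 m.2 hm

/-- The size of an invisible component. -/
theorem IsComp.exceptional {X : Submodule k W} (hX0 : X ≠ ⊥) (hXE : ∀ x ∈ X, Eig ρ R φ x)
    (hXM : ∀ m ∈ aComm P a, ∀ x ∈ X, ρ m x ∈ X) (hXa : ∀ x ∈ X, ρ a x ∈ X)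
    (hfix : ∀ x ∈ X, ρ a x = x → x = 0) (hne : ¬ aComm P a ≤ R) :
    q = 2 ∧ 3 ≤ r ∧ R.relIndex (aComm P a) = (r - 1) * (r - 1) := by
  classical
  haveI : Nontrivial X := Submodule.nontrivial_iff_ne_bot.2 hX0
  obtain ⟨hE, hnd, hsc⟩ := K.sub_rep C hX0 hXE hXM
  obtain ⟨s, u, -, hsr, hur, hu', hu, hfpf⟩ := K.operator C hX0 hXE hXM hXa
  set ρ' := subRep ρ X (aComm P a) hXM
  haveI : Fact q.Prime := ⟨C.hq⟩
  obtain ⟨j, hj⟩ := IsPGroup.iff_card.1 (C.hP.to_le (aComm_le C.haP (T := P)))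
  obtain ⟨i, -, hi⟩ := (Nat.dvd_prime_pow C.hq).1 (hj ▸ (scalarSub ρ').card_quotient_dvd_card)
  have hm : (Nat.card (ScalarQuot ρ') : k) ≠ 0 := by
    show ((Nat.card (_ ⧸ scalarSub ρ') : ℕ) : k) ≠ 0
    rw [hi, Nat.cast_pow]; exact pow_ne_zero _ C.hqk
  have hne' : scalarSub ρ' ≠ ⊤ := fun h => hne (subgroupOf_eq_top.1 (hsc ▸ h))
  obtain ⟨d, hd, hrd⟩ := hh_core ρ' hE hnd hm C.hr C.hrk s hsr u hur hu
    (fun x hx => Subtype.ext (hfix x x.2 (by rw [← hu', hx]))) hfpf hne'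
  have hrel : R.relIndex (aComm P a) = d * d := by
    rw [← hd, Subgroup.relIndex, ← hsc, Subgroup.index_eq_card]
  have hd1 : d ≠ 1 := by
    intro h
    refine hne' (Subgroup.index_eq_one.1 ?_)
    rw [Subgroup.index_eq_card]
    exact hd.trans (by rw [h])
  have hd0 : d ≠ 0 := by
    intro h
    rw [h, mul_zero] at hd
    exact Nat.card_pos.ne' hd
  refine ⟨?_, by omega, by rw [hrel, hrd, Nat.add_sub_cancel]⟩
  rcases C.hr.eq_two_or_odd' with h2 | hodd
  · omega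
  · have hev : Even d := by
      rw [hrd] at hodd
      exact Nat.not_odd_iff_even.1 fun ho => (Nat.not_even_iff_odd.2 hodd) ho.add_one
    have h2 : 2 ∣ q ^ i := by
      rw [← hi]
      show 2 ∣ Nat.card (ScalarQuot ρ')
      rw [hd]; exact (hev.two_dvd).mul_right d
    exact ((Nat.prime_dvd_prime_iff_eq Nat.prime_two C.hq).1 (Nat.prime_two.dvd_of_dvd_pow h2)).symm

omit K in
/-- A nontrivial fixed element fixing all fixed vectors moves an invisible fixed component. -/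
theorem exists_component {y : H} (hy : y ∈ P) (hya : a * y * a⁻¹ = y)
    (hfix : ∀ w ∈ cspan ρ (aComm P a), ρ a w = w → ρ y w = w) (hy1 : y ≠ 1) :
    ∃ (φ : H → k) (R : Subgroup H) (w : W), IsComp C φ R ∧ Eig ρ R φ w ∧ w ≠ 0 ∧ ρ y w ≠ w ∧
      (¬ aComm P a ≤ R → q = 2 ∧ 3 ≤ r ∧ R.relIndex (aComm P a) = (r - 1) * (r - 1)) := by
  classical
  have hya' : Commute y a := (mul_inv_eq_iff_eq_mul.1 hya).symm
  have haM := Conf.mem_normalizer_aComm (T := P) C.haP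
  have hmoved : ∀ (Y : Subgroup H) (ψ : H → k) (w : W), Y ≤ P → a ∈ normalizer (Y : Set H) →
      w ≠ 0 → Eig ρ Y ψ w → Eig ρ Y ψ (ρ y w) → (∃ z ∈ Y, ψ (a⁻¹ * z * a) ≠ ψ z) → ρ y w = w := by
    intro Y ψ w hYP haY hw0 hw hyw hmov
    refine moved_fix (C.card_ne_zero hYP) C.hr C.har haY haM hya' hfix hw hyw hmov ?_
    obtain ⟨z, hz, hne⟩ := hmov
    set z' := a⁻¹ * z * a with hz'
    have hz'Y : z' ∈ Y := (mem_normalizer_iff''.1 haY z).1 hz
    refine mem_cspan_of_scalar ρ (g := z'⁻¹ * (a * z' * a⁻¹)) (aComm_mem (hYP hz'Y))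
      (c := ψ z'⁻¹ * ψ z) (fun e => hne ?_) ?_
    · have := (hw.homOn hw0).map_inv_mul hz'Y
      rw [← e] at this
      exact mul_left_cancel₀ (hw.ne_zero hw0 (inv_mem hz'Y)) this
    · rw [show a * z' * a⁻¹ = z by rw [hz']; group, ← (hw.homOn hw0).map_mul _ (inv_mem hz'Y) _ hz]
      exact hw _ (mul_mem (inv_mem hz'Y) hz)
  have hD : ρ y - 1 ≠ 0 := fun h => hy1 (C.hfaith y hy (sub_eq_zero.1 h))
  obtain ⟨χ, w₀, -, hw₀, hDw₀⟩ := exists_eig (ρ := ρ) (Y := P0) (C.card_ne_zero C.hle) (U := ⊤)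
    (fun _ _ _ _ => Submodule.mem_top)
    (fun u hu v hv w _ => by rw [(C.hcent u hu v (C.hle hv)).eq]) (ρ y - 1)
    (fun _ _ => Submodule.mem_top)
    (fun z hz w _ => by
      rw [LinearMap.sub_apply, LinearMap.sub_apply, Module.End.one_apply, Module.End.one_apply, map_sub,
        ← rep_mul_apply, ← rep_mul_apply, (C.hcent z hz y hy).eq])
    (by
      by_contra hc
      push Not at hc
      exact hD (LinearMap.ext fun w => hc w Submodule.mem_top))
  have hyw₀ : ρ y w₀ ≠ w₀ := fun h => hDw₀ (by rw [LinearMap.sub_apply, Module.End.one_apply, h, sub_self])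
  have hw₀0 : w₀ ≠ 0 := fun h => hyw₀ (by rw [h, map_zero])
  have hχ : HomOn P0 χ := hw₀.homOn hw₀0
  have hkeep : ∀ v, Eig ρ P0 χ v → ∀ p ∈ P, Eig ρ P0 χ (ρ p v) := fun v hv p hp z hz => by
    rw [← rep_mul_apply, (C.hcent z hz p hp).eq, rep_mul_apply, hv z hz, map_smul]
  have hfix0 : ∀ z ∈ P0, χ (a * z * a⁻¹) = χ z := by
    intro z hz
    by_contra hne
    exact hyw₀ (hmoved P0 χ w₀ C.hle C.haP0 hw₀0 hw₀ (hkeep w₀ hw₀ y hy)
      ⟨_, (mem_normalizer_iff.1 C.haP0 z).1 hz, by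
        rw [show a⁻¹ * (a * z * a⁻¹) * a = z by group]; exact Ne.symm hne⟩)
  set R := Rad C hχ with hR
  have hcommR : ∀ g ∈ R, ∀ p ∈ P, ∀ v, Eig ρ P0 χ v → ρ (g * p) v = ρ (p * g) v := by
    intro g hg p hp v hv
    rw [show g * p = (p * g) * ⁅g, p⁆ by
      rw [← (C.hcent _ (C.comm_mem hg.1 hp) _ (mul_mem hp hg.1)).eq, commutatorElement_def]; group,
      rep_mul_apply, hv _ (C.comm_mem hg.1 hp), hg.2 p hp, one_smul]
  obtain ⟨φ, w, hwU, hw, hDw⟩ := exists_eig (ρ := ρ) (Y := R) (C.card_ne_zero fun g hg => hg.1)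
    (U := eigSub ρ P0 χ) (fun g hg v hv => hkeep v hv g hg.1)
    (fun g hg g' hg' v hv => hcommR g hg g' hg'.1 v hv) (ρ y - 1)
    (fun v hv => (eigSub ρ P0 χ).sub_mem (hkeep v hv y hy) hv)
    (fun g hg v hv => by
      rw [LinearMap.sub_apply, LinearMap.sub_apply, Module.End.one_apply, Module.End.one_apply, map_sub,
        ← rep_mul_apply, ← rep_mul_apply, hcommR g hg y hy v hv]) ⟨w₀, hw₀, hDw₀⟩
  have hyw : ρ y w ≠ w := fun h => hDw (by rw [LinearMap.sub_apply, Module.End.one_apply, h, sub_self])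
  have hw0 : w ≠ 0 := fun h => hyw (by rw [h, map_zero])
  have hφχ : ∀ z ∈ P0, φ z = χ z := fun z hz =>
    smul_left_injective k hw0 ((hw z (P0_le_Rad C hχ hz)).symm.trans (hwU z hz))
  have hφ0 : HomOn P0 φ := (hw.homOn hw0).mono (P0_le_Rad C hχ)
  have hR' : R = Rad C hφ0 := by
    ext g
    refine and_congr_right fun hg => forall_congr' fun h => forall_congr' fun hh => ?_
    rw [hφχ _ (C.comm_mem hg hh)]
  have hφfix0 : ∀ z ∈ P0, φ (a * z * a⁻¹) = φ z := fun z hz => by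
    rw [hφχ z hz, hφχ _ ((mem_normalizer_iff.1 C.haP0 z).1 hz), hfix0 z hz]
  have haR : a ∈ normalizer (R : Set H) := by
    have key : ∀ g ∈ R, a * g * a⁻¹ ∈ R := fun g hg => ⟨(mem_normalizer_iff.1 C.haP g).1 hg.1, fun h hh => by
      have hh' : a⁻¹ * h * a ∈ P := (mem_normalizer_iff''.1 C.haP h).1 hh
      rw [show ⁅a * g * a⁻¹, h⁆ = a * ⁅g, a⁻¹ * h * a⁆ * a⁻¹ by simp only [commutatorElement_def]; group,
        hfix0 _ (C.comm_mem hg.1 hh')]
      exact hg.2 _ hh'⟩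
    rw [← CfsgLib.Coprime.conjBy_eq_self_iff]
    refine eq_of_le_of_card_ge (fun x hx => ?_) (CfsgLib.Coprime.card_conjBy _ _).ge
    rw [CfsgLib.Coprime.mem_conjBy] at hx
    have := key _ hx
    simpa [mul_assoc] using this
  have hkeepR : Eig ρ R φ (ρ y w) := fun g hg => by
    rw [← rep_mul_apply, hcommR g hg y hy w hwU, rep_mul_apply, hw g hg, map_smul]
  have hφfix : ∀ z ∈ R, φ (a * z * a⁻¹) = φ z := by
    intro z hz
    by_contra hne
    exact hyw (hmoved R φ w (fun g hg => hg.1) haR hw0 hw hkeepR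
      ⟨_, (mem_normalizer_iff.1 haR z).1 hz, by
        rw [show a⁻¹ * (a * z * a⁻¹) * a = z by group]; exact Ne.symm hne⟩)
  have K : IsComp C φ R := ⟨hφ0, hR', hφfix0, hφfix, w, hw0, hw⟩
  refine ⟨φ, R, w, K, hw, hw0, hyw, fun hne => ?_⟩
  obtain ⟨X, hX0, hXE, hXM, hXa, hXfix⟩ := (K.invisible C hy hya hfix hw hyw).resolve_left hne
  exact K.exceptional C hX0 hXE hXM hXa hXfix hne

end Component

end CfsgLib.PGroup.TurullFix
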