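import Mathlib.RingTheory.RootsOfUnity.EnoughRootsOfUnity
import Mathlib.LinearAlgebra.Eigenspace.Basic
import Mathlib.Algebra.Order.Chebyshev
import Cfsg.Agent.Lib.PGroup.HallHighman

/-!
Dimensions of eigenspaces and commutants of operators of finite order on representations of class two.
-/

set_option autoImplicit false
set_option linter.style.haveILetI false
set_option linter.unusedSectionVars false

namespace CfsgLib.PGroup.TurullFix

open CfsgLib.PGroup
open scoped BigOperators

universe u v w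

section Arith

variable {ι : Type u} [Fintype ι]

/-- The variance of natural numbers whose sum is not a multiple of their number. -/
theorem var_lower (d : ι → ℕ) (h : ¬ Fintype.card ι ∣ ∑ i, d i) :
    (∑ i, d i) ^ 2 + Fintype.card ι ≤ Fintype.card ι * ∑ i, d i ^ 2 + 1 ∧
      (Fintype.card ι * ∑ i, d i ^ 2 + 1 ≤ (∑ i, d i) ^ 2 + Fintype.card ι →
        ∀ i j, d i ≤ d j + 1) := by
  classical
  rcases isEmpty_or_nonempty ι with hι | hι
  · exact absurd (by simp) h
  obtain ⟨i₀, hi₀⟩ := Finite.exists_min d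
  set c := Fintype.card ι with hc
  set M := d i₀ with hM
  let e : ι → ℕ := fun i => d i - M
  have hd : ∀ i, d i = M + e i := fun i => (Nat.add_sub_cancel' (hi₀ i)).symm
  set S := ∑ i, e i with hS
  set Q := ∑ i, e i ^ 2 with hQ
  have hsum : ∑ i, d i = c * M + S := by
    rw [Finset.sum_congr rfl fun i _ => hd i, Finset.sum_add_distrib, Finset.sum_const, Finset.card_univ,
      smul_eq_mul]
  have hsq : ∑ i, d i ^ 2 = c * M ^ 2 + 2 * M * S + Q := by
    rw [Finset.sum_congr rfl (g := fun i => (M ^ 2 + 2 * M * e i) + e i ^ 2) fun i _ => by rw [hd i]; ring,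
      Finset.sum_add_distrib, Finset.sum_add_distrib, Finset.sum_const, Finset.card_univ, smul_eq_mul,
      ← Finset.mul_sum]
  set s := Finset.univ.filter fun i => e i ≠ 0 with hs
  set z := s.card with hz
  have hSs : S = ∑ i ∈ s, e i := (Finset.sum_filter_ne_zero _).symm
  have hQs : Q = ∑ i ∈ s, e i ^ 2 := (Finset.sum_filter_of_ne fun i _ hi => by
    intro h0; rw [h0] at hi; simp at hi).symm
  have hCS : S ^ 2 ≤ z * Q := by rw [hSs, hQs]; exact sq_sum_le_card_mul_sum_sq
  have hzQ : z ≤ Q := by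
    rw [hQs, hz, Finset.card_eq_sum_ones]
    exact Finset.sum_le_sum fun i hi => Nat.one_le_pow _ _ (Nat.pos_of_ne_zero (Finset.mem_filter.1 hi).2)
  have hzc : z < c := by
    rw [hz, hc, ← Finset.card_univ]
    refine Finset.card_lt_card ⟨Finset.subset_univ _, fun hsub => ?_⟩
    exact (Finset.mem_filter.1 (hsub (Finset.mem_univ i₀))).2 (Nat.sub_self _)
  have hz1 : 1 ≤ z := by
    by_contra h0
    have hS0 : S = 0 := by
      rw [hSs, Finset.card_eq_zero.1 (show s.card = 0 by omega), Finset.sum_empty]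
    exact h ⟨M, by rw [hsum, hS0, add_zero]⟩
  obtain ⟨f, hf⟩ := Nat.exists_eq_add_of_lt hzc
  rw [hsum, hsq]
  have hkey : z + f ≤ z * (f + 1) := by nlinarith
  refine ⟨by nlinarith [Nat.mul_le_mul_left (f + 1) hzQ], fun hup i j => ?_⟩
  have hQz : Q = z := by
    refine le_antisymm ?_ hzQ
    by_contra hlt
    nlinarith [Nat.mul_le_mul_left (f + 1) (show z + 1 ≤ Q by omega)]
  have he1 : e i ≤ 1 := by
    by_cases hi : i ∈ s
    · by_contra hgt
      have h2 : ∑ i ∈ s, 1 < ∑ i ∈ s, e i ^ 2 :=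
        Finset.sum_lt_sum (fun i hi => Nat.one_le_pow _ _ (Nat.pos_of_ne_zero (Finset.mem_filter.1 hi).2))
          ⟨i, hi, by nlinarith⟩
      rw [← Finset.card_eq_sum_ones, ← hQs, ← hz, hQz] at h2
      exact lt_irrefl _ h2
    · simp [s] at hi; omega
  have := hd i
  have := hi₀ j
  omega

end Arith

variable {k : Type v} [Field k] {W : Type w} [AddCommGroup W] [Module k W]

/-- The operators commuting with `b`. -/
def comm (b : Module.End k W) : Submodule k (Module.End k W) :=
  LinearMap.ker (LinearMap.mulLeft k b - LinearMap.mulRight k b)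

theorem mem_comm {b X : Module.End k W} : X ∈ comm b ↔ b * X = X * b := by
  simp [comm, sub_eq_zero]

noncomputable scoped instance rootsFintype {k : Type v} [Field k] {N : ℕ} [NeZero N] :
    Fintype (rootsOfUnity N k) := Fintype.ofFinite _

section Eigen

variable [IsAlgClosed k] [FiniteDimensional k W] {N : ℕ} [NeZero N]

theorem card_roots (hN : (N : k) ≠ 0) : Fintype.card (rootsOfUnity N k) = N := by
  haveI : NeZero (N : k) := ⟨hN⟩
  rw [← Nat.card_eq_fintype_card, HasEnoughRootsOfUnity.natCard_rootsOfUnity]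

theorem root_pow (ζ : rootsOfUnity N k) : ((ζ : kˣ) : k) ^ N = 1 := by
  rw [← Units.val_pow_eq_pow_val, (mem_rootsOfUnity N _).1 ζ.2, Units.val_one]

theorem sum_roots_pow (hN : (N : k) ≠ 0) {j : ℕ} (hj : ¬ N ∣ j) :
    ∑ ζ : rootsOfUnity N k, ((ζ : kˣ) : k) ^ j = 0 := by
  haveI : NeZero (N : k) := ⟨hN⟩
  obtain ⟨ξ, hξ⟩ := HasEnoughRootsOfUnity.exists_primitiveRoot k N
  let ξu : rootsOfUnity N k := rootsOfUnity.mkOfPowEq ξ hξ.pow_eq_one
  have e : ξ ^ j * ∑ ζ : rootsOfUnity N k, ((ζ : kˣ) : k) ^ j =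
      ∑ ζ : rootsOfUnity N k, ((ζ : kˣ) : k) ^ j := by
    rw [Finset.mul_sum]
    refine Fintype.sum_equiv (Equiv.mulLeft ξu) _ _ fun ζ => ?_
    rw [Equiv.coe_mulLeft, Subgroup.coe_mul, Units.val_mul, mul_pow]
    rfl
  by_contra hne
  exact hj ((hξ.pow_eq_one_iff_dvd j).1 (mul_right_cancel₀ hne (e.trans (one_mul _).symm)))

variable (b : Module.End k W)

/-- Projection to an eigenspace of an operator of order dividing `N`. -/
def eproj (N : ℕ) (ζ : k) : Module.End k W := (N : k)⁻¹ • ∑ i ∈ Finset.range N, (ζ⁻¹) ^ i • b ^ i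

variable {b}

theorem eproj_apply (ζ : k) (w : W) :
    eproj b N ζ w = (N : k)⁻¹ • ∑ i ∈ Finset.range N, (ζ⁻¹) ^ i • (b ^ i) w := by
  simp [eproj, LinearMap.sum_apply]

theorem eproj_comm (hc : Module.End k W) (h : b * hc = hc * b) (ζ : k) (w : W) :
    hc (eproj b N ζ w) = eproj b N ζ (hc w) := by
  rw [eproj_apply, eproj_apply, map_smul, map_sum]
  congr 1
  refine Finset.sum_congr rfl fun i _ => ?_
  rw [map_smul, ← Module.End.mul_apply, ← (Commute.pow_left h i).eq, Module.End.mul_apply]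

theorem eproj_mem (hb : b ^ N = 1) {ζ : k} (hζ : ζ ^ N = 1) (w : W) :
    eproj b N ζ w ∈ Module.End.eigenspace b ζ := by
  have hζ0 : ζ ≠ 0 := fun e => by rw [e, zero_pow (NeZero.ne N)] at hζ; exact zero_ne_one hζ
  rw [Module.End.mem_eigenspace_iff, eproj_apply, map_smul, map_sum, smul_comm ζ, Finset.smul_sum (r := ζ)]
  congr 1
  let f : ℕ → W := fun i => (ζ * (ζ⁻¹) ^ i) • (b ^ i) w
  have e1 : ∀ i ∈ Finset.range N, b ((ζ⁻¹) ^ i • (b ^ i) w) = f (i + 1) := by
    intro i _
    rw [map_smul, ← Module.End.mul_apply, ← pow_succ']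
    show _ = (ζ * (ζ⁻¹) ^ (i + 1)) • _
    congr 1
    rw [pow_succ', ← mul_assoc, mul_inv_cancel₀ hζ0, one_mul]
  rw [Finset.sum_congr rfl e1, Finset.sum_congr rfl fun i _ => smul_smul ζ _ _]
  have e2 := Finset.sum_range_succ' f N
  rw [Finset.sum_range_succ, show f N = f 0 by simp [f, hb, inv_pow, hζ], add_left_inj] at e2
  exact e2.symm

theorem sum_eproj (hb : b ^ N = 1) (hN : (N : k) ≠ 0) (w : W) :
    ∑ ζ : rootsOfUnity N k, eproj b N ((ζ : kˣ) : k) w = w := by
  simp only [eproj_apply]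
  rw [← Finset.smul_sum, Finset.sum_comm, Finset.sum_eq_single 0]
  · simp [Finset.sum_const, card_roots hN, ← Nat.cast_smul_eq_nsmul k, smul_smul, inv_mul_cancel₀ hN]
  · intro i hi hi0
    rw [← Finset.sum_smul]
    have : ∑ ζ : rootsOfUnity N k, (((ζ : kˣ) : k)⁻¹) ^ i = 0 := by
      rw [← sum_roots_pow hN (j := i) fun hd => hi0 (Nat.eq_zero_of_dvd_of_lt hd (Finset.mem_range.1 hi))]
      exact Fintype.sum_equiv (Equiv.inv _) _ _ fun ζ => by simp
    rw [this, zero_smul]
  · exact fun h => absurd (Finset.mem_range.2 (Nat.pos_of_ne_zero (NeZero.ne N))) h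

theorem eproj_eigen (hN : (N : k) ≠ 0) {ζ η : k} (hζ : ζ ^ N = 1) (hη : η ^ N = 1) {w : W}
    (hw : w ∈ Module.End.eigenspace b η) [Decidable (ζ = η)] :
    eproj b N ζ w = if ζ = η then w else 0 := by
  have hp : ∀ i : ℕ, (b ^ i) w = η ^ i • w := by
    intro i
    induction i with
    | zero => simp
    | succ i ih =>
      rw [pow_succ', Module.End.mul_apply, ih, map_smul, Module.End.mem_eigenspace_iff.1 hw, smul_smul,
        ← pow_succ]
  rw [eproj_apply, Finset.sum_congr rfl fun i _ => by rw [hp i, smul_smul, ← mul_pow], ← Finset.sum_smul,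
    smul_smul]
  have hζ0 : ζ ≠ 0 := fun e => by rw [e, zero_pow (NeZero.ne N)] at hζ; exact zero_ne_one hζ
  split
  · next h => rw [h, inv_mul_cancel₀ (h ▸ hζ0)]; simp [inv_mul_cancel₀ hN]
  · next h =>
    have h1 : ζ⁻¹ * η ≠ 1 := fun e => h (by rw [← mul_one ζ, ← e, mul_inv_cancel_left₀ hζ0])
    rw [geom_sum_eq h1, mul_pow, inv_pow, hζ, hη, inv_one, mul_one, sub_self, zero_div, mul_zero, zero_smul]

variable (hb : b ^ N = 1) (hN : (N : k) ≠ 0)
include hb hN

/-- The decomposition into eigenspaces. -/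
noncomputable def eigenEquiv : W ≃ₗ[k] ∀ ζ : rootsOfUnity N k, Module.End.eigenspace b ((ζ : kˣ) : k) where
  toFun w ζ := ⟨eproj b N _ w, eproj_mem hb (root_pow ζ) w⟩
  map_add' x y := funext fun ζ => Subtype.ext (map_add _ x y)
  map_smul' c x := funext fun ζ => Subtype.ext (map_smul _ c x)
  invFun X := ∑ ζ, (X ζ : W)
  left_inv w := sum_eproj hb hN w
  right_inv X := funext fun ζ => Subtype.ext (by
    classical
    show eproj b N _ (∑ η, (X η : W)) = _
    rw [map_sum, Finset.sum_eq_single ζ]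
    · rw [eproj_eigen hN (root_pow ζ) (root_pow ζ) (X ζ).2, if_pos rfl]
    · intro η _ hne
      rw [eproj_eigen hN (root_pow ζ) (root_pow η) (X η).2,
        if_neg fun e => hne (Subtype.ext (Units.ext e.symm))]
    · exact fun h => absurd (Finset.mem_univ _) h)

theorem finrank_eigen_sum :
    Module.finrank k W = ∑ ζ : rootsOfUnity N k, Module.finrank k (Module.End.eigenspace b ((ζ : kˣ) : k)) := by
  rw [(eigenEquiv hb hN).finrank_eq, Module.finrank_pi_fintype]

/-- Operators commuting with `b` and `c`, eigenspace by eigenspace. -/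
theorem sum_comm_le (c : Module.End k W) (hbc : b * c = c * b) :
    ∑ ζ : rootsOfUnity N k, Module.finrank k
        (comm (c.restrict (p := Module.End.eigenspace b ((ζ : kˣ) : k))
          (q := Module.End.eigenspace b ((ζ : kˣ) : k)) fun x hx => by
            rw [Module.End.mem_eigenspace_iff] at hx ⊢
            rw [← Module.End.mul_apply, hbc, Module.End.mul_apply, hx, map_smul])) ≤
      Module.finrank k (comm b ⊓ comm c : Submodule k (Module.End k W)) := by
  classical
  have hres : ∀ ζ : rootsOfUnity N k, ∀ x ∈ Module.End.eigenspace b ((ζ : kˣ) : k),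
      c x ∈ Module.End.eigenspace b ((ζ : kˣ) : k) := fun ζ x hx => by
    rw [Module.End.mem_eigenspace_iff] at hx ⊢
    rw [← Module.End.mul_apply, hbc, Module.End.mul_apply, hx, map_smul]
  let π : ∀ ζ : rootsOfUnity N k, W →ₗ[k] Module.End.eigenspace b ((ζ : kˣ) : k) :=
    fun ζ => LinearMap.proj ζ ∘ₗ (eigenEquiv hb hN).toLinearMap
  have hπ : ∀ (ζ : rootsOfUnity N k) (w : W),
      ((π ζ w : Module.End.eigenspace b ((ζ : kˣ) : k)) : W) = eproj b N ((ζ : kˣ) : k) w := fun ζ w => rfl
  have hπ' : ∀ (ζ : rootsOfUnity N k) (x : Module.End.eigenspace b ((ζ : kˣ) : k)), π ζ (x : W) = x := fun ζ x =>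
    Subtype.ext (by rw [hπ, eproj_eigen hN (root_pow ζ) (root_pow ζ) x.2, if_pos rfl])
  let Φ : (∀ ζ : rootsOfUnity N k, comm (c.restrict (hres ζ))) →ₗ[k] Module.End k W :=
    { toFun := fun X => ∑ ζ, (Submodule.subtype _).comp ((X ζ).1.comp (π ζ))
      map_add' := fun X Y => by simp [LinearMap.add_comp, LinearMap.comp_add, Finset.sum_add_distrib]
      map_smul' := fun a X => by simp [LinearMap.smul_comp, LinearMap.comp_smul, Finset.smul_sum] }
  have hΦ : ∀ (X : ∀ ζ : rootsOfUnity N k, comm (c.restrict (hres ζ))) (w : W),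
      Φ X w = ∑ ζ : rootsOfUnity N k, (((X ζ).1 (π ζ w) : Module.End.eigenspace b ((ζ : kˣ) : k)) : W) :=
    fun X w => by simp [Φ, LinearMap.sum_apply]
  have hinj : Function.Injective Φ := by
    intro X Y h
    funext ζ
    refine Subtype.ext (LinearMap.ext fun x => ?_)
    have h1 : ∀ Z : ∀ ζ : rootsOfUnity N k, comm (c.restrict (hres ζ)), π ζ (Φ Z (x : W)) = (Z ζ).1 x := by
      intro Z
      rw [hΦ]
      exact (congrFun ((eigenEquiv hb hN).apply_symm_apply fun η => (Z η).1 (π η (x : W))) ζ).trans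
        (by rw [hπ'])
    rw [← h1 X, ← h1 Y, h]
  have hrange : LinearMap.range Φ ≤ comm b ⊓ comm c := by
    rintro _ ⟨X, rfl⟩
    refine ⟨mem_comm.2 (LinearMap.ext fun w => ?_), mem_comm.2 (LinearMap.ext fun w => ?_)⟩
    · rw [Module.End.mul_apply, Module.End.mul_apply, hΦ, hΦ, map_sum]
      refine Finset.sum_congr rfl fun ζ _ => ?_
      rw [Module.End.mem_eigenspace_iff.1 ((X ζ).1 (π ζ w)).2]
      have e : π ζ (b w) = ((ζ : kˣ) : k) • π ζ w := Subtype.ext (by
        rw [hπ, ← eproj_comm b rfl, Submodule.coe_smul, hπ]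
        exact Module.End.mem_eigenspace_iff.1 (eproj_mem hb (root_pow ζ) w))
      rw [e, map_smul, Submodule.coe_smul]
    · rw [Module.End.mul_apply, Module.End.mul_apply, hΦ, hΦ, map_sum]
      refine Finset.sum_congr rfl fun ζ _ => ?_
      have e : π ζ (c w) = (c.restrict (hres ζ)) (π ζ w) := Subtype.ext (by
        rw [hπ, ← eproj_comm c hbc]; rfl)
      rw [e]
      exact congrArg Subtype.val (LinearMap.congr_fun (mem_comm.1 (X ζ).2) (π ζ w))
  refine le_trans (le_of_eq ?_) (Submodule.finrank_mono hrange)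
  rw [LinearMap.finrank_range_of_inj hinj, Module.finrank_pi_fintype]

end Eigen

/-- A scalar operator commutes with everything. -/
theorem comm_one [FiniteDimensional k W] :
    Module.finrank k (comm (1 : Module.End k W)) = Module.finrank k W * Module.finrank k W := by
  rw [show comm (1 : Module.End k W) = ⊤ from eq_top_iff.2 fun X _ => mem_comm.2 (by rw [one_mul, mul_one]),
    finrank_top, Module.finrank_linearMap]

theorem finrank_le_comm [IsAlgClosed k] [FiniteDimensional k W] {m : ℕ} [NeZero m] {c : Module.End k W}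
    (hc : c ^ m = 1) (hm : (m : k) ≠ 0) :
    ∑ η : rootsOfUnity m k, Module.finrank k (Module.End.eigenspace c ((η : kˣ) : k)) ^ 2 ≤
      Module.finrank k (comm c) := by
  classical
  refine le_trans (le_of_eq ?_) ((sum_comm_le hc hm c rfl).trans (Submodule.finrank_mono inf_le_left))
  refine Finset.sum_congr rfl fun η _ => ?_
  set R := c.restrict (p := Module.End.eigenspace c ((η : kˣ) : k)) (q := Module.End.eigenspace c ((η : kˣ) : k)) _
  rw [show comm R = ⊤ from eq_top_iff.2 fun X _ => mem_comm.2 (LinearMap.ext fun x => by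
    rw [Module.End.mul_apply, Module.End.mul_apply]
    have : ∀ y, R y = ((η : kˣ) : k) • y := fun y => Subtype.ext (Module.End.mem_eigenspace_iff.1 y.2)
    rw [this, this, map_smul]), finrank_top, Module.finrank_linearMap, sq]

section Orbits

variable {E : Type u} [Group E] [Finite E] (ρ : E →* Module.End k W)
variable [IsAlgClosed k] [FiniteDimensional k W]

/-- The orbit bound for the commutant of an operator acting semiregularly modulo the scalars. -/
theorem commute_le [Nontrivial W] (hirr : Irred ρ) (hE : ClassTwo ρ)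
    (hm : (Nat.card (ScalarQuot ρ) : k) ≠ 0) {q : ℕ} (hq1 : 1 ≤ q) (hqk : (q : k) ≠ 0) (σ : E ≃* E)
    (hσq : ∀ x, σ^[q] x = x) (hσ : ∀ x (c : k), ρ x = c • 1 → ρ (σ x) = c • 1)
    (b : Module.End k W) (hb : ∀ x, b * ρ x = ρ (σ x) * b) (hbq : b ^ q = 1)
    (hfree : ∀ i, 0 < i → i < q → ∀ x, x⁻¹ * σ^[i] x ∈ scalarSub ρ → x ∈ scalarSub ρ) :
    q * Module.finrank k (comm b) + 1 ≤ Nat.card (ScalarQuot ρ) + q ∧
      (scalarSub ρ ≠ ⊤ → Nat.card (ScalarQuot ρ) ≡ 1 [MOD q]) := by
  classical
  haveI := scalarSub_normal ρ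
  haveI := Fintype.ofFinite (ScalarQuot ρ)
  have hm' : (Fintype.card (ScalarQuot ρ) : k) ≠ 0 := by rwa [← Nat.card_eq_fintype_card]
  let avg : Module.End k W →ₗ[k] Module.End k W :=
    ∑ i ∈ Finset.range q, (LinearMap.mulLeft k (b ^ i)).comp (LinearMap.mulRight k (b ^ (q - i)))
  have havg : ∀ X, avg X = ∑ i ∈ Finset.range q, b ^ i * (X * b ^ (q - i)) := fun X => by
    simp [avg, LinearMap.sum_apply]
  have hconj : ∀ X, avg (b * X * b ^ (q - 1)) = avg X := by
    intro X
    let f : ℕ → Module.End k W := fun i => b ^ i * (X * b ^ (q - i))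
    have e1 : ∀ i ∈ Finset.range q, b ^ i * (b * X * b ^ (q - 1) * b ^ (q - i)) = f (i + 1) := by
      intro i hi
      rw [Finset.mem_range] at hi
      have e : b ^ (q - 1) * b ^ (q - i) = b ^ (q - (i + 1)) := by
        rw [← pow_add, show q - 1 + (q - i) = q + (q - (i + 1)) by omega, pow_add, hbq, one_mul]
      simp only [f, mul_assoc]
      rw [e, pow_succ, mul_assoc]
    have e2 := Finset.sum_range_succ' f q
    rw [Finset.sum_range_succ, show f q = f 0 by simp [f, hbq], add_left_inj] at e2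
    rw [havg, havg, Finset.sum_congr rfl e1]
    exact e2.symm
  have hρσ : ∀ x, avg (ρ (σ x)) = avg (ρ x) := by
    intro x
    rw [← hconj (ρ x), hb, mul_assoc, ← pow_succ', Nat.sub_add_cancel hq1, hbq, mul_one]
  have hmap : (scalarSub ρ).map (σ : E →* E) = scalarSub ρ :=
    Subgroup.eq_of_le_of_card_ge
      (Subgroup.map_le_iff_le_comap.2 fun x ⟨c, hc⟩ => ⟨c, hσ x c hc⟩)
      (Subgroup.card_map_of_injective σ.injective).ge
  let σ' : Equiv.Perm (ScalarQuot ρ) :=
    (QuotientGroup.congr (scalarSub ρ) (scalarSub ρ) σ hmap).toEquiv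
  have hσmk : ∀ x : E, σ' (QuotientGroup.mk x) = QuotientGroup.mk (σ x) := fun x => rfl
  have hσ1 : σ' 1 = 1 := by
    have := hσmk 1
    rwa [map_one, QuotientGroup.mk_one] at this
  have hσ'n : ∀ (n : ℕ) (x : E), (σ' ^ n) (QuotientGroup.mk x) = QuotientGroup.mk (σ^[n] x) := by
    intro n x
    induction n with
    | zero => rfl
    | succ n ih => rw [pow_succ', Equiv.Perm.mul_apply, ih, hσmk, Function.iterate_succ_apply']
  have hσ'q : σ' ^ q = 1 := by
    refine Equiv.ext fun i => ?_
    obtain ⟨x, rfl⟩ := QuotientGroup.mk_surjective i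
    rw [hσ'n, hσq, Equiv.Perm.one_apply]
  let P := Subgroup.zpowers σ'
  haveI := Fintype.ofFinite P
  haveI := Fintype.ofFinite (Quotient (MulAction.orbitRel P (ScalarQuot ρ)))
  have hPle : Fintype.card P ≤ q := by
    rw [← Nat.card_eq_fintype_card, Nat.card_zpowers]
    exact Nat.le_of_dvd hq1 (orderOf_dvd_of_pow_eq_one hσ'q)
  have hpfix : ∀ a : P, (a : Equiv.Perm (ScalarQuot ρ)) 1 = 1 := fun a =>
    (Subgroup.zpowers_le.2 (show σ' ∈ MulAction.stabilizer (Equiv.Perm (ScalarQuot ρ))
      (1 : ScalarQuot ρ) from hσ1)) a.2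
  by_cases hne : scalarSub ρ = ⊤
  · refine ⟨?_, fun h => absurd hne h⟩
    haveI : Subsingleton (ScalarQuot ρ) := by
      show Subsingleton (E ⧸ scalarSub ρ)
      rw [hne]; exact QuotientGroup.subsingleton_quotient_top
    have hc1 : Nat.card (ScalarQuot ρ) = 1 := Nat.card_of_subsingleton 1
    have hd := card_scalarQuot ρ hirr hE hm
    rw [hc1] at hd
    have hd1 : Module.finrank k W = 1 := (mul_eq_one.1 hd.symm).1
    have hle : Module.finrank k (comm b) ≤ 1 := (Submodule.finrank_le _).trans (by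
      rw [Module.finrank_linearMap, hd1])
    rw [hc1]
    have := Nat.mul_le_mul_left q hle
    omega
  have hord : orderOf σ' = q := by
    refine (orderOf_eq_iff hq1).2 ⟨hσ'q, fun i hi hi0 h => hne (eq_top_iff.2 fun x _ => ?_)⟩
    refine hfree i hi0 hi x (QuotientGroup.eq.1 ?_)
    rw [← hσ'n, h, Equiv.Perm.one_apply]
  have hP : Fintype.card P = q := by rw [← Nat.card_eq_fintype_card, Nat.card_zpowers, hord]
  have hburn := MulAction.sum_card_fixedBy_eq_card_orbits_mul_card_group P (ScalarQuot ρ)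
  rw [← Finset.add_sum_erase _ _ (Finset.mem_univ (1 : P)), hP] at hburn
  have h1 : Fintype.card (MulAction.fixedBy (ScalarQuot ρ) (1 : P)) = Fintype.card (ScalarQuot ρ) := by
    refine Fintype.card_congr ((Equiv.subtypeUnivEquiv fun x => ?_))
    simp
  have h2 : ∀ a ∈ (Finset.univ : Finset P).erase 1,
      Fintype.card (MulAction.fixedBy (ScalarQuot ρ) a) = 1 := by
    intro a ha
    obtain ⟨i, hi⟩ := (Submonoid.mem_powers_iff _ _).1
      ((isOfFinOrder_of_finite σ').mem_powers_iff_mem_zpowers.2 a.2)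
    have hi' : σ' ^ (i % q) = (a : Equiv.Perm (ScalarQuot ρ)) := by
      rw [← hi]
      conv_rhs => rw [← Nat.mod_add_div i q, pow_add, pow_mul, hσ'q, one_pow, mul_one]
    have hi0 : 0 < i % q := Nat.pos_of_ne_zero fun h0 => (Finset.mem_erase.1 ha).1
      (Subtype.ext (by rw [← hi', h0, pow_zero]; rfl))
    rw [Fintype.card_eq_one_iff]
    refine ⟨⟨1, hpfix a⟩, fun y => Subtype.ext ?_⟩
    obtain ⟨x, hx⟩ := QuotientGroup.mk_surjective (y : ScalarQuot ρ)
    have hy : (a : Equiv.Perm (ScalarQuot ρ)) (y : ScalarQuot ρ) = y := y.2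
    rw [← hx, ← hi', hσ'n, QuotientGroup.eq] at hy
    show (y : ScalarQuot ρ) = 1
    rw [← hx]
    refine (mem_scalarSub_iff_mk_eq_one ρ x).1 (hfree _ hi0 (Nat.mod_lt _ hq1) x ?_)
    have := inv_mem hy
    simpa [mul_assoc] using this
  rw [h1, Finset.sum_congr rfl h2, Finset.sum_const, Finset.card_erase_of_mem (Finset.mem_univ _),
    Finset.card_univ, hP, smul_eq_mul, mul_one] at hburn
  let F : Quotient (MulAction.orbitRel P (ScalarQuot ρ)) → Module.End k W := fun o =>
    avg (ρ o.out.out)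
  have hspan : ∀ X, avg X ∈ Submodule.span k (Set.range F) := by
    intro X
    have hX : X ∈ Submodule.span k (Set.range fun i : ScalarQuot ρ => ρ i.out) := by
      rw [rep_span ρ hirr hE hm']; exact Submodule.mem_top
    induction hX using Submodule.span_induction with
    | zero => rw [map_zero]; exact zero_mem _
    | add _ _ _ _ h1 h2 => rw [map_add]; exact add_mem h1 h2
    | smul c _ _ h => rw [map_smul]; exact Submodule.smul_mem _ c h
    | mem _ hi =>
      obtain ⟨i, rfl⟩ := hi
      have hcl : ∀ (n : ℕ) (j : ScalarQuot ρ), ∃ c : k,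
          avg (ρ (((σ' ^ n) j).out)) = c • avg (ρ j.out) := by
        intro n j
        induction n with
        | zero => exact ⟨1, by rw [pow_zero, Equiv.Perm.one_apply, one_smul]⟩
        | succ n ih =>
          obtain ⟨c, hc⟩ := ih
          obtain ⟨d, ⟨e, he⟩, hout⟩ := out_mk_eq ρ (σ (((σ' ^ n) j).out))
          refine ⟨e * c, ?_⟩
          rw [pow_succ', Equiv.Perm.mul_apply,
            show σ' ((σ' ^ n) j) = QuotientGroup.mk (σ (((σ' ^ n) j).out)) by
              rw [← hσmk, QuotientGroup.out_eq'], hout, map_mul, he, mul_smul_comm, mul_one, map_smul,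
            hρσ, hc, smul_smul]
      set o := Quotient.mk (MulAction.orbitRel P (ScalarQuot ρ)) i with ho
      obtain ⟨g, hg⟩ : i ∈ MulAction.orbit P o.out :=
        MulAction.orbitRel_apply.1 (Quotient.exact (Quotient.out_eq o).symm)
      obtain ⟨n, hn⟩ := (Submonoid.mem_powers_iff _ _).1
        ((isOfFinOrder_of_finite σ').mem_powers_iff_mem_zpowers.2 g.2)
      obtain ⟨c, hc⟩ := hcl n o.out
      rw [show (i : ScalarQuot ρ) = (σ' ^ n) o.out from hg.symm.trans (by rw [hn]; rfl), hc]
      exact Submodule.smul_mem _ _ (Submodule.subset_span ⟨o, rfl⟩)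
  have hle : comm b ≤ Submodule.span k (Set.range F) := by
    intro X hX
    rw [mem_comm] at hX
    have e : avg X = (q : k) • X := by
      rw [havg, Finset.sum_congr rfl (g := fun _ => X) fun i hi => by
        rw [Finset.mem_range] at hi
        rw [← mul_assoc, (Commute.pow_left hX i).eq, mul_assoc, ← pow_add,
          Nat.add_sub_cancel' hi.le, hbq, mul_one]]
      rw [Finset.sum_const, Finset.card_range, Nat.cast_smul_eq_nsmul]
    rw [← inv_smul_smul₀ hqk X, ← e]
    exact Submodule.smul_mem _ _ (hspan X)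
  have hfin := (Submodule.finrank_mono hle).trans (finrank_range_le_card F)
  have hb2 := Nat.mul_le_mul_left q hfin
  rw [Nat.card_eq_fintype_card]
  refine ⟨?_, fun _ => ?_⟩
  · rw [mul_comm q (Fintype.card (Quotient _))] at hb2
    omega
  · set o := Fintype.card (Quotient (MulAction.orbitRel P (ScalarQuot ρ))) with ho
    have hpos : 1 ≤ Fintype.card (ScalarQuot ρ) := Fintype.card_pos
    refine (Nat.modEq_iff_dvd' hpos).2 ?_ |>.symm
    refine ⟨o - 1, ?_⟩
    rw [Nat.mul_sub, mul_one, mul_comm q o]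
    omega

end Orbits

end CfsgLib.PGroup.TurullFix
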