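import Cfsg.Agent.Lib.PGroup.TurullFix.Frame

/-!
While the operator fixes the sections, the fixed series covers them.
-/

set_option autoImplicit false
set_option linter.style.haveILetI false
set_option linter.unusedSectionVars false

namespace CfsgLib.PGroup.TurullFix

open Subgroup
open scoped commutatorElement

universe u

variable {G : Type u} [Group G] [Finite G] {K : Subgroup G} [K.Normal] {N : ℕ} (T : Tower K N)

namespace Tower

/-- The sections below `J` are fixed by `a`, and `C'` covers fixed points modulo `Z`. -/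
structure Cut (a : G) (J : ℕ) (Z C' : Subgroup G) [Z.Normal] : Prop where
  hJ : J ≤ N + 1
  hle : C' ≤ Cf K a
  hcov : ∀ L : Subgroup G, L.Normal → Z ≤ L → ∀ y ∈ K, y⁻¹ * (a * y * a⁻¹) ∈ L → ∃ x ∈ C', y⁻¹ * x ∈ L
  htriv : ∀ j < J, ∀ x ∈ T.A j, ⁅a, x⁆ ∈ T.M j
  hZ : ∀ j, j + 1 < J → Z ≤ rser K (j + 1)
  hAZ : ∀ j < J, T.A j ⊓ Z ≤ T.M j

/-- The cut at a moved section. -/
theorem exists_cut {a : G} {r : ℕ} (O : Op K a r) {i : ℕ} (hi : i ≤ N)
    (htriv : ∀ j < i, ∀ x ∈ T.A j, ⁅a, x⁆ ∈ T.M j) :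
    ∃ S : Subgroup G, S ≤ T.A i ∧ IsPGroup (T.p i) S ∧ a ∈ normalizer (S : Set G) ∧
      (∀ hi' : i < N, S.map (T.θ i) = (T.A i).map (T.θ i)) ∧
      T.Cut a i (T.A i) (Cf K a ⊓ normalizer (S : Set G)) := by
  haveI : Fact (T.p i).Prime := ⟨T.prime hi⟩
  obtain ⟨S, hS, haS'⟩ := CfsgLib.Coprime.exists_invariant_sylow (A := zpowers a) (K := T.A i)
    le_normalizer_of_normal
    (by rw [Nat.card_zpowers]; exact O.coprime.coprime_dvd_right (card_dvd_of_le (T.A_le hi)))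
    (Or.inl (CfsgLib.Coprime.isSolvable_of_isMulCommutative inferInstance)) (T.p i)
  have haS : a ∈ normalizer (S : Set G) := haS' (mem_zpowers a)
  refine ⟨S, hS.1, hS.isPGroup, haS, fun hi' => map_sylow_eq _ hS (isPGroup_of_exp _ fun x hx => T.θ_ppow hi' hx),
    ⟨by omega, inf_le_left, ?_, htriv, ?_, ?_⟩⟩
  · intro L hL hZL y hy hyL
    haveI := hL
    obtain ⟨z, hz, hzS⟩ := (hS.conjBy (g := y) (le_normalizer_of_normal (mem_top y))).exists_conj hS
    rw [CfsgLib.Coprime.conjBy_conjBy] at hzS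
    set y' := z * y with hy'
    have hy'S : y' ∈ normalizer (S : Set G) := CfsgLib.Coprime.conjBy_eq_self_iff.1 hzS
    have hy'K : y' ∈ K := mul_mem (T.A_le hi hz) hy
    have hm : y' * y⁻¹ ∈ L := by rw [hy', mul_inv_cancel_right]; exact hZL hz
    have h1 : y'⁻¹ * (a * y' * a⁻¹) ∈ L := by
      rw [show y'⁻¹ * (a * y' * a⁻¹) = (y⁻¹ * (y' * y⁻¹)⁻¹ * y) * (y⁻¹ * (a * (y' * y⁻¹) * a⁻¹) * y) *
        (y⁻¹ * (a * y * a⁻¹)) by group]
      refine mul_mem (mul_mem ?_ ?_) hyL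
      · simpa using hL.conj_mem _ (inv_mem hm) y⁻¹
      · simpa using hL.conj_mem _ (hL.conj_mem _ hm a) y⁻¹
    obtain ⟨x, hx, hxC, hxL⟩ := exists_lift (L := K ⊓ normalizer (S : Set G)) (N := L) O.coprime inf_le_left
      (CfsgLib.Coprime.inf_le_normalizer le_normalizer_of_normal
        (zpowers_le.2 (le_normalizer haS)) (mem_zpowers a))
      (mem_inf.2 ⟨hy'K, hy'S⟩) h1
    refine ⟨x, mem_inf.2 ⟨hxC, (mem_inf.1 hx).2⟩, ?_⟩
    rw [show y⁻¹ * x = (y⁻¹ * (y' * y⁻¹) * y) * (y'⁻¹ * x) by group]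
    exact mul_mem (by simpa using hL.conj_mem _ hm y⁻¹) hxL
  · intro j hj
    exact (T.le_rser i hi).trans (rser_antitone K hj.le)
  · intro j hj x hx
    obtain ⟨hxA, hxZ⟩ := mem_inf.1 hx
    have hjN : j < N := by omega
    refine T.B_le j hjN ((T.mem_B j hjN x).2 ⟨hxA, mem_centMod.2 fun w hw => ?_⟩)
    have h := T.triv (j + 1) (Nat.succ_pos j) hjN
      (commutator_mem_commutator hw (rser_antitone K (Nat.succ_le_of_lt hj) (T.le_rser i hi hxZ)))
    rw [← commutatorElement_inv]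
    exact inv_mem h

/-- The trivial cut. -/
theorem cut_bot {a : G} {r : ℕ} (O : Op K a r) (htriv : ∀ j ≤ N, ∀ x ∈ T.A j, ⁅a, x⁆ ∈ T.M j) :
    T.Cut a (N + 1) ⊥ (Cf K a) := by
  refine ⟨le_rfl, le_rfl, fun L hL _ y hy hyL => ?_, fun j hj => htriv j (Nat.le_of_lt_succ hj),
    fun j _ => bot_le, fun j _ => by rw [inf_bot_eq]; exact bot_le⟩
  haveI := hL
  obtain ⟨x, -, hxC, hx⟩ := exists_lift (L := K) (N := L) O.coprime le_rfl
    (le_normalizer_of_normal (mem_top a)) hy hyL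
  exact ⟨x, hxC, hx⟩

variable {T} {a : G} {J : ℕ} {Z C' : Subgroup G} [Z.Normal] (hc : T.Cut a J Z C')
include hc

theorem Cut.cover_coset {j : ℕ} (hj : j < J) {y : G} (hy : y ∈ T.A j) :
    ∃ x ∈ C', x ∈ T.A j ⊔ Z ∧ y⁻¹ * x ∈ T.M j ⊔ Z := by
  have hjN : j ≤ N := Nat.le_of_lt_succ (hj.trans_le hc.hJ)
  have h : y⁻¹ * (a * y * a⁻¹) ∈ T.M j ⊔ Z := by
    refine mem_sup_left ?_
    have := (T.Mn j).conj_mem _ (hc.htriv j hj y hy) y⁻¹
    rwa [show y⁻¹ * ⁅a, y⁆ * y⁻¹⁻¹ = y⁻¹ * (a * y * a⁻¹) by rw [commutatorElement_def]; group] at this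
  obtain ⟨x, hx, hxy⟩ := hc.hcov (T.M j ⊔ Z) inferInstance le_sup_right y (T.A_le hjN hy) h
  refine ⟨x, hx, ?_, hxy⟩
  have := mul_mem (mem_sup_left (T := Z) hy) (sup_le_sup_right (T.step j hjN).hle Z hxy)
  rwa [mul_inv_cancel_left] at this

theorem Cut.mem_M {j : ℕ} (hj : j < J) {x : G} (hx : x ∈ T.A j) (h : x ∈ T.M j ⊔ Z) : x ∈ T.M j := by
  obtain ⟨m, hm, z, hz, rfl⟩ := mem_sup_of_normal_right.1 h
  refine mul_mem hm (hc.hAZ j hj (mem_inf.2 ⟨?_, hz⟩))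
  have := mul_mem (inv_mem ((T.step j (Nat.le_of_lt_succ (hj.trans_le hc.hJ))).hle hm)) hx
  rwa [inv_mul_cancel_left] at this

theorem Cut.θ_eq {j : ℕ} (hj : j + 1 < J) {z : G} (hz : z ∈ Z) : T.θ j z = 1 := by
  refine (act_eq_one_iff _ _ z).2 (mem_centMod.2 fun w hw => ?_)
  have h := T.triv (j + 1) (Nat.succ_pos j) (Nat.le_of_lt_succ (hj.trans_le hc.hJ))
    (commutator_mem_commutator hw (hc.hZ j hj hz))
  rw [← commutatorElement_inv]
  exact inv_mem h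

theorem Cut.mover_of {j : ℕ} (hj : j + 1 < J) {x : G} (hx : x ∈ rser C' j) (hxA : x ∈ T.A j ⊔ Z)
    (hxM : x ∉ T.M j ⊔ Z) :
    ∃ x' ∈ rser C' j, (∃ n, x' ^ T.p j ^ n = 1) ∧ ∃ w ∈ T.A (j + 1), ⁅x', w⁆ ∉ T.M (j + 1) := by
  have hjN : j < N := by have := hc.hJ; omega
  obtain ⟨y, hy, z, hz, rfl⟩ := mem_sup_of_normal_right.1 hxA
  have hθ : T.θ j (y * z) = T.θ j y := by rw [map_mul, hc.θ_eq hj hz, mul_one]
  obtain ⟨e, hep, heθ⟩ := exists_ppart (T.θ j) (T.prime hjN.le) (y * z) (hθ ▸ T.θ_ppow hjN hy)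
  refine ⟨(y * z) ^ e, pow_mem hx e, hep, ?_⟩
  by_contra hne
  push Not at hne
  refine hxM (mul_mem (mem_sup_left (T.B_le j hjN ((T.θ_eq_one hjN hy).1 ?_))) (mem_sup_right hz))
  rw [← hθ, ← heθ]
  exact (act_eq_one_iff _ _ _).2 (mem_centMod.2 hne)

/-- The fixed series covers a part of each fixed section. -/
theorem Cut.cover : ∀ j < J, ∃ x ∈ rser C' j, x ∈ T.A j ⊔ Z ∧ x ∉ T.M j ⊔ Z := by
  intro j
  induction j with
  | zero =>
    intro hj
    obtain ⟨y, hy, hyM⟩ := (T.step 0 (Nat.zero_le N)).exists_mem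
    obtain ⟨x, hx, hxA, hxy⟩ := hc.cover_coset hj hy
    refine ⟨x, hx, hxA, fun h => hyM (hc.mem_M hj hy ?_)⟩
    have := mul_mem h (inv_mem hxy)
    rwa [mul_inv_rev, inv_inv, mul_inv_cancel_left] at this
  | succ j ih =>
    intro hj
    obtain ⟨x, hx, hxA, hxM⟩ := ih (Nat.lt_of_succ_lt hj)
    obtain ⟨x', hx', hxp, w₀, hw₀, hw₀M⟩ := hc.mover_of hj hx hxA hxM
    have hjN : j < N := by have := hc.hJ; omega
    obtain ⟨w, hw, hwA, hww⟩ := hc.cover_coset hj hw₀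
    set B := T.M (j + 1) ⊔ Z with hB
    have hBn : B.Normal := inferInstance
    have hxw : ⁅x', w⁆ ∉ B := by
      intro h
      refine hw₀M (hc.mem_M hj ?_ ?_)
      · exact mul_mem ((T.An (j + 1)).conj_mem _ hw₀ x') (inv_mem hw₀)
      · have h2 : ⁅x', w₀⁻¹ * w⁆ ∈ B := mul_mem (hBn.conj_mem _ hww x') (inv_mem hww)
        rw [show w = w₀ * (w₀⁻¹ * w) by group, commutator_mul_right] at h
        exact ((mul_mem_cancel_right (hBn.conj_mem _ h2 w₀)).1 h)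
    have hd := depth (D := rser C' j) (K := (T.A (j + 1) ⊔ Z) ⊓ C') (B := B) (T.prime hjN)
      hx' (coprime_of_ppow (T.prime hjN.le) (T.prime hjN) (T.p_ne j hjN) hxp)
      (CfsgLib.Coprime.inf_le_normalizer le_normalizer_of_normal
        (zpowers_le.2 (le_normalizer (rser_le _ j hx'))) (mem_zpowers x'))
      (fun k hk => rser_normalizer (le_normalizer (mem_inf.1 hk).2) j) le_normalizer_of_normal
      (le_normalizer_of_normal (mem_top x'))
      (fun k hk => ⟨1, by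
        obtain ⟨u, hu, z, hz, rfl⟩ := mem_sup_of_normal_right.1 (mem_inf.1 hk).1
        haveI := hBn
        rw [pow_one, ← QuotientGroup.eq_one_iff, QuotientGroup.mk_pow, QuotientGroup.mk_mul,
          (QuotientGroup.eq_one_iff z).2 (mem_sup_right hz), mul_one, ← QuotientGroup.mk_pow,
          QuotientGroup.eq_one_iff]
        exact mem_sup_left ((T.step (j + 1) hjN).pow u hu)⟩)
      (mem_inf.2 ⟨hwA, hw⟩)
    obtain ⟨g, hg, b, hb, hgb⟩ := mem_sup_of_normal_right.1 hd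
    refine ⟨g, (mem_inf.1 hg).2, (mem_inf.1 (mem_inf.1 hg).1).1, fun h => hxw ?_⟩
    rw [← hgb]
    exact mul_mem h hb

theorem Cut.length {n : ℕ} (hC : rser (Cf K a) n = ⊥) : J ≤ n := by
  by_contra hlt
  obtain ⟨x, hx, -, hxM⟩ := hc.cover n (Nat.lt_of_not_le hlt)
  have hle : ∀ j, rser C' j ≤ rser (Cf K a) j := fun j => by
    induction j with
    | zero => exact hc.hle
    | succ j ih => exact res_mono ih
  have := hle n hx
  rw [hC, mem_bot] at this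
  exact hxM (this ▸ one_mem _)

/-- On a fixed section every element of `K` acts as an element of `C'`. -/
theorem Cut.acts {A B : Subgroup G} [A.Normal] [B.Normal] (hfix : ∀ x ∈ A, ⁅a, x⁆ ∈ B) {L : Subgroup G}
    [L.Normal] (hZL : Z ≤ L) (hcL : centMod A B ≤ L) {y : G} (hy : y ∈ K) : ∃ x ∈ C', y⁻¹ * x ∈ L := by
  refine hc.hcov L inferInstance hZL y hy (hcL ((act_eq_one_iff A B _).1 ?_))
  rw [map_mul, map_mul, map_mul, map_inv, map_inv, (act_eq_one_iff A B a).2 (mem_centMod.2 hfix), one_mul,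
    inv_one, mul_one, inv_mul_cancel]

/-- Invariant subgroups of a fixed section are trivial. -/
theorem Cut.irr (htop : K ⊔ zpowers a = ⊤) {j : ℕ} (hj : j < J) (hZj : Z ≤ centMod (T.A j) (T.M j))
    {L : Subgroup G} (hML : T.M j ≤ L) (hLA : L ≤ T.A j) (haL : a ∈ normalizer (L : Set G))
    (hCL : C' ≤ normalizer (L : Set G)) : L = T.M j ∨ L = T.A j := by
  refine (T.step j (Nat.le_of_lt_succ (hj.trans_le hc.hJ))).irr L
    (normalizer_eq_top_iff.1 (eq_top_iff.2 ?_)) hML hLA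
  rw [← htop]
  refine sup_le (fun y hy => ?_) (zpowers_le.2 haL)
  obtain ⟨x, hx, hxy⟩ := hc.acts (hc.htriv j hj) hZj le_rfl hy
  have hcn : centMod (T.A j) (T.M j) ≤ normalizer (L : Set G) := by
    intro c hcc
    have key : ∀ {b}, b ∈ centMod (T.A j) (T.M j) → ∀ {l}, l ∈ L → b * l * b⁻¹ ∈ L := fun {b} hb {l} hl => by
      rw [show b * l * b⁻¹ = ⁅b, l⁆ * l by rw [commutatorElement_def]; group]
      exact mul_mem (hML (mem_centMod.1 hb l (hLA hl))) hl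
    refine mem_normalizer_iff.2 fun l => ⟨key hcc, fun h => ?_⟩
    have := key (inv_mem hcc) h
    simpa [mul_assoc] using this
  rw [show y = x * (y⁻¹ * x)⁻¹ by group]
  exact mul_mem (hCL hx) (hcn (inv_mem hxy))

end Tower

end CfsgLib.PGroup.TurullFix
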