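import Cfsg.Agent.Lib.PGroup.TurullFix.Cover

/-!
The lowest moved section is moved by commutators of the fixed series.
-/

set_option autoImplicit false
set_option linter.style.haveILetI false
set_option linter.unusedSectionVars false

namespace CfsgLib.PGroup.TurullFix

open Subgroup
open scoped commutatorElement

universe u

/-- The automorphisms fixing a set pointwise. -/
def fixSub {V : Type u} [Group V] (X : Set V) : Subgroup (MulAut V) where
  carrier := {g | ∀ v ∈ X, g v = v}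
  one_mem' := fun v _ => rfl
  mul_mem' := fun {g h} hg hh v hv => by rw [MulAut.mul_apply, hh v hv, hg v hv]
  inv_mem' := fun {g} hg v hv => by conv_lhs => rw [← hg v hv, MulAut.inv_apply_self]

theorem mem_fixSub {V : Type u} [Group V] {X : Set V} {g : MulAut V} :
    g ∈ fixSub X ↔ ∀ v ∈ X, g v = v := Iff.rfl

/-- Elements fixing the moved part fix the part moved by a commutator. -/
theorem comm_fix {V : Type u} [Group V] {α μ γ : MulAut V} (hc : Commute γ μ)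
    (h : ∀ v, γ (α v * v⁻¹) = α v * v⁻¹) (v : V) :
    γ (⁅α, μ⁆ v * v⁻¹) = ⁅α, μ⁆ v * v⁻¹ := by
  let F : Subgroup V :=
    { carrier := {w | γ w = w}
      one_mem' := map_one γ
      mul_mem' := fun {x y} hx hy => show γ (x * y) = x * y by rw [map_mul, hx, hy]
      inv_mem' := fun {x} hx => show γ x⁻¹ = x⁻¹ by rw [map_inv, hx] }
  have hμ : ∀ {w}, w ∈ F → μ w ∈ F := fun {w} hw => by
    show γ (μ w) = μ w
    rw [← MulAut.mul_apply, hc.eq, MulAut.mul_apply, (hw : γ w = w)]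
  set x := μ⁻¹ v with hx
  set y := α⁻¹ x with hy
  have h1 : α (μ y) * (μ y)⁻¹ ∈ F := h _
  have h2 : μ (y * x⁻¹) ∈ F := hμ (by
    have := inv_mem (show α y * y⁻¹ ∈ F from h y)
    rwa [hy, MulAut.apply_inv_self, mul_inv_rev, inv_inv] at this)
  have := mul_mem h1 h2
  rw [map_mul, map_inv μ x, hx, MulAut.apply_inv_self, ← mul_assoc, inv_mul_cancel_right] at this
  rw [commutatorElement_def, MulAut.mul_apply, MulAut.mul_apply, MulAut.mul_apply]
  exact this

variable {G : Type u} [Group G] [Finite G] {K : Subgroup G} [K.Normal] {N : ℕ} {T : Tower K N}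

namespace Tower

/-- A normal subgroup fixing a nontrivial vector acts trivially. -/
theorem le_centMod_of_fix {A M : Subgroup G} {p : ℕ} (h : Step A M p) {D : Subgroup G} (hD : D.Normal) :
    haveI := h.hA; haveI := h.hM
    ∀ {u : Sect A M}, u ≠ 1 → (∀ d ∈ D, act A M d u = u) → D ≤ centMod A M := by
  haveI := h.hA
  haveI := h.hM
  intro u hu hfix
  induction u using QuotientGroup.induction_on with | H w =>
  let F : Subgroup G :=
    { carrier := {x | x ∈ A ∧ ∀ d ∈ D, ⁅d, x⁆ ∈ M}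
      one_mem' := ⟨one_mem A, fun d _ => by rw [commutatorElement_one_right]; exact one_mem M⟩
      mul_mem' := fun {x y} hx hy => ⟨mul_mem hx.1 hy.1, fun d hd => by
        rw [commutator_mul_right]
        exact mul_mem (hx.2 d hd) (h.hM.conj_mem _ (hy.2 d hd) x)⟩
      inv_mem' := fun {x} hx => ⟨inv_mem hx.1, fun d hd => by
        rw [show ⁅d, x⁻¹⁆ = x⁻¹ * ⁅d, x⁆⁻¹ * x⁻¹⁻¹ by simp only [commutatorElement_def]; group]
        exact h.hM.conj_mem _ (inv_mem (hx.2 d hd)) _⟩ }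
  have hFn : F.Normal := ⟨fun x hx g => ⟨h.hA.conj_mem x hx.1 g, fun d hd => by
    rw [show ⁅d, g * x * g⁻¹⁆ = g * ⁅g⁻¹ * d * g, x⁆ * g⁻¹ by simp only [commutatorElement_def]; group]
    exact h.hM.conj_mem _ (hx.2 _ (by simpa using hD.conj_mem d hd g⁻¹)) g⟩⟩
  rcases h.irr F hFn (fun x hx => ⟨h.hle hx, fun d _ => by
      rw [commutatorElement_def]; exact mul_mem (h.hM.conj_mem x hx d) (inv_mem hx)⟩) (fun x hx => hx.1)
    with e | e
  · refine absurd ?_ hu
    rw [QuotientGroup.eq_one_iff, mem_subgroupOf]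
    exact e.le (⟨w.2, fun d hd => (act_eq_iff A M d w).1 (hfix d hd)⟩ : (w : G) ∈ F)
  · exact fun d hd => mem_centMod.2 fun x hx => (e.ge hx : x ∈ F).2 d hd

variable {a : G} {r : ℕ} (O : Op K a r) {j : ℕ} {Z C' : Subgroup G} [Z.Normal]
  (hc : T.Cut a (j + 1) Z C') (hj : j + 1 ≤ N) (htop : K ⊔ zpowers a = ⊤)
  (hZi : Z ≤ centMod (T.A (j + 1)) (T.M (j + 1))) (hmove : T.θ j a ≠ 1)
include O hc hj htop hZi hmove

theorem Cut.commutes {b : G} (hb : b ∈ C') : Commute b a := (mem_Cf.1 (hc.hle hb)).2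

theorem Cut.exists_moved : ∃ v, T.θ j a v * v⁻¹ ≠ 1 := by
  by_contra h
  push Not at h
  exact hmove (MulEquiv.ext fun v => mul_inv_eq_one.1 (h v))

/-- At the bottom: a fixed element moves the moved part. -/
theorem Cut.crux_zero (hj0 : j = 0) {S : Subgroup G}
    (hS : CfsgLib.Coprime.IsSylowIn (T.p j) S (rser C' j ⊓ (T.A j ⊔ Z))) :
    ∃ τ ∈ S, ∃ v, T.θ j τ (T.θ j a v * v⁻¹) ≠ T.θ j a v * v⁻¹ := by
  subst hj0
  by_contra hall
  push Not at hall
  haveI : Fact (T.p 0).Prime := ⟨T.prime (Nat.zero_le N)⟩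
  obtain ⟨v, hv⟩ := Cut.exists_moved O hc hj htop hZi hmove
  have hθZ : ∀ z ∈ Z, T.θ 0 z = 1 := fun z hz => (act_eq_one_iff _ _ z).2 (hZi hz)
  have himg : ∀ x ∈ T.A 0 ⊔ Z, ∃ y ∈ T.A 0, T.θ 0 x = T.θ 0 y := fun x hx => by
    obtain ⟨y, hy, z, hz, rfl⟩ := mem_sup_of_normal_right.1 hx
    exact ⟨y, hy, by rw [map_mul, hθZ z hz, mul_one]⟩
  have hQS : S.map (T.θ 0) = (rser C' 0 ⊓ (T.A 0 ⊔ Z)).map (T.θ 0) :=
    map_sylow_eq _ hS (isPGroup_of_exp _ fun x hx => by
      obtain ⟨y, hy, e⟩ := himg x (mem_inf.1 hx).2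
      rw [e]; exact T.θ_ppow hj hy)
  have hB := T.bottom (Nat.zero_lt_of_lt hj)
  refine (T.step 0 (Nat.zero_le N)).hne fun y hy => hB ▸ (T.θ_eq_one hj hy).1 ?_
  refine (act_eq_one_iff _ _ y).2 (le_centMod_of_fix (T.step 1 hj) (T.An 0) hv (fun d hd => ?_) hy)
  obtain ⟨x, hx, hxA, hdx⟩ := hc.cover_coset Nat.one_pos hd
  have he : T.θ 0 (d⁻¹ * x) = 1 := by
    obtain ⟨m, hm, z, hz, e⟩ := mem_sup_of_normal_right.1 hdx
    rw [← e, map_mul, hθZ z hz, T.θ_of_B hj (hB ▸ hm), mul_one]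
  rw [map_mul, map_inv, inv_mul_eq_one] at he
  obtain ⟨τ, hτ, eτ⟩ := Subgroup.mem_map.1 (hQS.ge (mem_map_of_mem _ (mem_inf.2 ⟨hx, hxA⟩)))
  show T.θ 0 d _ = _
  rw [he, ← eτ]
  exact hall τ hτ v

/-- Above the bottom: a commutator of fixed elements moves the moved part. -/
theorem Cut.crux_succ (hjN : j + 1 < N) {i : ℕ} (hi : j = i + 1) {S : Subgroup G}
    (hS : CfsgLib.Coprime.IsSylowIn (T.p j) S (rser C' j ⊓ (T.A j ⊔ Z))) :
    ∃ τ ∈ S, ∃ h ∈ rser C' i, h ∈ normalizer (S : Set G) ∧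
      ∃ v, T.θ j ⁅τ, h⁆ (T.θ j a v * v⁻¹) ≠ T.θ j a v * v⁻¹ := by
  by_contra hall
  push Not at hall
  have hjN' : j < N := Nat.lt_of_succ_le hj
  have h1j : 1 ≤ j := by omega
  haveI : Fact (T.p j).Prime := ⟨T.prime hjN'.le⟩
  obtain ⟨v₀, hv₀⟩ := Cut.exists_moved O hc hj htop hZi hmove
  have hCn : ∀ {b}, b ∈ C' → ∀ k, b ∈ normalizer (rser C' k : Set G) := fun hb k =>
    rser_normalizer (le_normalizer hb) k
  have hθZ : ∀ z ∈ Z, T.θ j z = 1 := fun z hz => (act_eq_one_iff _ _ z).2 (hZi hz)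
  have hZj : Z ≤ centMod (T.A j) (T.M j) := fun z hz => mem_centMod.2 fun w hw => by
    have h := T.triv j h1j hjN'.le (commutator_mem_commutator hw
      ((hi ▸ hc.hZ i (by omega) hz : z ∈ rser K j)))
    rw [← commutatorElement_inv]
    exact inv_mem h
  -- the fixed series covers the whole section modulo `Z`
  set Q := rser C' j ⊓ (T.A j ⊔ Z) with hQdef
  set W := T.M j ⊔ Z with hWdef
  have haQ : a ∈ normalizer (Q : Set G) := by
    refine CfsgLib.Coprime.inf_le_normalizer (zpowers_le.2 (mem_normalizer_iff.2 fun x => ?_))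
      le_normalizer_of_normal (mem_zpowers a)
    have key : ∀ y ∈ rser C' j, a * y * a⁻¹ = y := fun y hy => by
      rw [← (mem_Cf.1 (hc.hle (rser_le C' j hy))).2.eq, mul_inv_cancel_right]
    refine ⟨fun hx => (key x hx).symm ▸ hx, fun hx => ?_⟩
    have := key _ hx
    rw [mul_inv_eq_iff_eq_mul] at this
    rwa [mul_left_cancel (this.trans (by group : a * x * a⁻¹ * a = a * x))] at hx
  have hCQ : ∀ {b}, b ∈ C' → b ∈ normalizer (Q : Set G) := fun {b} hb =>
    CfsgLib.Coprime.inf_le_normalizer (zpowers_le.2 (hCn hb j)) le_normalizer_of_normal (mem_zpowers b)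
  have hLq : T.A j ⊓ (Q ⊔ W) = T.A j := by
    refine (hc.irr htop (Nat.lt_succ_self j) hZj (L := T.A j ⊓ (Q ⊔ W))
      (le_inf (T.step j hjN'.le).hle (le_sup_left.trans le_sup_right)) inf_le_left ?_ ?_).resolve_left ?_
    · exact CfsgLib.Coprime.inf_le_normalizer le_normalizer_of_normal
        (CfsgLib.Coprime.sup_le_normalizer (zpowers_le.2 haQ) le_normalizer_of_normal) (mem_zpowers a)
    · exact CfsgLib.Coprime.inf_le_normalizer le_normalizer_of_normal
        (CfsgLib.Coprime.sup_le_normalizer (fun b hb => hCQ hb) le_normalizer_of_normal)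
    · intro e
      obtain ⟨x, hx, hxA, hxM⟩ := hc.cover j (Nat.lt_succ_self j)
      obtain ⟨y, hy, z, hz, exy⟩ := mem_sup_of_normal_right.1 hxA
      refine hxM (exy ▸ mul_mem (mem_sup_left (e.le (mem_inf.2 ⟨hy, ?_⟩))) (mem_sup_right hz))
      rw [show y = x * z⁻¹ by rw [← exy, mul_inv_cancel_right]]
      exact mul_mem (mem_sup_left (mem_inf.2 ⟨hx, hxA⟩))
        (mem_sup_right ((le_sup_right : Z ≤ W) (inv_mem hz)))
  -- a commutator outside `W`
  obtain ⟨x, hx, hxA, hxM⟩ := hc.cover i (by omega)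
  obtain ⟨x', hx', -, w, hw, hwM⟩ := hc.mover_of (by omega) hx hxA hxM
  rw [← hi] at hw hwM
  obtain ⟨q, hq, l, hl, hql⟩ := mem_sup_of_normal_right.1 (mem_inf.1 (hLq.ge hw)).2
  have hWn : W.Normal := inferInstance
  have hxq : ⁅x', q⁆ ∉ W := fun h => hwM (hc.mem_M (Nat.lt_succ_self j)
    (mul_mem ((T.An j).conj_mem w hw x') (inv_mem hw)) (by
      rw [← hql, commutator_mul_right]
      exact mul_mem h (hWn.conj_mem _ (mul_mem (hWn.conj_mem l hl x') (inv_mem hl)) q)))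
  obtain ⟨u, hu, huS⟩ := (hS.conjBy (g := x') (hCQ (rser_le C' i hx'))).exists_conj hS
  rw [CfsgLib.Coprime.conjBy_conjBy] at huS
  set g := u * x' with hg
  have hgS : g ∈ normalizer (S : Set G) := CfsgLib.Coprime.conjBy_eq_self_iff.1 huS
  have hgD : g ∈ rser C' i :=
    mul_mem (rser_antitone C' (by omega : i ≤ j) (mem_inf.1 hu).1) hx'
  let π := QuotientGroup.mk' W
  have hπ1 : ∀ {z}, π z = 1 ↔ z ∈ W := fun {z} => QuotientGroup.eq_one_iff z
  have hπA : ∀ {x}, x ∈ T.A j ⊔ Z → ∃ y ∈ T.A j, π x = π y := fun {x} hx => by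
    obtain ⟨y, hy, z, hz, rfl⟩ := mem_sup_of_normal_right.1 hx
    exact ⟨y, hy, by rw [map_mul, hπ1.2 (mem_sup_right hz), mul_one]⟩
  have hπc : ∀ {x y}, x ∈ T.A j ⊔ Z → y ∈ T.A j ⊔ Z → π ⁅x, y⁆ = 1 := fun {x y} hx hy => by
    obtain ⟨x₁, hx₁, ex⟩ := hπA hx
    obtain ⟨y₁, hy₁, ey⟩ := hπA hy
    rw [map_commutatorElement, ex, ey, ← map_commutatorElement, hπ1]
    exact mem_sup_left ((T.step j hjN'.le).comm (commutator_mem_commutator hx₁ hy₁))
  have hSQ : S.map π = Q.map π := map_sylow_eq π hS (isPGroup_of_exp π fun x hx => by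
    obtain ⟨y, hy, e⟩ := hπA (mem_inf.1 hx).2
    exact ⟨1, by rw [e, pow_one, ← map_pow, hπ1]; exact mem_sup_left ((T.step j hjN'.le).pow y hy)⟩)
  obtain ⟨τ, hτ, eτ⟩ := Subgroup.mem_map.1 (hSQ.ge (mem_map_of_mem π hq))
  have hτW : ⁅τ, g⁆ ∉ W := by
    intro h
    refine hxq ?_
    rw [← hπ1, map_commutatorElement, eτ, ← map_commutatorElement, ← commutatorElement_inv, map_inv,
      inv_eq_one, hg, commutator_mul_left, map_mul, hπc (mem_inf.1 hu).2 (mem_inf.1 hq).2, mul_one,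
      map_mul, map_mul, map_inv, mul_inv_eq_one, mul_eq_left] at h
    exact hπ1.1 h
  -- the part of the section fixing the moved part
  set X : Set (Sect (T.A (j + 1)) (T.M (j + 1))) := Set.range fun v => T.θ j a v * v⁻¹
  set Y := T.A j ⊓ (fixSub X).comap (T.θ j) with hY
  have hmemY : ∀ {y}, y ∈ Y ↔ y ∈ T.A j ∧ ∀ v, T.θ j y (T.θ j a v * v⁻¹) = T.θ j a v * v⁻¹ :=
    fun {y} => by
      rw [hY, mem_inf, mem_comap, mem_fixSub]
      exact and_congr_right fun _ => Set.forall_mem_range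
  have hBY : T.B j ≤ Y := fun b hb => hmemY.2 ⟨T.B_le_A hjN' hb, fun v => by rw [T.θ_of_B hjN' hb]; rfl⟩
  have hconjY : ∀ {b}, Commute b a → ∀ {y}, y ∈ Y → b * y * b⁻¹ ∈ Y := fun {b} hb {y} hy => by
    obtain ⟨hyA, hyv⟩ := hmemY.1 hy
    refine hmemY.2 ⟨(T.An j).conj_mem y hyA b, fun v => ?_⟩
    have e : ∀ g : MulAut (Sect (T.A (j + 1)) (T.M (j + 1))), Commute g (T.θ j a) →
        g (T.θ j a v * v⁻¹) = T.θ j a (g v) * (g v)⁻¹ := fun g hg => by
      rw [map_mul, map_inv, ← MulAut.mul_apply, hg.eq, MulAut.mul_apply]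
    rw [map_mul (T.θ j), map_mul (T.θ j), map_inv (T.θ j), MulAut.mul_apply, MulAut.mul_apply, e _ (hb.map (T.θ j)).inv_left, hyv,
      ← e _ (hb.map (T.θ j)).inv_left, MulAut.apply_inv_self]
  have hnormY : ∀ {b}, (∀ {y}, y ∈ Y → b * y * b⁻¹ ∈ Y) → b ∈ normalizer (Y : Set G) := fun {b} hb => by
    rw [← CfsgLib.Coprime.conjBy_eq_self_iff]
    refine eq_of_le_of_card_ge (fun z hz => ?_) (CfsgLib.Coprime.card_conjBy _ _).ge
    rw [CfsgLib.Coprime.mem_conjBy] at hz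
    have := hb hz
    simpa [mul_assoc] using this
  have haY : a ∈ normalizer (Y : Set G) := hnormY (hconjY (Commute.refl a))
  have hCY : C' ≤ normalizer (Y : Set G) := fun b hb =>
    hnormY (hconjY (Cut.commutes O hc hj htop hZi hmove hb))
  have hτg : ⁅τ, g⁆ ∈ Q := by
    rw [show ⁅τ, g⁆ = τ * (g * τ⁻¹ * g⁻¹) by rw [commutatorElement_def]; group]
    exact mul_mem (hS.1 hτ) ((mem_normalizer_iff.1 (hCQ (rser_le C' i hgD)) _).1 (inv_mem (hS.1 hτ)))
  have hYM : T.A j ≤ Y ⊔ T.M j := by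
    refine ((hc.irr htop (Nat.lt_succ_self j) hZj (L := Y ⊔ T.M j) le_sup_right
      (sup_le inf_le_left (T.step j hjN'.le).hle)
      (CfsgLib.Coprime.sup_le_normalizer (zpowers_le.2 haY) le_normalizer_of_normal (mem_zpowers a))
      (CfsgLib.Coprime.sup_le_normalizer hCY le_normalizer_of_normal)).resolve_left ?_).ge
    intro e
    obtain ⟨y, hy, z, hz, eyz⟩ := mem_sup_of_normal_right.1 (mem_inf.1 hτg).2
    refine hτW (eyz ▸ mul_mem (mem_sup_left (e.le (mem_sup_left (hmemY.2 ⟨hy, fun v => ?_⟩))))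
      (mem_sup_right hz))
    have := hall τ hτ g hgD hgS v
    rwa [← eyz, map_mul (T.θ j), hθZ z hz, mul_one] at this
  have hdec : ∀ x ∈ T.A j, ∃ y ∈ Y, ∃ m ∈ T.M j, x = y * m := fun x hx => by
    obtain ⟨y, hy, m, hm, e⟩ := mem_sup_of_normal_right.1 (hYM hx)
    exact ⟨y, hy, m, hm, e.symm⟩
  -- the level is abelian
  have hθM : ∀ {x m}, x ∈ T.A j → m ∈ T.M j → Commute (T.θ j m) (T.θ j x) := fun {x m} hx hm => by
    refine commutatorElement_eq_one_iff_commute.1 ?_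
    rw [← map_commutatorElement]
    exact T.θ_of_B hjN' (T.cent j hjN' (commutator_mem_commutator hm hx))
  have hAA : ⁅T.A j, T.A j⁆ ≤ T.B j := by
    haveI : (⁅T.A j, T.A j⁆ : Subgroup G).Normal := commutator_normal _ _
    intro x hx
    refine (T.mem_B j hjN' x).2 ⟨commutator_le_left _ _ hx,
      le_centMod_of_fix (T.step (j + 1) hj) (by infer_instance) hv₀ (fun d hd => ?_) hx⟩
    suffices ⁅T.A j, T.A j⁆ ≤ (fixSub X).comap (T.θ j) from this hd _ ⟨v₀, rfl⟩
    refine commutator_le.2 fun x₁ hx₁ x₂ hx₂ => ?_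
    obtain ⟨y₁, hy₁, m₁, hm₁, rfl⟩ := hdec x₁ hx₁
    obtain ⟨y₂, hy₂, m₂, hm₂, rfl⟩ := hdec x₂ hx₂
    have hy₁A := (hmemY.1 hy₁).1
    have hy₂A := (hmemY.1 hy₂).1
    have e : T.θ j ⁅y₁ * m₁, y₂ * m₂⁆ = T.θ j ⁅y₁, y₂⁆ := by
      rw [commutator_mul_left, map_mul, map_mul, map_mul, map_inv,
        T.θ_of_B hjN' (T.cent j hjN' (commutator_mem_commutator hm₁ hx₂)), mul_one, mul_inv_cancel, one_mul,
        map_commutatorElement, map_mul, map_commutatorElement, commutator_mul_right,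
        commutatorElement_eq_one_iff_commute.2 (hθM hy₁A hm₂).symm, mul_one, mul_inv_cancel, mul_one]
    have := (mem_inf.1 (mul_mem (mul_mem (mul_mem hy₁ hy₂) (inv_mem hy₁)) (inv_mem hy₂))).2
    rw [← commutatorElement_def, mem_comap] at this
    rw [mem_comap, e]
    exact this
  -- `a` moves the central part
  obtain ⟨m, hm, hzB⟩ : ∃ m ∈ T.M j, ⁅a, m⁆ ∉ T.B j := by
    by_contra hM
    push Not at hM
    have haA : ∀ x ∈ T.A j, ⁅a, x⁆ ∈ T.B j := fun x hx => by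
      obtain ⟨n, hn⟩ := T.pgroup j hjN' _ ((T.step j hjN'.le).hle (hc.htriv j (Nat.lt_succ_self j) x hx))
      exact not_fixed_comm (O.coprime.coprime_dvd_right (T.p_dvd hjN'.le)) hn
        (hM _ (hc.htriv j (Nat.lt_succ_self j) x hx))
    have hYn : Y.Normal := by
      refine normalizer_eq_top_iff.1 (eq_top_iff.2 ?_)
      rw [← htop]
      refine sup_le (fun y hy => ?_) (zpowers_le.2 haY)
      obtain ⟨b, hb, hyb⟩ := hc.acts (L := centMod (T.A j) (T.B j) ⊔ Z) haA le_sup_right le_sup_left hy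
      have hle : centMod (T.A j) (T.B j) ⊔ Z ≤ normalizer (Y : Set G) := by
        refine sup_le (fun c hcc => hnormY fun {z} hz => ?_) (fun c hcz => hnormY fun {z} hz => ?_)
        · rw [show c * z * c⁻¹ = ⁅c, z⁆ * z by rw [commutatorElement_def]; group]
          exact mul_mem (hBY (mem_centMod.1 hcc z (hmemY.1 hz).1)) hz
        · refine hmemY.2 ⟨(T.An j).conj_mem z (hmemY.1 hz).1 c, fun v => ?_⟩
          rw [map_mul (T.θ j), map_mul (T.θ j), map_inv (T.θ j), hθZ c hcz, one_mul, inv_one, mul_one]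
          exact (hmemY.1 hz).2 v
      rw [show y = b * (y⁻¹ * b)⁻¹ by group]
      exact mul_mem (hCY hb) (hle (inv_mem hyb))
    refine (T.step j hjN'.le).hne fun x hx => ?_
    obtain ⟨y, hy, m, hm, rfl⟩ := hdec x hx
    refine mul_mem (T.B_le j hjN' ((T.mem_B j hjN' y).2 ⟨(hmemY.1 hy).1,
      le_centMod_of_fix (T.step (j + 1) hj) hYn hv₀ (fun d hd => (hmemY.1 hd).2 v₀) hy⟩)) hm
  set z := ⁅a, m⁆ with hz
  have hzM : z ∈ T.M j := mul_mem ((T.Mn j).conj_mem m hm a) (inv_mem hm)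
  obtain ⟨v₁, hv₁⟩ : ∃ v, T.θ j z v * v⁻¹ ≠ 1 := by
    by_contra h
    push Not at h
    exact hzB ((T.θ_eq_one hjN' ((T.step j hjN'.le).hle hzM)).1 (MulEquiv.ext fun v => mul_inv_eq_one.1 (h v)))
  have hkill : ∀ {y}, y ∈ Y → ∀ v, T.θ j y (T.θ j z v * v⁻¹) = T.θ j z v * v⁻¹ := fun {y} hy v => by
    rw [hz, map_commutatorElement]
    refine comm_fix ?_ (hmemY.1 hy).2 v
    exact (hθM (hmemY.1 hy).1 hm).symm
  refine hzB (T.split j h1j hjN' ?_ hzM)
  haveI : (rser K j).Normal := rser_normal K j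
  haveI : (⁅T.A j, rser K j⁆ : Subgroup G).Normal := commutator_normal _ _
  intro x hx
  refine (T.mem_B j hjN' x).2 ⟨commutator_le_left _ _ hx,
    le_centMod_of_fix (T.step (j + 1) hj) (by infer_instance) hv₁ (fun d hd => ?_) hx⟩
  suffices ⁅T.A j, rser K j⁆ ≤ (fixSub {T.θ j z v₁ * v₁⁻¹}).comap (T.θ j) from this hd _ rfl
  refine commutator_le.2 fun x hx l hl => ?_
  obtain ⟨y, hy, m', hm', rfl⟩ := hdec x hx
  rw [mem_comap, mem_fixSub]
  rintro _ rfl
  have hlz : Commute (T.θ j l) (T.θ j z) := by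
    refine commutatorElement_eq_one_iff_commute.1 ?_
    rw [← map_commutatorElement]
    exact T.θ_of_B hjN' (T.central j h1j hjN' l hl z hzM)
  have h1 : T.θ j ⁅m', l⁆ = 1 := by
    rw [← commutatorElement_inv, map_inv, T.θ_of_B hjN' (T.central j h1j hjN' l hl m' hm'), inv_one]
  rw [commutator_mul_left, map_mul (T.θ j), map_mul (T.θ j), map_mul (T.θ j), h1, mul_one, map_inv (T.θ j),
    mul_inv_cancel, one_mul,
    map_commutatorElement, commutatorElement_def]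
  simp only [MulAut.mul_apply]
  have e : ∀ g : MulAut (Sect (T.A (j + 1)) (T.M (j + 1))), Commute g (T.θ j z) → ∀ v,
      g (T.θ j z v * v⁻¹) = T.θ j z (g v) * (g v)⁻¹ := fun g hg v => by
    rw [map_mul, map_inv, ← MulAut.mul_apply, hg.eq, MulAut.mul_apply]
  have hy' := hkill (inv_mem hy)
  simp only [map_inv] at hy'
  rw [e _ hlz.inv_left, hy', e _ hlz, MulAut.apply_inv_self, hkill hy]

end Tower

end CfsgLib.PGroup.TurullFix
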