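import Cfsg.Agent.Lib.PGroup.HallHighmanFrob
import Cfsg.Agent.Lib.CFun.OddZgroupCore
import Cfsg.Agent.Lib.PGroup.TurullFix.Comp

/-!
Fixed vectors of a section and fixed functions on it.
-/

set_option autoImplicit false
set_option linter.style.haveILetI false
set_option linter.unusedSectionVars false

namespace CfsgLib.PGroup.TurullFix

open CfsgLib.PGroup
open Subgroup
open scoped commutatorElement BigOperators

universe u

variable {V : Type u}

/-- The subgroup generated by all `g v * v⁻¹`. -/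
def mspan [Group V] (M : Subgroup (MulAut V)) : Subgroup V :=
  closure {x | ∃ g ∈ M, ∃ v : V, g v * v⁻¹ = x}

theorem mspan_mem [Group V] {M : Subgroup (MulAut V)} {g : MulAut V} (hg : g ∈ M) (v : V) :
    g v * v⁻¹ ∈ mspan M :=
  subset_closure ⟨g, hg, v, rfl⟩

theorem mspan_inv [Group V] {M : Subgroup (MulAut V)} {h : MulAut V}
    (hh : h ∈ normalizer (M : Set (MulAut V))) {x : V} (hx : x ∈ mspan M) : h x ∈ mspan M := by
  induction hx using closure_induction with
  | mem x hx =>
    obtain ⟨g, hg, v, rfl⟩ := hx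
    have := mspan_mem ((mem_normalizer_iff.1 hh g).1 hg) (h v)
    rw [MulAut.mul_apply, MulAut.mul_apply, MulAut.inv_apply_self] at this
    rwa [map_mul, map_inv]
  | one => rw [map_one]; exact one_mem _
  | mul x y _ _ hx hy => rw [map_mul]; exact mul_mem hx hy
  | inv x _ hx => rw [map_inv]; exact inv_mem hx

/-- The dual action on the additive functions with values in the algebraic closure. -/
noncomputable abbrev dual (p : ℕ) [Fact p.Prime] (V : Type u) [CommGroup V] :
    MulAut V →* Module.End (AlgebraicClosure (ZMod p)) (Additive V →+ AlgebraicClosure (ZMod p)) :=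
  dRep (AlgebraicClosure (ZMod p)) (MonoidHom.id (MulAut V))

variable [CommGroup V] [Finite V] {p : ℕ} [Fact p.Prime]

theorem dual_faithful (hV : ∀ v : V, v ^ p = 1) {x : MulAut V} (hx : dual p V x = 1) : x = 1 := by
  refine inv_eq_one.1 (MulEquiv.ext fun v => ?_)
  have h := CfsgLib.CFun.ZLen.eq_of_dRep_eq (c := MonoidHom.id (MulAut V)) hV
    (hx.trans (map_one (dual p V)).symm) v
  rw [MonoidHom.id_apply, MonoidHom.id_apply, inv_one] at h
  exact h

/-- Fixed functions are fixed by what fixes the fixed vectors. -/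
theorem dual_fix {M : Subgroup (MulAut V)} {a y : MulAut V} {r : ℕ} (har : a ^ r = 1)
    (hrk : (r : AlgebraicClosure (ZMod p)) ≠ 0) (hMk : (Nat.card M : AlgebraicClosure (ZMod p)) ≠ 0)
    (haM : a ∈ normalizer (M : Set (MulAut V))) (hyM : y ∈ normalizer (M : Set (MulAut V)))
    (hya : Commute y a) (hfix : ∀ v ∈ mspan M, a v = v → y v = v)
    {f : Additive V →+ AlgebraicClosure (ZMod p)} (hf : f ∈ cspan (dual p V) M)
    (hfa : dual p V a f = f) : dual p V y f = f := by
  classical
  haveI : Fintype M := Fintype.ofFinite M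
  have hker : ∀ c : V, (∀ g ∈ M, g c = c) → f (Additive.ofMul c) = 0 := by
    intro c hc
    clear hfa
    induction hf using Submodule.span_induction with
    | mem x hx =>
      obtain ⟨g, hg, w, rfl⟩ := hx
      rw [AddMonoidHom.sub_apply, dRep_apply, MonoidHom.id_apply, hc _ (inv_mem hg), sub_self]
    | zero => rfl
    | add u v _ _ hu hv => rw [AddMonoidHom.add_apply, hu, hv, add_zero]
    | smul t u _ hu =>
      show t • u (Additive.ofMul c) = 0
      rw [hu, smul_zero]
  refine AddMonoidHom.ext fun v => ?_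
  obtain ⟨v, rfl⟩ := Additive.ofMul.surjective v
  rw [dRep_apply, MonoidHom.id_apply]
  set Nm := ∏ g : M, (g : MulAut V) v with hNm
  set u := ∏ g : M, v * ((g : MulAut V) v)⁻¹ with hu
  have hNfix : ∀ g ∈ M, g Nm = Nm := by
    intro g hg
    rw [hNm, map_prod]
    exact Fintype.prod_bijective (fun h : M => ⟨g, hg⟩ * h) (Group.mulLeft_bijective _) _ _ fun h => rfl
  have huX : u ∈ mspan M := prod_mem fun g _ => by
    have := inv_mem (mspan_mem g.2 v)
    rwa [mul_inv_rev, inv_inv] at this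
  have hsplit : v ^ Fintype.card M = Nm * u := by
    rw [hNm, hu, ← Finset.prod_mul_distrib, ← Finset.card_univ, ← Finset.prod_const]
    exact Finset.prod_congr rfl fun g _ => by rw [mul_left_comm, mul_inv_cancel, mul_one]
  have hyi : y⁻¹ ∈ normalizer (M : Set (MulAut V)) := inv_mem hyM
  have hyN : ∀ g ∈ M, g (y⁻¹ Nm) = y⁻¹ Nm := by
    intro g hg
    have := congrArg (fun z => y⁻¹ z) (hNfix _ ((mem_normalizer_iff.1 hyM g).1 hg))
    rwa [MulAut.mul_apply, MulAut.mul_apply, MulAut.inv_apply_self] at this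
  obtain ⟨h1, h2⟩ := CfsgLib.CFun.ZLen.dRep_fixed_avg (c := MonoidHom.id (MulAut V)) har hfa u
  obtain ⟨h3, -⟩ := CfsgLib.CFun.ZLen.dRep_fixed_avg (c := MonoidHom.id (MulAut V)) har hfa (y⁻¹ u)
  simp only [MonoidHom.id_apply] at h1 h2 h3
  set ub := ∏ i ∈ Finset.range r, (a ^ i) u with hub
  have hubX : ub ∈ mspan M := prod_mem fun i _ => mspan_inv (pow_mem haM i) huX
  have hyu : y⁻¹ ub = ub := by
    conv_lhs => rw [← hfix ub hubX h2, MulAut.inv_apply_self]
  have havg : ∏ i ∈ Finset.range r, (a ^ i) (y⁻¹ u) = ub := by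
    refine Eq.trans ?_ hyu
    rw [hub]
    conv_rhs => rw [map_prod]
    exact Finset.prod_congr rfl fun i _ => by
      rw [← MulAut.mul_apply, ← MulAut.mul_apply, ((hya.inv_left).pow_right i).eq]
  rw [havg, h1, nsmul_eq_mul, nsmul_eq_mul] at h3
  have h4 : f (Additive.ofMul (y⁻¹ u)) = f (Additive.ofMul u) := (mul_left_cancel₀ hrk h3).symm
  have h5 : Fintype.card M • f (Additive.ofMul v) = f (Additive.ofMul u) := by
    rw [← map_nsmul, ← ofMul_pow, hsplit, ofMul_mul, map_add, hker Nm hNfix, zero_add]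
  have h6 : Fintype.card M • f (Additive.ofMul (y⁻¹ v)) = f (Additive.ofMul u) := by
    rw [← map_nsmul, ← ofMul_pow, ← map_pow, hsplit, map_mul, ofMul_mul, map_add, hker _ hyN, zero_add, h4]
  rw [← h5, nsmul_eq_mul, nsmul_eq_mul, ← Nat.card_eq_fintype_card] at h6
  exact mul_left_cancel₀ hMk h6

/-- A fixed-point-free group of operators leaves a fixed vector in the moved part. -/
theorem exists_fixed_moved {S : Subgroup (MulAut V)}
    {a : MulAut V} {r : ℕ} (hr : r.Prime) (har : a ^ r = 1) (haS : a ∈ normalizer (S : Set (MulAut V)))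
    (hfree : ∀ z ∈ S, Commute z a → z = 1) (hco : ∀ v : V, v ^ Nat.card S = 1 → v = 1)
    {v : V} (hv : v ∈ mspan S) (hv1 : v ≠ 1) : ∃ w ∈ mspan S, a w = w ∧ w ≠ 1 := by
  classical
  by_contra hc
  push Not at hc
  haveI : Fintype S := Fintype.ofFinite S
  refine hv1 (hco v ?_)
  have hsum : ∀ x ∈ mspan S, ∏ g : S, (g : MulAut V) x = 1 := by
    intro x hx
    induction hx using closure_induction with
    | mem x hx =>
      obtain ⟨g, hg, w, rfl⟩ := hx
      simp only [map_mul, map_inv, Finset.prod_mul_distrib, Finset.prod_inv_distrib]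
      rw [mul_inv_eq_one]
      exact Fintype.prod_bijective (fun h : S => h * ⟨g, hg⟩) (Group.mulRight_bijective _) _ _ fun h => rfl
    | one => exact Finset.prod_eq_one fun g _ => map_one _
    | mul x y _ _ hx hy => simp only [map_mul, Finset.prod_mul_distrib, hx, hy, mul_one]
    | inv x _ hx => simp only [map_inv, Finset.prod_inv_distrib, hx, inv_one]
  have hone : ∀ x ∈ mspan S, ∏ i ∈ Finset.range r, (a ^ i) x = 1 := by
    intro x hx
    refine hc _ (prod_mem fun i _ => mspan_inv (pow_mem haS i) hx) ?_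
    have e := Finset.prod_range_succ' (fun i => (a ^ i) x) r
    rw [Finset.prod_range_succ, har, pow_zero, mul_left_inj] at e
    rw [map_prod]
    conv_rhs => rw [e]
    exact Finset.prod_congr rfl fun i _ => by rw [← MulAut.mul_apply, ← pow_succ']
  have hmem : ∀ (i : ℕ) (g : S), (g : MulAut V) * (a ^ i * (g : MulAut V)⁻¹ * (a ^ i)⁻¹) ∈ S := fun i g =>
    mul_mem g.2 ((mem_normalizer_iff.1 (pow_mem haS i) _).1 (inv_mem g.2))
  have htot : ∏ i ∈ Finset.range r, ∏ g : S,
      ((g : MulAut V) * (a ^ i * (g : MulAut V)⁻¹ * (a ^ i)⁻¹)) ((a ^ i) v) = 1 := by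
    rw [Finset.prod_comm]
    refine Finset.prod_eq_one fun g _ => ?_
    refine Eq.trans ?_ (map_one (g : MulAut V))
    rw [← hone _ (mspan_inv (inv_mem (le_normalizer g.2)) hv), map_prod]
    exact Finset.prod_congr rfl fun i _ => by
      simp only [← MulAut.mul_apply]
      congr 1
      group
  rw [Finset.prod_eq_single 0 ?_ (fun h => absurd (Finset.mem_range.2 hr.pos) h)] at htot
  · simp only [pow_zero, one_mul, inv_one, mul_one, mul_inv_cancel, MulAut.one_apply, Finset.prod_const,
      Finset.card_univ] at htot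
    rwa [Nat.card_eq_fintype_card]
  intro i hi hi0
  have hir := Finset.mem_range.1 hi
  have hinj : Function.Injective fun g : S =>
      (⟨(g : MulAut V) * (a ^ i * (g : MulAut V)⁻¹ * (a ^ i)⁻¹), hmem i g⟩ : S) := by
    intro g g' he
    have he' : (g : MulAut V) * (a ^ i * (g : MulAut V)⁻¹ * (a ^ i)⁻¹) =
        (g' : MulAut V) * (a ^ i * (g' : MulAut V)⁻¹ * (a ^ i)⁻¹) := congrArg Subtype.val he
    set z := (g' : MulAut V)⁻¹ * (g : MulAut V) with hz
    have hzS : z ∈ S := mul_mem (inv_mem g'.2) g.2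
    have hw : a ^ i * (g' : MulAut V)⁻¹ * (a ^ i)⁻¹ ∈ S :=
      (mem_normalizer_iff.1 (pow_mem haS i) _).1 (inv_mem g'.2)
    have h1 : z = a ^ i * z * (a ^ i)⁻¹ := by
      rw [hz]
      calc (g' : MulAut V)⁻¹ * g = (g' : MulAut V)⁻¹ * ((g : MulAut V) *
            (a ^ i * (g : MulAut V)⁻¹ * (a ^ i)⁻¹)) * (a ^ i * g * (a ^ i)⁻¹) := by group
        _ = (a ^ i * (g' : MulAut V)⁻¹ * (a ^ i)⁻¹) * (a ^ i * g * (a ^ i)⁻¹) := by rw [he']; group
        _ = _ := by group
    obtain ⟨j, hj⟩ := Nat.exists_mul_mod_eq_one_of_coprime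
      ((Nat.coprime_of_lt_prime hi0 hir hr).symm) hr.one_lt
    have h2 : Commute z (a ^ i) := (eq_mul_inv_iff_mul_eq.1 h1)
    have h3 : (a ^ i) ^ j = a := by
      rw [← pow_mul, ← Nat.mod_add_div (i * j) r, hj.2, pow_add, pow_one, pow_mul, har, one_pow, mul_one]
    exact Subtype.ext (inv_mul_eq_one.1 (hfree z hzS (h3 ▸ h2.pow_right j))).symm
  exact (Fintype.prod_bijective _ (Finite.injective_iff_bijective.1 hinj) _
    (fun g : S => (g : MulAut V) ((a ^ i) v)) fun g => rfl).trans (hsum _ (mspan_inv (pow_mem haS i) hv))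

end CfsgLib.PGroup.TurullFix
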