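import Mathlib.GroupTheory.FiniteAbelian.Duality
import Mathlib.RingTheory.RootsOfUnity.AlgebraicallyClosed
import Mathlib.Analysis.Complex.Polynomial.Basic
import Mathlib.GroupTheory.PGroup

/-!
Isotropic subgroups, and elements avoiding finitely many translates of a subgroup.
-/

set_option autoImplicit false
set_option linter.style.haveILetI false
set_option linter.unusedSectionVars false

namespace CfsgLib.PGroup.TurullFix

universe u

variable {J : Type u} [CommGroup J] [Finite J]

theorem hasRoots : HasEnoughRootsOfUnity ℂ (Monoid.exponent J) := by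
  haveI : NeZero (Monoid.exponent J) := ⟨Monoid.exponent_ne_zero_of_finite⟩
  infer_instance

theorem card_homs (K : Type u) [CommGroup K] [Finite K] : Nat.card (K →* ℂˣ) = Nat.card K := by
  haveI := hasRoots (J := K)
  obtain ⟨e⟩ := CommGroup.monoidHom_mulEquiv_of_hasEnoughRootsOfUnity K ℂ
  exact Nat.card_congr e.toEquiv

/-- An isotropic subgroup of a non-degenerate pairing has order at most the square root. -/
theorem card_sq_le (c : J →* J →* ℂˣ) (hnd : ∀ x, (∀ y, c x y = 1) → x = 1) (N : Subgroup J)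
    (hiso : ∀ x ∈ N, ∀ y ∈ N, c x y = 1) : Nat.card N * Nat.card N ≤ Nat.card J := by
  let Φ : J →* (N →* ℂˣ) :=
    { toFun := fun y => { toFun := fun x => c x y, map_one' := by simp, map_mul' := fun x x' => by simp }
      map_one' := MonoidHom.ext fun x => by simp
      map_mul' := fun y y' => MonoidHom.ext fun x => by simp }
  set M := Φ.ker with hM
  have hNM : N ≤ M := fun y hy => MonoidHom.ext fun x => hiso x x.2 y hy
  let Ψ : N → (J ⧸ M →* ℂˣ) := fun x => QuotientGroup.lift M (c x) fun y hy => by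
    have := DFunLike.congr_fun (show Φ y = 1 from hy) x
    exact this
  have hΨ : Function.Injective Ψ := by
    intro x x' h
    refine Subtype.ext ?_
    rw [← mul_inv_eq_one]
    refine hnd _ fun y => ?_
    have this : c x y = c x' y := DFunLike.congr_fun h (y : J ⧸ M)
    rw [map_mul, map_inv, MonoidHom.mul_apply, MonoidHom.inv_apply, this, mul_inv_cancel]
  haveI : Finite (J ⧸ M →* ℂˣ) := Nat.finite_of_card_ne_zero (by rw [card_homs]; exact Nat.card_pos.ne')
  have h1 : Nat.card N ≤ Nat.card (J ⧸ M) := (Nat.card_le_card_of_injective Ψ hΨ).trans (card_homs _).le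
  calc Nat.card N * Nat.card N ≤ Nat.card (J ⧸ M) * Nat.card M :=
        Nat.mul_le_mul h1 (Subgroup.card_le_of_le hNM)
    _ = Nat.card J := (Subgroup.card_eq_card_quotient_mul_card_subgroup M).symm

/-- Points avoiding an invariant isotropic subgroup and `r` of its preimages. -/
theorem exists_avoid {r : ℕ} (hr : r.Prime) (σ : J ≃* J) (hσr : ∀ x, σ^[r] x = x)
    (hσ : ∀ x, σ x = x → x = 1) (g : Fin r → J →* J) (hg : ∀ i x, g i x = x → x = 1)
    (c : J →* J →* ℂˣ) (hnd : ∀ x, (∀ y, c x y = 1) → x = 1) (N : Subgroup J)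
    (hσN : ∀ x ∈ N, σ x ∈ N) (hiso : ∀ x ∈ N, ∀ y ∈ N, c x y = 1) (hne : Nontrivial J) :
    ∃ x, x ∉ N ∧ ∀ i, g i x * x⁻¹ ∉ N := by
  classical
  haveI := Fintype.ofFinite J
  haveI : Fact r.Prime := ⟨hr⟩
  set m := Nat.card N with hm
  -- the count modulo `r`
  have hmod : m ≡ 1 [MOD r] := by
    let τ : Equiv.Perm N :=
      { toFun := fun x => ⟨σ x, hσN x x.2⟩
        invFun := fun x => ⟨σ^[r - 1] x, by
          induction (r - 1) with
          | zero => exact x.2
          | succ n ih => rw [Function.iterate_succ_apply']; exact hσN _ ih⟩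
        left_inv := fun x => Subtype.ext (by
          show σ^[r - 1] (σ x) = x
          rw [← Function.iterate_succ_apply, Nat.succ_eq_add_one, Nat.sub_add_cancel hr.one_le, hσr])
        right_inv := fun x => Subtype.ext (by
          show σ (σ^[r - 1] x) = x
          rw [← Function.iterate_succ_apply' σ, Nat.succ_eq_add_one, Nat.sub_add_cancel hr.one_le, hσr]) }
    have hτ : τ ^ r = 1 := Equiv.ext fun x => Subtype.ext (by
      have : ∀ n, (((τ ^ n) x : N) : J) = σ^[n] x := by
        intro n
        induction n with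
        | zero => rfl
        | succ n ih => rw [pow_succ', Function.iterate_succ_apply', ← ih]; rfl
      rw [this, hσr]; rfl)
    have hP : IsPGroup r (Subgroup.zpowers τ) := fun x => ⟨1, by
      obtain ⟨i, hi⟩ := Subgroup.mem_zpowers_iff.1 x.2
      refine Subtype.ext ?_
      rw [pow_one, SubgroupClass.coe_pow, ← hi, ← zpow_natCast, ← zpow_mul, mul_comm, zpow_mul,
        zpow_natCast, hτ, one_zpow, OneMemClass.coe_one]⟩
    have h := hP.card_modEq_card_fixedPoints N
    suffices hF : Nat.card (MulAction.fixedPoints (Subgroup.zpowers τ) N) = 1 by rwa [hF] at h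
    rw [Nat.card_eq_one_iff_unique]
    refine ⟨⟨fun x y => Subtype.ext ?_⟩, ⟨⟨1, fun z => ?_⟩⟩⟩
    · have h1 : ∀ z : MulAction.fixedPoints (Subgroup.zpowers τ) N, (z : N) = 1 := fun z =>
        Subtype.ext (hσ _ (congrArg Subtype.val (z.2 ⟨τ, Subgroup.mem_zpowers τ⟩)))
      rw [h1 x, h1 y]
    · obtain ⟨i, hi⟩ := Subgroup.mem_zpowers_iff.1 z.2
      show (z : Equiv.Perm N) 1 = 1
      rw [← hi]
      exact Equiv.Perm.zpow_apply_eq_self_of_apply_eq_self (Subtype.ext (map_one σ)) i
  -- the count
  let S : Option (Fin r) → Finset J := fun o =>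
    match o with
    | none => Finset.univ.filter fun x => x ∈ N ∧ x ≠ 1
    | some i => Finset.univ.filter fun x => g i x * x⁻¹ ∈ N ∧ x ≠ 1
  have hS : ∀ o, (S o).card ≤ m - 1 := by
    intro o
    have hN1 : ((Finset.univ.filter fun x : J => x ∈ N).erase 1).card = m - 1 := by
      rw [Finset.card_erase_of_mem (by simp), hm, Nat.card_eq_fintype_card,
        ← Fintype.card_subtype (fun x : J => x ∈ N)]
    rw [← hN1]
    cases o with
    | none => exact Finset.card_le_card fun x => by simp [S, and_comm]
    | some i =>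
      refine Finset.card_le_card_of_injOn (fun x => g i x * x⁻¹) (fun x hx => ?_) fun x _ y _ h => ?_
      · simp only [S, Finset.coe_filter, Finset.mem_univ, true_and, Set.mem_setOf_eq] at hx
        simp only [Finset.coe_erase, Finset.coe_filter, Finset.mem_univ, true_and, Set.mem_sdiff,
          Set.mem_setOf_eq, Set.mem_singleton_iff]
        exact ⟨hx.1, fun e => hx.2 (hg i x (mul_inv_eq_one.1 e))⟩
      · refine mul_inv_eq_one.1 (hg i _ ?_)
        have h' : g i x * x⁻¹ = g i y * y⁻¹ := h
        rw [map_mul, map_inv]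
        calc g i x * (g i y)⁻¹ = (g i x * x⁻¹) * x * (g i y)⁻¹ := by group
          _ = (g i y * y⁻¹) * x * (g i y)⁻¹ := by rw [h']
          _ = x * y⁻¹ := by rw [mul_comm (g i y), mul_assoc, mul_assoc, mul_comm (g i y), mul_assoc,
              inv_mul_cancel, mul_one, mul_comm]
  by_contra hc
  push Not at hc
  have hsub : (Finset.univ : Finset J).erase 1 ⊆ Finset.univ.biUnion S := by
    intro x hx
    have hx1 : x ≠ 1 := (Finset.mem_erase.1 hx).1
    by_cases hxN : x ∈ N
    · exact Finset.mem_biUnion.2 ⟨none, Finset.mem_univ _, by simp [S, hxN, hx1]⟩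
    · obtain ⟨i, hi⟩ := hc x hxN
      exact Finset.mem_biUnion.2 ⟨some i, Finset.mem_univ _, by simp [S, hi, hx1]⟩
  have hcount : Nat.card J - 1 ≤ (r + 1) * (m - 1) := by
    have h := (Finset.card_le_card hsub).trans (Finset.card_biUnion_le)
    rw [Finset.card_erase_of_mem (Finset.mem_univ _), Finset.card_univ] at h
    rw [Nat.card_eq_fintype_card]
    refine h.trans ((Finset.sum_le_card_nsmul _ _ _ fun o _ => hS o).trans (le_of_eq ?_))
    rw [Finset.card_univ, Fintype.card_option, Fintype.card_fin, smul_eq_mul]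
  have hsq := card_sq_le c hnd N hiso
  rw [← hm] at hsq
  have hJ : 2 ≤ Nat.card J := Finite.one_lt_card
  have hm0 : 1 ≤ m := Nat.card_pos
  rcases Nat.eq_or_lt_of_le hm0 with h1 | h1
  · rw [← h1] at hcount; omega
  · obtain ⟨l, hl⟩ := (Nat.modEq_iff_dvd' hm0).1 hmod.symm
    have hl0 : 1 ≤ l := by
      rcases Nat.eq_zero_or_pos l with rfl | h0
      · omega
      · exact h0
    obtain ⟨t, ht⟩ : ∃ t, m = r + 1 + t := ⟨m - (r + 1), by
      have : r ≤ r * l := Nat.le_mul_of_pos_right r hl0
      omega⟩
    rw [ht, show r + 1 + t - 1 = r + t by omega] at hcount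
    rw [ht] at hsq
    have h2 : (r + 1) * (r + t) + 1 < (r + 1 + t) * (r + 1 + t) := by nlinarith [hr.one_le]
    omega

end CfsgLib.PGroup.TurullFix
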