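import Cfsg.Agent.Lib.PGroup.TurullFix.StepA

/-!
An element centralized by `a` and acting on `T` moves a fixed element of `⁅P, ⁅⁅T, a⁆, g⁆⁆` only if it
produces one moving a fixed vector of `⁅V, ⁅P, a⁆⁆`.
-/

set_option autoImplicit false
set_option linter.style.haveILetI false
set_option linter.unusedSectionVars false

namespace CfsgLib.PGroup.TurullFix

open CfsgLib.PGroup
open Subgroup
open scoped commutatorElement BigOperators

universe u v w

variable {H : Type u} [Group H]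

theorem aComm_normalizer [Finite H] {T : Subgroup H} {a g : H} (hg : g ∈ normalizer (T : Set H))
    (hga : Commute g a) : g ∈ normalizer (aComm T a : Set H) := by
  rw [← CfsgLib.Coprime.conjBy_eq_self_iff]
  refine eq_of_le_of_card_ge ?_ (by rw [CfsgLib.Coprime.card_conjBy])
  rw [CfsgLib.Coprime.conjBy, map_le_iff_le_comap, aComm, closure_le]
  rintro z ⟨τ, hτ, rfl⟩
  have hτ' : g * τ * g⁻¹ ∈ T := (mem_normalizer_iff.1 hg τ).1 hτ
  have e : g * (τ⁻¹ * (a * τ * a⁻¹)) * g⁻¹ =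
      (g * τ * g⁻¹)⁻¹ * (a * (g * τ * g⁻¹) * a⁻¹) := by
    calc g * (τ⁻¹ * (a * τ * a⁻¹)) * g⁻¹ = (g * τ * g⁻¹)⁻¹ * ((g * a) * τ * (g * a)⁻¹) := by group
    _ = (g * τ * g⁻¹)⁻¹ * ((a * g) * τ * (a * g)⁻¹) := by rw [hga.eq]
    _ = _ := by group
  have := aComm_mem (a := a) hτ'
  rw [← e] at this
  exact this

/-- A finite abelian group with a fixed-point-free automorphism of prime order is not covered by the
preimages of a proper invariant subgroup under `r` injective endomorphisms and the subgroup. -/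
theorem exists_not_mem_preimage {J : Type*} [CommGroup J] [Finite J] {r : ℕ} (K : Subgroup J)
    (σ : J →* J) (hfree : ∀ x ∉ K, ∀ i j, i < j → j < r → (σ^[j] x)⁻¹ * σ^[i] x ∉ K)
    (hσK : ∀ x ∉ K, ∀ i < r, σ^[i] x ∉ K) (hne : K ≠ ⊤) (h : Fin r → J →* J)
    (hinj : ∀ i x, h i x = 1 → x = 1) : ∃ x, x ∉ K ∧ ∀ i, h i x ∉ K := by
  classical
  by_contra hc
  push Not at hc
  haveI := Fintype.ofFinite J
  have hr : ∀ x : J, x ∈ K ∨ ∃ i, x ∈ K.comap (h i) := fun x => by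
    by_cases hx : x ∈ K
    · exact Or.inl hx
    · exact Or.inr (hc x hx)
  set m := Nat.card K with hm
  have hm1 : 1 ≤ m := Nat.card_pos
  -- upper bound
  let F : (K ⊕ Σ i : Fin r, {x : K.comap (h i) // (x : J) ≠ 1}) → J :=
    Sum.elim (fun x => (x : J)) (fun p => (p.2.1 : J))
  have hF : Function.Surjective F := fun x => by
    rcases hr x with hx | ⟨i, hi⟩
    · exact ⟨Sum.inl ⟨x, hx⟩, rfl⟩
    · by_cases hx1 : x = 1
      · exact ⟨Sum.inl ⟨1, one_mem K⟩, hx1.symm⟩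
      · exact ⟨Sum.inr ⟨i, ⟨⟨x, hi⟩, hx1⟩⟩, rfl⟩
  have hsub : ∀ i, Nat.card {x : K.comap (h i) // (x : J) ≠ 1} ≤ m - 1 := fun i => by
    have e : Nat.card {x : K // (x : J) ≠ 1} = m - 1 := by
      have h1 : Fintype.card {x : K // x = 1} = 1 := Fintype.card_subtype_eq 1
      have h2 := Fintype.card_subtype_compl (fun x : K => x = 1)
      rw [h1] at h2
      rw [Nat.card_eq_fintype_card, hm, Nat.card_eq_fintype_card, ← h2]
      exact Fintype.card_congr (Equiv.subtypeEquivRight fun x => not_congr (by simp))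
    rw [← e]
    refine Nat.card_le_card_of_injective
      (fun x => (⟨⟨h i x.1, x.1.2⟩, fun e => x.2 (hinj i _ e)⟩ : {x : K // (x : J) ≠ 1})) ?_
    intro x y hxy
    have e : h i (x.1 : J) = h i (y.1 : J) := congrArg (fun z => ((z.1 : K) : J)) hxy
    refine Subtype.ext (Subtype.ext (inv_mul_eq_one.1 (hinj i _ ?_)).symm)
    rw [map_mul, map_inv, e, inv_mul_cancel]
  have hle : Nat.card J ≤ m + r * (m - 1) := by
    refine (Nat.card_le_card_of_surjective F hF).trans ?_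
    rw [Nat.card_sum, Nat.card_sigma]
    refine Nat.add_le_add_left ?_ _
    calc ∑ i : Fin r, Nat.card {x : K.comap (h i) // (x : J) ≠ 1}
        ≤ ∑ _i : Fin r, (m - 1) := Finset.sum_le_sum fun i _ => hsub i
      _ = r * (m - 1) := by simp
  -- lower bound
  obtain ⟨x, -, hx⟩ := SetLike.exists_of_lt (lt_top_iff_ne_top.2 hne)
  let G : Option (Fin r) × K → J :=
    fun p => (p.1.elim 1 fun i => σ^[(i : ℕ)] x) * (p.2 : J)
  have hG : Function.Injective G := by
    rintro ⟨o, k⟩ ⟨o', k'⟩ he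
    have ho : o = o' := by
      have hdiff : (o.elim 1 fun i => σ^[(i : ℕ)] x)⁻¹ * (o'.elim 1 fun i => σ^[(i : ℕ)] x) ∈ K := by
        have : (o.elim 1 fun i => σ^[(i : ℕ)] x)⁻¹ * (o'.elim 1 fun i => σ^[(i : ℕ)] x) =
            (k : J) * (k' : J)⁻¹ := by
          rw [inv_mul_eq_iff_eq_mul, ← mul_assoc, eq_mul_inv_iff_mul_eq]
          exact he.symm
        rw [this]
        exact mul_mem k.2 (inv_mem k'.2)
      cases o with
      | none =>
        cases o' with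
        | none => rfl
        | some j => exact absurd (by simpa using hdiff) (hσK x hx j j.2)
      | some i =>
        cases o' with
        | none => exact absurd (by simpa using hdiff) (hσK x hx i i.2)
        | some j =>
          rcases lt_trichotomy (i : ℕ) j with hij | hij | hij
          · have := inv_mem hdiff
            rw [mul_inv_rev, inv_inv] at this
            exact absurd this (hfree x hx i j hij j.2)
          · rw [Fin.ext hij]
          · exact absurd hdiff (hfree x hx j i hij i.2)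
    subst ho
    exact Prod.ext rfl (Subtype.ext (mul_left_cancel he))
  have hge := Nat.card_le_card_of_injective G hG
  rw [Nat.card_prod, Nat.card_eq_fintype_card (α := Option (Fin r)), Fintype.card_option,
    Fintype.card_fin] at hge
  have := hge.trans hle
  obtain ⟨m', hm'⟩ : ∃ m', m = m' + 1 := ⟨m - 1, by omega⟩
  rw [← hm, hm', Nat.add_sub_cancel] at this
  rcases Nat.eq_zero_or_pos r with hr0 | hr0
  · -- `r = 0`: the subgroup is everything
    subst hr0
    exact hx ((hr x).resolve_right fun ⟨i, _⟩ => i.elim0)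
  · nlinarith

variable {k : Type v} [Field k] {W : Type w} [AddCommGroup W] [Module k W] {ρ : H →* Module.End k W}
  {a : H} {r : ℕ} {P P0 : Subgroup H} {q : ℕ}

section Steps

variable [Finite H] {C : Conf ρ a r P P0 q} {T T0 : Subgroup H} {t : ℕ} (K : Stack C T T0 t)
include K

/-- A choice of translation for which all the relevant translates move. -/
theorem Stack.exists_double_translate {N : Subgroup H} (haN : a ∈ normalizer (N : Set H))
    {g : H} (hga : Commute g a) (hgT : g ∈ normalizer (T : Set H)) (hgT0' : g ∈ normalizer (T0 : Set H))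
    (hgt : (orderOf g).Coprime t) (hgr : (orderOf g).Coprime r)
    (hne : ¬ aComm (aComm T a) g ≤
      aComm (aComm T a) g ⊓ T0 ⊔ aComm (aComm T a) g ⊓ N) :
    ∃ s ∈ aComm (aComm T a) g, s⁻¹ * (a * s * a⁻¹) ∉ N ∧
      (∀ i, 0 < i → i < r → (s⁻¹ * (a ^ i * s * (a ^ i)⁻¹)) *
        (a * (s⁻¹ * (a ^ i * s * (a ^ i)⁻¹))⁻¹ * a⁻¹) ∉ N) ∧
      ∀ i < r, (s⁻¹ * (a ^ i * g * s * (a ^ i * g)⁻¹)) *
        (a * (s⁻¹ * (a ^ i * g * s * (a ^ i * g)⁻¹))⁻¹ * a⁻¹) ∉ N := by
  set S := aComm T a with hS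
  set X := aComm S g with hX
  have hST : S ≤ T := aComm_le K.haT
  have haS : a ∈ normalizer (S : Set H) := Conf.mem_normalizer_aComm K.haT
  have hgS : g ∈ normalizer (S : Set H) := aComm_normalizer hgT hga
  have haX : a ∈ normalizer (X : Set H) := aComm_normalizer haS hga.symm
  have hgX : g ∈ normalizer (X : Set H) := Conf.mem_normalizer_aComm hgS
  have hXS : X ≤ S := aComm_le hgS
  set Z := X ⊓ T0 with hZ
  set Q := Z ⊔ X ⊓ N with hQ
  have hQX : Q ≤ X := sup_le inf_le_left inf_le_left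
  have hXX : ⁅X, X⁆ ≤ Z := le_inf
    ((commutator_le).2 fun x hx y hy => by
      rw [commutatorElement_def]; exact mul_mem (mul_mem (mul_mem hx hy) (inv_mem hx)) (inv_mem hy))
    ((commutator_mono (hXS.trans hST) (hXS.trans hST)).trans K.hab)
  have haZ : a ∈ normalizer (Z : Set H) := CfsgLib.Coprime.inf_le_normalizer (zpowers_le.2 haX)
    (zpowers_le.2 K.haT0) (mem_zpowers a)
  have hgZ : g ∈ normalizer (Z : Set H) := CfsgLib.Coprime.inf_le_normalizer (zpowers_le.2 hgX)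
    (zpowers_le.2 hgT0') (mem_zpowers g)
  have haQ : a ∈ normalizer (Q : Set H) := CfsgLib.Coprime.sup_le_normalizer (zpowers_le.2 haZ)
    (CfsgLib.Coprime.inf_le_normalizer (zpowers_le.2 haX) (zpowers_le.2 haN)) (mem_zpowers a)
  have hcoX : r.Coprime (Nat.card X) := K.coprime (hXS.trans hST)
  -- the norm of `a` is trivial modulo `Z`
  have hnormS : ∀ x ∈ X, pnorm a r x ∈ Z := fun x hx => mem_inf.2 ⟨pnorm_mem haX hx r, by
    have := pnorm_mem_of_closure (K := S ⊓ T0) haS inf_le_left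
      (le_inf ((commutator_le).2 fun u hu v hv => by
          rw [commutatorElement_def]
          exact mul_mem (mul_mem (mul_mem hu hv) (inv_mem hu)) (inv_mem hv))
        ((commutator_mono hST hST).trans K.hab))
      (X := {x | ∃ τ ∈ T, τ⁻¹ * (a * τ * a⁻¹) = x}) subset_closure
      (fun y hy => by
        obtain ⟨τ, -, rfl⟩ := hy
        rw [pnorm_comm C.har]
        exact one_mem _) (hXS hx)
    exact (mem_inf.1 this).2⟩
  have hfa : ∀ x ∈ X, x⁻¹ * (a * x * a⁻¹) ∈ Q → x ∈ Q := fun x hx h =>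
    mem_of_pnorm hQX (hXX.trans le_sup_left) haX haQ hcoX hx
      ((le_sup_left : Z ≤ Q) (hnormS x hx)) h
  have hfaZ : ∀ x ∈ X, x⁻¹ * (a * x * a⁻¹) ∈ Z → x ∈ Z := fun x hx h =>
    mem_of_pnorm inf_le_left hXX haX haZ hcoX hx (hnormS x hx) h
  have hpow : ∀ {B : Subgroup H}, a ∈ normalizer (B : Set H) → ∀ {x : H} {i : ℕ}, ¬ r ∣ i →
      x⁻¹ * (a ^ i * x * (a ^ i)⁻¹) ∈ B → x⁻¹ * (a * x * a⁻¹) ∈ B := fun {B} hB {x i} hi h => by
    obtain ⟨j, hj⟩ := Nat.exists_mul_mod_eq_one_of_coprime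
      ((C.hr.coprime_iff_not_dvd.2 hi).symm) C.hr.one_lt
    have h2 := kpow_mem hB h j
    rwa [← Nat.mod_add_div (i * j) r, hj.2, pow_add, pow_one, pow_mul, C.har, one_pow, mul_one] at h2
  -- `g` has no fixed points modulo `Z`
  haveI : Fact t.Prime := ⟨K.ht⟩
  have hcoprime : ∀ {Y : Subgroup H}, Y ≤ T → (orderOf g).Coprime (Nat.card Y) := fun {Y} hY => by
    obtain ⟨n, hn⟩ := IsPGroup.iff_card.1 (K.hT.to_le hY)
    rw [hn]
    exact Nat.Coprime.pow_right n hgt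
  have hidem : X ≤ aComm X g := by
    rw [hX, aComm_eq (isOfFinOrder_of_finite g) hgS,
      aComm_eq (isOfFinOrder_of_finite g) (aComm_eq (isOfFinOrder_of_finite g) hgS ▸ hgX),
      CfsgLib.Coprime.commutator_commutator_eq (zpowers_le.2 hgS) ?_
        (Or.inl (CfsgLib.Coprime.isSolvable_of_isMulCommutative inferInstance))]
    rw [Nat.card_zpowers]
    exact hcoprime hST
  have hfg : ∀ x ∈ X, x⁻¹ * (g * x * g⁻¹) ∈ Z → x ∈ Z := fun x hx h =>
    mem_of_pnorm inf_le_left hXX hgX hgZ (hcoprime (hXS.trans hST)) hx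
      (pnorm_mem_of_closure hgX inf_le_left hXX
        (X := {x | ∃ τ ∈ X, τ⁻¹ * (g * τ * g⁻¹) = x})
        (fun y hy => aComm_le hgX (subset_closure hy))
        (fun y hy => by
          obtain ⟨τ, -, rfl⟩ := hy
          rw [pnorm_comm (pow_orderOf_eq_one g)]
          exact one_mem _) (hidem hx)) h
  have hfag : ∀ i < r, ∀ x ∈ X, x⁻¹ * (a ^ i * g * x * (a ^ i * g)⁻¹) ∈ Z → x ∈ Z := by
    intro i hi x hx h
    rcases Nat.eq_zero_or_pos i with hi0 | hi0
    · subst hi0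
      rw [pow_zero, one_mul] at h
      exact hfg x hx h
    refine hfaZ x hx (hpow haZ (i := i * orderOf g) ?_ ?_)
    · intro hd
      rcases (Nat.Prime.dvd_mul C.hr).1 hd with hd | hd
      · exact absurd (Nat.le_of_dvd hi0 hd) (not_le.2 hi)
      · exact C.hr.one_lt.ne' (Nat.eq_one_of_dvd_coprimes hgr hd dvd_rfl)
    · have := kpow_mem (a := a ^ i * g) (i := 1) (s := x)
        (mul_mem (pow_mem haZ i) hgZ) (by rwa [pow_one]) (orderOf g)
      rwa [one_mul, (hga.symm.pow_left i).mul_pow, pow_orderOf_eq_one, mul_one, ← pow_mul] at this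
  -- the quotient
  let Z' : Subgroup X := Z.subgroupOf X
  haveI : Z'.Normal := ⟨fun n hn u => by
    rw [mem_subgroupOf] at hn ⊢
    exact conj_mem_of_comm_le inf_le_left hXX u.2 hn⟩
  let J := X ⧸ Z'
  letI : CommGroup J := { (inferInstance : Group J) with
    mul_comm := fun x y => by
      induction x using QuotientGroup.induction_on with | H x =>
      induction y using QuotientGroup.induction_on with | H y =>
      rw [← QuotientGroup.mk_mul, ← QuotientGroup.mk_mul, QuotientGroup.eq, mem_subgroupOf]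
      refine hXX (?_ : _ ∈ ⁅X, X⁆)
      have : ((x * y)⁻¹ * (y * x) : X) = ⁅y⁻¹, x⁻¹⁆ := by rw [commutatorElement_def]; group
      rw [this]
      simp only [commutatorElement_def, Subgroup.coe_mul, Subgroup.coe_inv]
      exact commutator_mem_commutator (inv_mem y.2) (inv_mem x.2) }
  have hconj : ∀ b, b ∈ normalizer (X : Set H) → b ∈ normalizer (Z : Set H) →
      ∃ f : J →* J, ∀ x : X, ∃ y : X, (y : H) = b * x * b⁻¹ ∧ f x = (y : J) := by
    intro b hbX hbZ
    obtain ⟨c, hc, -⟩ := exists_conjEquiv hbX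
    refine ⟨QuotientGroup.map Z' Z' c.toMonoidHom (fun x hx => ?_), fun x => ⟨c x, hc x, rfl⟩⟩
    rw [mem_comap, mem_subgroupOf, MulEquiv.coe_toMonoidHom, hc]
    exact (mem_normalizer_iff.1 hbZ _).1 hx
  obtain ⟨σ, hσ⟩ := hconj a haX haZ
  have hf : ∀ i : Fin r, ∃ f : J →* J, ∀ x : X, ∃ y : X,
      (y : H) = (x : H)⁻¹ * (a ^ (i : ℕ) * g * x * (a ^ (i : ℕ) * g)⁻¹) ∧ f x = (y : J) := by
    intro i
    obtain ⟨f, hf⟩ := hconj (a ^ (i : ℕ) * g) (mul_mem (pow_mem haX _) hgX) (mul_mem (pow_mem haZ _) hgZ)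
    refine ⟨(MonoidHom.id J)⁻¹ * f, fun x => ?_⟩
    obtain ⟨y, hy, hy'⟩ := hf x
    refine ⟨x⁻¹ * y, by rw [Subgroup.coe_mul, Subgroup.coe_inv, hy], ?_⟩
    rw [MonoidHom.mul_apply, MonoidHom.inv_apply, MonoidHom.id_apply, hy', QuotientGroup.mk_mul,
      QuotientGroup.mk_inv]
  choose f hf using hf
  have hσi : ∀ (i : ℕ) (x : X), ∃ y : X, (y : H) = a ^ i * x * (a ^ i)⁻¹ ∧ σ^[i] (x : J) = (y : J) := by
    intro i
    induction i with
    | zero => exact fun x => ⟨x, by simp, rfl⟩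
    | succ i ih =>
      intro x
      obtain ⟨y, hy, hy'⟩ := ih x
      obtain ⟨z, hz, hz'⟩ := hσ y
      refine ⟨z, ?_, by rw [Function.iterate_succ_apply', hy', hz']⟩
      rw [hz, hy, pow_succ']
      group
  set KJ : Subgroup J := (Q.subgroupOf X).map (QuotientGroup.mk' Z') with hKJ
  have hmemK : ∀ x : X, (x : J) ∈ KJ ↔ (x : H) ∈ Q := fun x => by
    rw [hKJ, mem_map]
    refine ⟨fun ⟨y, hy, hxy⟩ => ?_, fun h => ⟨x, h, rfl⟩⟩
    rw [QuotientGroup.mk'_apply, QuotientGroup.eq, mem_subgroupOf] at hxy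
    rw [mem_subgroupOf] at hy
    have := mul_mem hy ((le_sup_left : Z ≤ Q) hxy)
    rwa [Subgroup.coe_mul, Subgroup.coe_inv, mul_inv_cancel_left] at this
  suffices hmain : (∀ x ∉ KJ, ∀ i j, i < j → j < r → (σ^[j] x)⁻¹ * σ^[i] x ∉ KJ) ∧
      (∀ x ∉ KJ, ∀ i < r, σ^[i] x ∉ KJ) ∧ KJ ≠ ⊤ ∧ ∀ i x, f i x = 1 → x = 1 by
    obtain ⟨h1, h2, h3, h4⟩ := hmain
    obtain ⟨xJ, hxJ, hxf⟩ := exists_not_mem_preimage (r := r) KJ σ h1 h2 h3 f h4
    induction xJ using QuotientGroup.induction_on with | H x =>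
    rw [hmemK] at hxJ
    have key : ∀ u ∈ X, u ∉ Q → u⁻¹ * (a * u * a⁻¹) ∉ N := fun u hu huQ h => huQ (hfa u hu
      ((le_sup_right : X ⊓ N ≤ Q) (mem_inf.2
        ⟨mul_mem (inv_mem hu) ((mem_normalizer_iff.1 haX u).1 hu), h⟩)))
    have key' : ∀ u ∈ X, u ∉ Q → u * (a * u⁻¹ * a⁻¹) ∉ N := fun u hu huQ => by
      simpa only [inv_inv] using key u⁻¹ (inv_mem hu) (fun h => huQ (inv_inv u ▸ inv_mem h))
    refine ⟨x, x.2, key _ x.2 hxJ, fun i hi hir => ?_, fun i hir => ?_⟩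
    · refine key' _ (mul_mem (inv_mem x.2) (conj_pow_mem haX x.2 i)) fun h => hxJ (hfa _ x.2 ?_)
      exact hpow haQ (fun hd => absurd (Nat.le_of_dvd hi hd) (not_le.2 hir)) h
    · obtain ⟨y, hy, hy'⟩ := hf ⟨i, hir⟩ x
      have hn := hxf ⟨i, hir⟩
      rw [hy', hmemK, hy] at hn
      exact key' _ (hy ▸ y.2) hn
  refine ⟨?_, ?_, ?_, ?_⟩
  · intro u hu i j hij hjr
    induction u using QuotientGroup.induction_on with | H u =>
    obtain ⟨y, hy, hy'⟩ := hσi i u
    obtain ⟨z, hz, hz'⟩ := hσi j u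
    rw [hy', hz', ← QuotientGroup.mk_inv, ← QuotientGroup.mk_mul, hmemK, Subgroup.coe_mul,
      Subgroup.coe_inv, hy, hz]
    rw [hmemK] at hu
    intro h
    refine hu (hfa _ u.2 (hpow haQ (i := j - i) (fun hd => ?_) ?_))
    · exact absurd (Nat.le_of_dvd (by omega) hd) (not_le.2 (by omega))
    have h2 := inv_mem h
    have e : ((a ^ j * u * (a ^ j)⁻¹)⁻¹ * (a ^ i * u * (a ^ i)⁻¹))⁻¹ =
        a ^ i * ((u : H)⁻¹ * (a ^ (j - i) * u * (a ^ (j - i))⁻¹)) * (a ^ i)⁻¹ := by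
      conv_lhs => rw [← Nat.add_sub_cancel' hij.le, pow_add]
      group
    rw [e] at h2
    exact (mem_normalizer_iff.1 (pow_mem haQ i) _).2 h2
  · intro u hu i hir
    induction u using QuotientGroup.induction_on with | H u =>
    obtain ⟨y, hy, hy'⟩ := hσi i u
    rw [hy', hmemK, hy]
    rw [hmemK] at hu
    exact fun h => hu ((mem_normalizer_iff.1 (pow_mem haQ i) _).2 h)
  · intro h
    refine hne fun u hu => ?_
    have := (hmemK ⟨u, hu⟩).1 (h ▸ mem_top _)
    exact this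
  · intro i u hu
    induction u using QuotientGroup.induction_on with | H u =>
    obtain ⟨y, hy, hy'⟩ := hf i u
    rw [hy', QuotientGroup.eq_one_iff, mem_subgroupOf, hy] at hu
    rw [QuotientGroup.eq_one_iff, mem_subgroupOf]
    exact hfag i i.2 u u.2 hu

variable [IsAlgClosed k] [FiniteDimensional k W]

/-- An element centralized by `a`, centralizing `T0`, yields visible commutators. -/
theorem Stack.alpha {g : H} (hga : Commute g a) (hgP : g ∈ normalizer (P : Set H))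
    (hgP0 : g ∈ normalizer (P0 : Set H)) (hgT : g ∈ normalizer (T : Set H))
    (hgT0' : g ∈ normalizer (T0 : Set H)) (hgT0 : ∀ z ∈ T0, ∀ x ∈ P, Commute ⁅g, z⁆ x) (hgt : (orderOf g).Coprime t) (hgr : (orderOf g).Coprime r)
    (hfix : ∀ y ∈ ⁅P, aComm (aComm T a) g⁆, a * y * a⁻¹ = y →
      ∀ w ∈ cspan ρ (aComm P a), ρ a w = w → ρ ⁅g, y⁆ w = w)
    {y : H} (hy : y ∈ ⁅P, aComm (aComm T a) g⁆) (hya : a * y * a⁻¹ = y) : ⁅g, y⁆ = 1 := by
  set S := aComm T a with hS
  set X := aComm S g with hX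
  set Q := ⁅P, X⁆ with hQ
  have hST : S ≤ T := aComm_le K.haT
  have haS : a ∈ normalizer (S : Set H) := Conf.mem_normalizer_aComm K.haT
  have hgS : g ∈ normalizer (S : Set H) := aComm_normalizer hgT hga
  have haX : a ∈ normalizer (X : Set H) := aComm_normalizer haS hga.symm
  have hgX : g ∈ normalizer (X : Set H) := Conf.mem_normalizer_aComm hgS
  have hXS : X ≤ S := aComm_le hgS
  have hXT : X ≤ T := hXS.trans hST
  obtain ⟨hle, hXn, hidem, hnorm⟩ := K.comm_facts hXT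
  have haQ : a ∈ normalizer (Q : Set H) := hnorm a C.haP haX
  have hgQ : g ∈ normalizer (Q : Set H) := hnorm g hgP hgX
  have hconj : ∀ {b}, b ∈ normalizer (Q : Set H) → ∀ {z}, z ∈ Q → b * z * b⁻¹ ∈ Q :=
    fun {b} hb {z} hz => (mem_normalizer_iff.1 hb z).1 hz
  have hmem : ∀ z ∈ Q, ⁅g, z⁆ ∈ Q := fun z hz => mul_mem (hconj hgQ hz) (inv_mem hz)
  have hga' : a * g * a⁻¹ = g := by rw [← hga.eq, mul_inv_cancel_right]
  have hgia : a * g⁻¹ * a⁻¹ = g⁻¹ := by rw [← conj_inv, hga']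
  have hfixed : ∀ z, a * z * a⁻¹ = z → a * ⁅g, z⁆ * a⁻¹ = ⁅g, z⁆ := fun z hz => by
    simp only [commutatorElement_def]
    rw [← conj_mul, ← conj_mul, ← conj_mul, hga', hz, hgia, ← conj_inv, hz]
  by_contra hne
  obtain ⟨φ, w, hw0, hw, hφa, hφy⟩ := K.exists_bad hXS (hmem y hy) (hfixed y hya) (hfix y hy hya) hne
  have hhom := hw.homOn hw0
  set N := stab Q φ with hN
  have haN : a ∈ N := mem_stab.2 ⟨haQ, hφa⟩
  -- moved translates
  have hmoved : ∀ c ∈ X, c * (a * c⁻¹ * a⁻¹) ∉ N → ∀ z ∈ Q, a * z * a⁻¹ = z →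
      φ (c * (g * z * g⁻¹) * c⁻¹) = φ (c * z * c⁻¹) ∧
      ((∀ v ∈ cspan ρ (aComm P a), ρ a v = v → ρ z v = v) → φ (c * z * c⁻¹) = 1) := by
    intro c hc hcN z hz hza
    have hcQ := hXn hc
    have hmov := moved_of_not_mem haQ hφa (inv_mem hcQ) (by rwa [inv_inv])
    have hv : Eig ρ Q (fun p => φ (c⁻¹⁻¹ * p * c⁻¹)) (ρ c⁻¹ w) := hw.map (inv_mem hcQ)
    have hv0 : ρ c⁻¹ w ≠ 0 := fun h => hw0 (rep_injective ρ c⁻¹ (h.trans (map_zero _).symm))
    refine ⟨?_, fun hzf => ?_⟩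
    · have h1 := moved_one (C := C) hle haQ (hmem z hz) (hfixed z hza) (hfix z hz hza) hv hv0 hmov
      simp only [inv_inv] at h1
      rw [commutatorElement_def, show c * (g * z * g⁻¹ * z⁻¹) * c⁻¹ =
          (c * (g * z * g⁻¹) * c⁻¹) * (c * z * c⁻¹)⁻¹ by group,
        hhom.map_mul _ (hconj hcQ (hconj hgQ hz)) _ (inv_mem (hconj hcQ hz))] at h1
      calc φ (c * (g * z * g⁻¹) * c⁻¹)
          = φ (c * (g * z * g⁻¹) * c⁻¹) *
              (φ (c * z * c⁻¹)⁻¹ * φ (c * z * c⁻¹)) := by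
            rw [hhom.map_inv_mul (hconj hcQ hz), mul_one]
        _ = φ (c * z * c⁻¹) := by rw [← mul_assoc, h1, one_mul]
    · have h1 := moved_one (C := C) hle haQ hz hza hzf hv hv0 hmov
      simpa only [inv_inv] using h1
  by_cases hcase : X ≤ X ⊓ T0 ⊔ X ⊓ N
  · -- the stabilizer is everything
    refine hφy (eq_one_of_invariant hhom hXn hidem (K.coprime_P hXT hle)
      (fun s hs p hp => (mem_stab.1 ((?_ : X ≤ N) hs)).2 p hp) (hmem y hy))
    have hZ : ∀ z ∈ T0, ∀ u ∈ T, ⁅z, u⁆ ∈ normalizer (Q : Set H) → ⁅z, u⁆ ∈ N := fun z hz u hu hn =>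
      mem_stab.2 ⟨hn, fun p hp => by rw [(K.hT0c z hz u hu p (hle hp)).eq, mul_inv_cancel_right]⟩
    have hD : ⁅X, X⁆ ≤ N := by
      rw [commutator_le]
      intro u hu v hv
      have hτn : X ⊓ N ≤ normalizer ((X ⊓ T0 : Subgroup H) : Set H) := fun n hn => by
        have hXX : ⁅X, X⁆ ≤ X ⊓ T0 := le_inf
          ((commutator_le).2 fun x hx y hy => by
            rw [commutatorElement_def]; exact mul_mem (mul_mem (mul_mem hx hy) (inv_mem hx)) (inv_mem hy))
          ((commutator_mono hXT hXT).trans K.hab)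
        rw [mem_normalizer_iff]
        have hnX := (mem_inf.1 hn).1
        refine fun z => ⟨conj_mem_of_comm_le inf_le_left hXX hnX, fun h => ?_⟩
        have := conj_mem_of_comm_le inf_le_left hXX (inv_mem hnX) h
        simpa [mul_assoc] using this
      obtain ⟨z, hz, n, hn, rfl⟩ := CfsgLib.Coprime.mem_sup_exists hτn (hcase hu)
      obtain ⟨z', hz', n', hn', rfl⟩ := CfsgLib.Coprime.mem_sup_exists hτn (hcase hv)
      have hm : ∀ x ∈ X, ∀ y ∈ X, ⁅x, y⁆ ∈ normalizer (Q : Set H) := fun x hx y hy => by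
        rw [commutatorElement_def]
        exact mul_mem (mul_mem (mul_mem (hXn hx) (hXn hy)) (inv_mem (hXn hx))) (inv_mem (hXn hy))
      obtain ⟨hzX, hzT⟩ := mem_inf.1 hz
      obtain ⟨hz'X, hz'T⟩ := mem_inf.1 hz'
      obtain ⟨hnX, hnN⟩ := mem_inf.1 hn
      obtain ⟨hn'X, hn'N⟩ := mem_inf.1 hn'
      have h1 : ⁅n, z'⁆ ∈ N := by
        have := inv_mem (hZ z' hz'T n (hXT hnX) (hm _ hz'X _ hnX))
        rwa [commutatorElement_inv] at this
      have h2 : ⁅n, n'⁆ ∈ N := by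
        rw [commutatorElement_def]
        exact mul_mem (mul_mem (mul_mem hnN hn'N) (inv_mem hnN)) (inv_mem hn'N)
      have hcent : ∀ z ∈ X ⊓ T0, ∀ m ∈ N ⊓ X, z * m * z⁻¹ ∈ N := fun z hz m hm' => by
        rw [show z * m * z⁻¹ = ⁅z, m⁆ * m by rw [commutatorElement_def]; group]
        exact mul_mem (hZ z (mem_inf.1 hz).2 m (hXT (mem_inf.1 hm').2)
          (hm _ (mem_inf.1 hz).1 _ (mem_inf.1 hm').2)) (mem_inf.1 hm').1
      have hXc : ∀ {x y}, x ∈ X → y ∈ X → ⁅x, y⁆ ∈ X := fun hx hy => by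
        rw [commutatorElement_def]
        exact mul_mem (mul_mem (mul_mem hx hy) (inv_mem hx)) (inv_mem hy)
      rw [commutator_mul_left]
      refine mul_mem (hcent z hz _ (mem_inf.2 ⟨?_, hXc hnX (mul_mem hz'X hn'X)⟩))
        (hZ z hzT _ (hXT (mul_mem hz'X hn'X)) (hm _ hzX _ (mul_mem hz'X hn'X)))
      rw [commutator_mul_right]
      exact mul_mem h1 (hcent z' hz' _ (mem_inf.2 ⟨h2, hXc hnX hn'X⟩))
    have hZN : X ⊓ T0 ≤ N := fun z hz => by
      haveI : Fact t.Prime := ⟨K.ht⟩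
      obtain ⟨hzX, hzT⟩ := mem_inf.1 hz
      have hcop : ∀ {Y : Subgroup H}, Y ≤ T → (orderOf g).Coprime (Nat.card Y) := fun {Y} hY => by
        obtain ⟨n, hn⟩ := IsPGroup.iff_card.1 (K.hT.to_le hY)
        rw [hn]
        exact Nat.Coprime.pow_right n hgt
      have hidemX : X ≤ aComm X g := by
        rw [hX, aComm_eq (isOfFinOrder_of_finite g) hgS,
          aComm_eq (isOfFinOrder_of_finite g) (aComm_eq (isOfFinOrder_of_finite g) hgS ▸ hgX),
          CfsgLib.Coprime.commutator_commutator_eq (zpowers_le.2 hgS) ?_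
            (Or.inl (CfsgLib.Coprime.isSolvable_of_isMulCommutative inferInstance))]
        rw [Nat.card_zpowers]
        exact hcop hST
      have hgD : g ∈ normalizer ((⁅X, X⁆ : Subgroup H) : Set H) := by
        rw [← CfsgLib.Coprime.conjBy_eq_self_iff, CfsgLib.Coprime.conjBy, map_commutator]
        exact congrArg₂ _ (CfsgLib.Coprime.conjBy_eq_self_iff.2 hgX)
          (CfsgLib.Coprime.conjBy_eq_self_iff.2 hgX)
      have hDX : ⁅X, X⁆ ≤ X := commutator_le.2 fun x hx y hy => by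
        rw [commutatorElement_def]; exact mul_mem (mul_mem (mul_mem hx hy) (inv_mem hx)) (inv_mem hy)
      have hgCP : g ∈ normalizer ((centralizer (P : Set H) : Subgroup H) : Set H) :=
        CfsgLib.Coprime.normalizer_le_normalizer_centralizer P hgP
      have hgD' : g ∈ normalizer ((⁅X, X⁆ ⊔ X ⊓ centralizer (P : Set H) : Subgroup H) : Set H) :=
        CfsgLib.Coprime.sup_le_normalizer (zpowers_le.2 hgD) (CfsgLib.Coprime.inf_le_normalizer
          (zpowers_le.2 hgX) (zpowers_le.2 hgCP)) (mem_zpowers g)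
      have hD'X : ⁅X, X⁆ ⊔ X ⊓ centralizer (P : Set H) ≤ X := sup_le hDX inf_le_left
      have hD'N : ⁅X, X⁆ ⊔ X ⊓ centralizer (P : Set H) ≤ N := sup_le hD fun c hc =>
        mem_stab.2 ⟨hXn (mem_inf.1 hc).1, fun p hp => by
          rw [← (mem_centralizer_iff.1 (mem_inf.1 hc).2 p (hle hp)), mul_inv_cancel_right]⟩
      refine hD'N (mem_of_pnorm hD'X le_sup_left hgX hgD' (hcop hXT) hzX
        (pnorm_mem_of_closure hgX hD'X le_sup_left
          (X := {x | ∃ τ ∈ X, τ⁻¹ * (g * τ * g⁻¹) = x})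
          (fun y hy => aComm_le hgX (subset_closure hy))
          (fun y hy => by
            obtain ⟨τ, -, rfl⟩ := hy
            rw [pnorm_comm (pow_orderOf_eq_one g)]
            exact one_mem _) (hidemX hzX)) ?_)
      refine mem_sup_right (mem_inf.2 ⟨mul_mem (inv_mem hzX) ((mem_normalizer_iff.1 hgX z).1 hzX), ?_⟩)
      rw [mem_centralizer_iff]
      intro p hp
      have hp' : z * p * z⁻¹ ∈ P := (mem_normalizer_iff.1 (K.hTP (hXT hzX)) p).1 hp
      have e := (hgT0 z hzT _ hp').eq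
      rw [show z⁻¹ * (g * z * g⁻¹) = z⁻¹ * ⁅g, z⁆ * z by rw [commutatorElement_def]; group]
      calc p * (z⁻¹ * ⁅g, z⁆ * z) = z⁻¹ * ((z * p * z⁻¹) * ⁅g, z⁆) * z := by group
        _ = _ := by rw [← e]; group
    exact fun u hu => (sup_le hZN inf_le_right : X ⊓ T0 ⊔ X ⊓ N ≤ N) (hcase hu)
  obtain ⟨s, hs, h0, hi, hg⟩ := K.exists_double_translate
    (le_normalizer haN) hga hgT hgT0' hgt hgr hcase
  -- the element to be evaluated, and a fixed element with the values of a norm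
  set f := ⁅g, y⁆ with hf
  have hfQ : f ∈ Q := hmem y hy
  have hfa : a * f * a⁻¹ = f := hfixed y hya
  have hff := hfix y hy hya
  have hsQ := hXn hs
  have haP0 : a ∈ normalizer ((Q ⊓ P0 : Subgroup H) : Set H) :=
    CfsgLib.Coprime.inf_le_normalizer (zpowers_le.2 haQ) (zpowers_le.2 C.haP0) (mem_zpowers a)
  have hQQ : ⁅Q, Q⁆ ≤ Q ⊓ P0 := le_inf ((commutator_le).2 fun x hx y hy => by
      rw [commutatorElement_def]; exact mul_mem (mul_mem (mul_mem hx hy) (inv_mem hx)) (inv_mem hy))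
    ((commutator_mono hle hle).trans C.hab)
  obtain ⟨y', hy', hy'a, hnormy⟩ := exists_fixed_norm (k := k) C.har haQ haP0 inf_le_left hQQ
    (C.coprime_card hle) (hconj hsQ hfQ)
  have hkill : ∀ z ∈ Q ⊓ P0, φ z = 1 := fun z hz => K.kill hXT hhom hz
  have hsL : ∀ z ∈ Q ⊓ P0, s⁻¹ * z * s⁻¹⁻¹ = z := fun z hz => by
    rw [(K.hTc s⁻¹ (hXT (inv_mem hs)) z (mem_inf.1 hz).2).eq, mul_inv_cancel_right]
  have e1 := hnormy _ (hhom.comp_conj (inv_mem hsQ)) fun z hz => by rw [hsL z hz]; exact hkill z hz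
  have e2 := hnormy _ (hhom.comp_conj (mul_mem (inv_mem hsQ) hgQ)) fun z hz => by
    have hz' : g * z * g⁻¹ ∈ Q ⊓ P0 :=
      mem_inf.2 ⟨hconj hgQ (mem_inf.1 hz).1, (mem_normalizer_iff.1 hgP0 z).1 (mem_inf.1 hz).2⟩
    rw [show s⁻¹ * g * z * (s⁻¹ * g)⁻¹ = s⁻¹ * (g * z * g⁻¹) * s⁻¹⁻¹ by group, hsL _ hz']
    exact hkill _ hz'
  have hpw : ∀ i : ℕ, a ^ i * f * (a ^ i)⁻¹ = f := fun i => by
    rw [((commute_iff_eq _ _).2 (mul_inv_eq_iff_eq_mul.1 hfa)).pow_left i |>.eq, mul_inv_cancel_right]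
  have hm0 := (hmoved s⁻¹ (inv_mem hs) (by rwa [inv_inv]) y' hy' hy'a).1
  rw [show s⁻¹ * (g * y' * g⁻¹) * s⁻¹⁻¹ = s⁻¹ * g * y' * (s⁻¹ * g)⁻¹ by group, e1, e2] at hm0
  have hterm1 : ∀ i < r, φ (s⁻¹ * g * (a ^ i * (s * f * s⁻¹) * (a ^ i)⁻¹) * (s⁻¹ * g)⁻¹) = 1 := by
    intro i hir
    set c := s⁻¹ * (a ^ i * g * s * (a ^ i * g)⁻¹) with hc
    have hcX : c ∈ X := mul_mem (inv_mem hs)
      ((mem_normalizer_iff.1 (mul_mem (pow_mem haX i) hgX) s).1 hs)
    have hm := hmoved c hcX (hg i hir) f hfQ hfa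
    rw [← hm.2 hff, ← hm.1]
    congr 1
    have hcomm : a ^ i * g = g * a ^ i := (hga.symm.pow_left i).eq
    have e : (a ^ i)⁻¹ * f * a ^ i = f := by
      conv_lhs => rw [← hpw i]
      group
    rw [hc, hcomm]
    conv_lhs => rw [← e]
    group
  have hterm2 : ∀ i, 0 < i → i < r →
      φ (s⁻¹ * (a ^ i * (s * f * s⁻¹) * (a ^ i)⁻¹) * s⁻¹⁻¹) = 1 := by
    intro i hi0 hir
    set c := s⁻¹ * (a ^ i * s * (a ^ i)⁻¹) with hc
    have hcX : c ∈ X := mul_mem (inv_mem hs) (conj_pow_mem haX hs i)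
    rw [← (hmoved c hcX (hi i hi0 hir) f hfQ hfa).2 hff]
    congr 1
    rw [hc]
    nth_rewrite 2 [← hpw i]
    group
  rw [Finset.prod_eq_one (fun i hi' => hterm1 i (Finset.mem_range.1 hi')),
    Finset.prod_eq_single 0 (fun i hi' hi0 => hterm2 i (Nat.pos_of_ne_zero hi0) (Finset.mem_range.1 hi'))
      (fun h => absurd (Finset.mem_range.2 C.hr.pos) h)] at hm0
  refine hφy (hm0.trans ?_).symm |>.elim
  congr 1
  rw [pow_zero, inv_one, one_mul, mul_one]
  group

end Steps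

end CfsgLib.PGroup.TurullFix
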