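import Cfsg.Agent.Lib.PGroup.TurullFix.Tower
import Cfsg.Agent.Lib.PGroup.TurullFix.DualFix
import Cfsg.Agent.Lib.PGroup.TurullFix.StepAlpha

/-!
The levels of a tower as configurations of operators.
-/

set_option autoImplicit false
set_option linter.style.haveILetI false
set_option linter.unusedSectionVars false

namespace CfsgLib.PGroup.TurullFix

open Subgroup
open scoped commutatorElement

universe u v

variable {G : Type u} [Group G]

/-- The elements of `K` centralized by `a`. -/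
def Cf (K : Subgroup G) (a : G) : Subgroup G := K ⊓ centralizer ({a} : Set G)

theorem mem_Cf {K : Subgroup G} {a x : G} : x ∈ Cf K a ↔ x ∈ K ∧ Commute x a := by
  rw [Cf, mem_inf, mem_centralizer_singleton_iff]
  exact Iff.rfl

theorem map_aComm {H : Type v} [Group H] (f : G →* H) (T : Subgroup G) (a : G) :
    (aComm T a).map f = aComm (T.map f) (f a) := by
  rw [aComm, MonoidHom.map_closure]
  refine congrArg Subgroup.closure (Set.ext fun x => ⟨?_, ?_⟩)
  · rintro ⟨_, ⟨τ, hτ, rfl⟩, rfl⟩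
    exact ⟨f τ, mem_map_of_mem f hτ, by simp only [map_mul, map_inv]⟩
  · rintro ⟨_, ⟨τ, hτ, rfl⟩, rfl⟩
    exact ⟨_, ⟨τ, hτ, rfl⟩, by simp only [map_mul, map_inv]⟩

theorem map_mem_normalizer {H : Type v} [Group H] (f : G →* H) {T : Subgroup G} {g : G}
    (h : g ∈ normalizer (T : Set G)) : f g ∈ normalizer ((T.map f : Subgroup H) : Set H) :=
  le_normalizer_map f (mem_map_of_mem f h)

theorem isPGroup_of_exp {H : Type v} [Group H] {p : ℕ} (f : G →* H) {A : Subgroup G}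
    (h : ∀ x ∈ A, ∃ n, f x ^ p ^ n = 1) : IsPGroup p (A.map f) := by
  rintro ⟨_, x, hx, rfl⟩
  obtain ⟨n, hn⟩ := h x hx
  exact ⟨n, Subtype.ext hn⟩

variable [Finite G]

/-- A `p`-part with the same image. -/
theorem exists_ppart {H : Type v} [Group H] (f : G →* H) {p : ℕ} (hp : p.Prime) (g : G)
    (h : ∃ n, f g ^ p ^ n = 1) :
    ∃ e : ℕ, (∃ n, (g ^ e) ^ p ^ n = 1) ∧ f (g ^ e) = f g := by
  obtain ⟨k, hk⟩ := h
  obtain ⟨n, m, hm, hord⟩ := Nat.exists_eq_pow_mul_and_not_dvd (orderOf_pos g).ne' p hp.ne_one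
  have hco : (p ^ k).Coprime m := Nat.Coprime.pow_left _ (hp.coprime_iff_not_dvd.2 hm)
  have hd : orderOf (f g) ∣ p ^ k := orderOf_dvd_of_pow_eq_one hk
  obtain ⟨s, hs⟩ := exists_pow_eq_self_of_coprime (x := f g) (n := m) (hco.symm.coprime_dvd_right hd)
  refine ⟨m * s, ⟨n, ?_⟩, ?_⟩
  · rw [← pow_mul, show m * s * p ^ n = orderOf g * s by rw [hord]; ring, pow_mul, pow_orderOf_eq_one,
      one_pow]
  · rw [map_pow, pow_mul, hs]

theorem coprime_of_ppow {x : G} {p q : ℕ} (hp : p.Prime) (hq : q.Prime) (hne : p ≠ q)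
    (h : ∃ n, x ^ p ^ n = 1) : (orderOf x).Coprime q := by
  obtain ⟨n, hn⟩ := h
  exact ((Nat.coprime_primes hp hq).2 hne).pow_left n |>.coprime_dvd_left (orderOf_dvd_of_pow_eq_one hn)

theorem isPGroup_ppow {p : ℕ} {T : Subgroup G} (hT : IsPGroup p T) {x : G} (hx : x ∈ T) :
    ∃ n, x ^ p ^ n = 1 := by
  obtain ⟨n, hn⟩ := hT ⟨x, hx⟩
  exact ⟨n, congrArg Subtype.val hn⟩

/-- A Sylow subgroup covers every image of `p`-power order. -/
theorem map_sylow_eq {H : Type v} [Group H] (f : G →* H) {p : ℕ} [Fact p.Prime] {T A : Subgroup G}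
    (hT : CfsgLib.Coprime.IsSylowIn p T A) (hA : IsPGroup p (A.map f)) : T.map f = A.map f := by
  set f' := (f.comp A.subtype).rangeRestrict with hf'
  have hr : (f.comp A.subtype).range = A.map f := by
    rw [MonoidHom.range_comp, Subgroup.range_subtype]
  haveI : Finite (A.map f) := Finite.of_surjective (f.subgroupMap A) (f.subgroupMap_surjective A)
  obtain ⟨m, hm⟩ := IsPGroup.iff_card.1 hA
  set S : Subgroup A := (hT.toSylow : Subgroup A) with hS
  have h1 : (S.map f').index ∣ S.index := index_map_dvd _ (MonoidHom.rangeRestrict_surjective _)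
  have h2 : (S.map f').index ∣ p ^ m := by
    rw [← hm, ← hr]
    exact index_dvd_card _
  obtain ⟨i, -, hi⟩ := (Nat.dvd_prime_pow Fact.out).1 h2
  have hi0 : i = 0 := by
    by_contra h
    exact hT.toSylow.not_dvd_index ((show p ∣ (S.map f').index by rw [hi]; exact dvd_pow_self p h).trans h1)
  rw [hi0, pow_zero, index_eq_one] at hi
  refine le_antisymm (map_mono hT.1) ?_
  rintro _ ⟨x, hx, rfl⟩
  obtain ⟨y, hy, hxy⟩ := Subgroup.mem_map.1 (hi ▸ mem_top (f' ⟨x, hx⟩) : f' ⟨x, hx⟩ ∈ S.map f')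
  refine ⟨y, ?_, congrArg Subtype.val hxy⟩
  rw [← hT.map_toSylow]
  exact mem_map_of_mem _ hy

/-- An `a`-invariant coset contains an element centralized by `a`. -/
theorem exists_lift {K L N : Subgroup G} [N.Normal] {a : G} (hco : (orderOf a).Coprime (Nat.card K))
    (hLK : L ≤ K) (haL : a ∈ normalizer (L : Set G)) {x : G} (hx : x ∈ L)
    (h : x⁻¹ * (a * x * a⁻¹) ∈ N) : ∃ y ∈ L, y ∈ Cf K a ∧ x⁻¹ * y ∈ N := by
  set N' := L ⊓ N
  have haN : a ∈ normalizer (N' : Set G) := CfsgLib.Coprime.inf_le_normalizer (zpowers_le.2 haL)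
    le_normalizer_of_normal (mem_zpowers a)
  have hxN : x ∈ normalizer (N' : Set G) := CfsgLib.Coprime.inf_le_normalizer
    (zpowers_le.2 (le_normalizer hx)) le_normalizer_of_normal (mem_zpowers x)
  have hfix : ∀ b ∈ zpowers a, b * x * b⁻¹ * x⁻¹ ∈ N' := by
    intro b hb
    obtain ⟨i, rfl⟩ := (Submonoid.mem_powers_iff _ _).1
      ((isOfFinOrder_of_finite a).mem_powers_iff_mem_zpowers.2 hb)
    have h1 := kpow_mem (i := 1) haN (by
      rw [pow_one]
      exact mem_inf.2 ⟨mul_mem (inv_mem hx) ((mem_normalizer_iff.1 haL x).1 hx), h⟩) i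
    rw [one_mul] at h1
    have := (mem_normalizer_iff.1 hxN _).1 h1
    rwa [show x * (x⁻¹ * (a ^ i * x * (a ^ i)⁻¹)) * x⁻¹ = a ^ i * x * (a ^ i)⁻¹ * x⁻¹ by group] at this
  obtain ⟨n, hn, hxn⟩ := CfsgLib.Coprime.exists_fixed_in_coset (zpowers_le.2 haN)
    (by rw [Nat.card_zpowers]; exact hco.coprime_dvd_right (card_dvd_of_le (inf_le_left.trans hLK)))
    (Or.inl (CfsgLib.Coprime.isSolvable_of_isMulCommutative inferInstance)) hxN hfix
  refine ⟨x * n, mul_mem hx (mem_inf.1 hn).1, mem_Cf.2 ⟨hLK (mul_mem hx (mem_inf.1 hn).1), ?_⟩, ?_⟩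
  · exact (mem_centralizer_iff.1 hxn a (mem_zpowers a)).symm
  · rw [inv_mul_cancel_left]; exact (mem_inf.1 hn).2

/-- The group structure of an abelian section. -/
@[reducible] def sectCommGroup {A M : Subgroup G} [A.Normal] [M.Normal] (h : ⁅A, A⁆ ≤ M) :
    CommGroup (Sect A M) :=
  { (inferInstance : Group (Sect A M)) with mul_comm := sect_comm A M h }

/-- A fixed vector of the moved part lifts to a fixed element of the commutator group. -/
theorem mspan_lift {K A M S : Subgroup G} [A.Normal] [M.Normal] {a : G}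
    (hco : (orderOf a).Coprime (Nat.card K)) (hAK : A ≤ K) (haS : a ∈ normalizer (S : Set G))
    {v : Sect A M} (hv : v ∈ mspan (S.map (act A M))) (hva : act A M a v = v) :
    ∃ w : A, (w : G) ∈ ⁅A, S⁆ ∧ (w : G) ∈ Cf K a ∧ (w : Sect A M) = v := by
  have hle : mspan (S.map (act A M)) ≤
      ((⁅A, S⁆ : Subgroup G).subgroupOf A).map (QuotientGroup.mk' (M.subgroupOf A)) := by
    rw [mspan, closure_le]
    rintro _ ⟨_, ⟨s, hs, rfl⟩, u, rfl⟩
    induction u using QuotientGroup.induction_on with | H u =>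
    refine ⟨MulAut.conjNormal s u * u⁻¹, ?_, ?_⟩
    · rw [SetLike.mem_coe, mem_subgroupOf, Subgroup.coe_mul, Subgroup.coe_inv, MulAut.conjNormal_apply,
        show s * (u : G) * s⁻¹ * (u : G)⁻¹ = ⁅(u : G), s⁆⁻¹ by rw [commutatorElement_def]; group]
      exact inv_mem (commutator_mem_commutator u.2 hs)
    · rw [QuotientGroup.mk'_apply, QuotientGroup.mk_mul, QuotientGroup.mk_inv, act_mk]
  obtain ⟨l, hl, rfl⟩ := hle hv
  rw [QuotientGroup.mk'_apply] at hva
  rw [act_eq_iff] at hva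
  have hLA : ⁅A, S⁆ ≤ A := commutator_le_left A S
  have haA : a ∈ normalizer (A : Set G) := le_normalizer_of_normal (mem_top a)
  have haL : a ∈ normalizer ((⁅A, S⁆ : Subgroup G) : Set G) := by
    rw [← CfsgLib.Coprime.conjBy_eq_self_iff, CfsgLib.Coprime.conjBy, map_commutator]
    exact congrArg₂ _ (CfsgLib.Coprime.conjBy_eq_self_iff.2 haA) (CfsgLib.Coprime.conjBy_eq_self_iff.2 haS)
  obtain ⟨y, hy, hyC, hly⟩ := exists_lift (N := M) hco (hLA.trans hAK) haL (mem_subgroupOf.1 hl) (by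
    have := ‹M.Normal›.conj_mem _ hva (l : G)⁻¹
    rwa [show (l : G)⁻¹ * ⁅a, (l : G)⁆ * (l : G)⁻¹⁻¹ = (l : G)⁻¹ * (a * (l : G) * a⁻¹) by
      rw [commutatorElement_def]; group] at this)
  refine ⟨⟨y, hLA hy⟩, hy, hyC, ?_⟩
  rw [QuotientGroup.mk'_apply, QuotientGroup.eq, mem_subgroupOf, Subgroup.coe_mul, Subgroup.coe_inv]
  have := inv_mem hly
  rwa [mul_inv_rev, inv_inv] at this

variable {K : Subgroup G} [K.Normal] {N : ℕ} (T : Tower K N)

namespace Tower

instance (j : ℕ) : (T.A j).Normal := T.An j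
instance (j : ℕ) : (T.M j).Normal := T.Mn j
instance (j : ℕ) : (T.B j).Normal := T.Bn j

/-- The action on the next section. -/
abbrev θ (j : ℕ) : G →* MulAut (Sect (T.A (j + 1)) (T.M (j + 1))) := act (T.A (j + 1)) (T.M (j + 1))

theorem prime {j : ℕ} (hj : j ≤ N) : (T.p j).Prime := (T.step j hj).hp

theorem A_le {j : ℕ} (hj : j ≤ N) : T.A j ≤ K := (T.le_rser j hj).trans (rser_le K j)

theorem p_dvd {j : ℕ} (hj : j ≤ N) : T.p j ∣ Nat.card K := (T.step j hj).dvd_card (T.A_le hj)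

theorem θ_eq_one {j : ℕ} (hj : j < N) {x : G} (hx : x ∈ T.A j) : T.θ j x = 1 ↔ x ∈ T.B j := by
  rw [act_eq_one_iff, T.mem_B j hj]
  exact ⟨fun h => ⟨hx, h⟩, fun h => h.2⟩

theorem θ_of_B {j : ℕ} (hj : j < N) {x : G} (hx : x ∈ T.B j) : T.θ j x = 1 :=
  (act_eq_one_iff _ _ x).2 ((T.mem_B j hj x).1 hx).2

theorem B_le_A {j : ℕ} (hj : j < N) : T.B j ≤ T.A j := fun x hx => ((T.mem_B j hj x).1 hx).1

theorem θ_ppow {j : ℕ} (hj : j < N) {x : G} (hx : x ∈ T.A j) : ∃ n, T.θ j x ^ T.p j ^ n = 1 :=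
  (T.pgroup j hj x hx).imp fun n hn => by rw [← map_pow]; exact T.θ_of_B hj hn

theorem sect_pow {j : ℕ} (hj : j < N) (v : Sect (T.A (j + 1)) (T.M (j + 1))) : v ^ T.p (j + 1) = 1 := by
  induction v using QuotientGroup.induction_on with | H w =>
  rw [← QuotientGroup.mk_pow, QuotientGroup.eq_one_iff, mem_subgroupOf, Subgroup.coe_pow]
  exact (T.step (j + 1) hj).pow w w.2

/-- The group structure of the next section. -/
@[reducible] def comm' {j : ℕ} (hj : j < N) : CommGroup (Sect (T.A (j + 1)) (T.M (j + 1))) :=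
  sectCommGroup (T.step (j + 1) hj).comm

theorem fact' {j : ℕ} (hj : j < N) : Fact (T.p (j + 1)).Prime := ⟨T.prime hj⟩

theorem finDual {j : ℕ} (hj : j < N) :
    letI := T.comm' hj; haveI := T.fact' hj
    FiniteDimensional (AlgebraicClosure (ZMod (T.p (j + 1))))
      (Additive (Sect (T.A (j + 1)) (T.M (j + 1))) →+ AlgebraicClosure (ZMod (T.p (j + 1)))) := by
  letI := T.comm' hj
  haveI := T.fact' hj
  exact (CfsgLib.PGroup.finrank_addHom (T.sect_pow hj) _).1

/-- Elements acting trivially on both pieces are trivial on the whole level. -/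
theorem central_P {j : ℕ} (hj : j + 1 < N) {x : G} (hx : x ∈ rser K j)
    (hxB : x ∈ centMod (T.A (j + 1)) (T.M (j + 1))) (hco : (orderOf x).Coprime (T.p (j + 1))) {l : G}
    (hl : l ∈ T.A (j + 1)) : ⁅x, l⁆ ∈ T.B (j + 1) := by
  have hz : ⁅x, l⁆ ∈ T.M (j + 1) := hxB l hl
  obtain ⟨n, hn⟩ := T.pgroup (j + 1) hj _ ((T.step (j + 1) hj.le).hle hz)
  exact not_fixed_comm hco hn (T.op (j + 1) (Nat.succ_pos j) hj x hx hco _ hz)

/-- The data of the fixed operator. -/
structure Op (K : Subgroup G) (a : G) (r : ℕ) : Prop where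
  hr : r.Prime
  har : a ^ r = 1
  hco : r.Coprime (Nat.card K)

theorem Op.coprime {a : G} {r : ℕ} (h : Op K a r) : (orderOf a).Coprime (Nat.card K) :=
  h.hco.coprime_dvd_left (orderOf_dvd_of_pow_eq_one h.har)

theorem Op.ne_p {a : G} {r : ℕ} (h : Op K a r) {j : ℕ} (hj : j ≤ N) : r ≠ T.p j := fun e =>
  h.hr.one_lt.ne' (Nat.eq_one_of_dvd_coprimes h.hco dvd_rfl (e ▸ T.p_dvd hj))

variable {a : G} {r : ℕ} (O : Op K a r)
include O

theorem cast_ne_zero {j : ℕ} (hj : j < N) :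
    haveI := T.fact' hj
    (r : AlgebraicClosure (ZMod (T.p (j + 1)))) ≠ 0 := by
  haveI := T.fact' hj
  intro h
  rw [CharP.cast_eq_zero_iff _ (T.p (j + 1))] at h
  exact O.ne_p T hj ((Nat.prime_dvd_prime_iff_eq (T.prime hj) O.hr).1 h).symm

/-- The configuration of level `j`. -/
theorem conf {j : ℕ} (hj : j < N) :
    letI := T.comm' hj; haveI := T.fact' hj
    Conf (dual (T.p (j + 1)) (Sect (T.A (j + 1)) (T.M (j + 1)))) (T.θ j a) r ((T.A j).map (T.θ j))
      ((T.M j).map (T.θ j)) (T.p j) := by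
  letI := T.comm' hj
  haveI := T.fact' hj
  refine ⟨O.hr, by rw [← map_pow, O.har, map_one], T.cast_ne_zero O hj, T.prime hj.le, ?_, O.ne_p T hj.le,
    isPGroup_of_exp _ fun x hx => T.θ_ppow hj hx, map_mem_normalizer _ (le_normalizer_of_normal (mem_top a)),
    map_mem_normalizer _ (le_normalizer_of_normal (mem_top a)), map_mono (T.step j hj.le).hle, ?_, ?_,
    fun x _ hx => dual_faithful (T.sect_pow hj) hx⟩
  · rw [Ne, CharP.cast_eq_zero_iff _ (T.p (j + 1))]
    exact fun h => T.p_ne j hj ((Nat.prime_dvd_prime_iff_eq (T.prime hj) (T.prime hj.le)).1 h).symm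
  · rw [← map_commutator]
    exact map_mono (T.step j hj.le).comm
  · rintro _ ⟨z, hz, rfl⟩ _ ⟨x, hx, rfl⟩
    refine commutatorElement_eq_one_iff_commute.1 ?_
    rw [← map_commutatorElement]
    exact T.θ_of_B hj (T.cent j hj (commutator_mem_commutator hz hx))

/-- Lift of a fixed element of a level. -/
theorem lift_fixed {j : ℕ} (hj : j < N) {L : Subgroup G} (hL : L ≤ T.A j)
    (haL : a ∈ normalizer (L : Set G)) {y : MulAut (Sect (T.A (j + 1)) (T.M (j + 1)))}
    (hy : y ∈ L.map (T.θ j)) (hya : Commute y (T.θ j a)) :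
    ∃ w ∈ L, w ∈ Cf K a ∧ T.θ j w = y := by
  obtain ⟨x, hx, rfl⟩ := hy
  have hxA : x⁻¹ * (a * x * a⁻¹) ∈ T.A j :=
    mul_mem (inv_mem (hL hx)) ((T.An j).conj_mem x (hL hx) a)
  obtain ⟨w, hw, hwC, hxw⟩ := exists_lift (N := T.B j) O.coprime (hL.trans (T.A_le hj.le)) haL hx (by
    rw [← T.θ_eq_one hj hxA, map_mul, map_mul, map_mul, map_inv, map_inv, ← hya.eq,
      mul_inv_cancel_right, inv_mul_cancel])
  refine ⟨w, hw, hwC, ?_⟩
  have := T.θ_of_B hj hxw
  rwa [map_mul, map_inv, inv_mul_eq_one, eq_comm] at this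

/-- Fixed functions and fixed vectors at level `j`. -/
theorem dual_fix_level {j : ℕ} (hj : j < N) {M : Subgroup (MulAut (Sect (T.A (j + 1)) (T.M (j + 1))))}
    (hM : M ≤ (T.A j).map (T.θ j)) (haM : T.θ j a ∈ normalizer (M : Set _))
    {y : MulAut (Sect (T.A (j + 1)) (T.M (j + 1)))} (hyM : y ∈ normalizer (M : Set _))
    (hya : Commute y (T.θ j a)) (h : ∀ v ∈ mspan M, T.θ j a v = v → y v = v) :
    letI := T.comm' hj; haveI := T.fact' hj
    ∀ f ∈ cspan (dual (T.p (j + 1)) (Sect (T.A (j + 1)) (T.M (j + 1)))) M,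
      dual (T.p (j + 1)) (Sect (T.A (j + 1)) (T.M (j + 1))) (T.θ j a) f = f →
      dual (T.p (j + 1)) (Sect (T.A (j + 1)) (T.M (j + 1))) y f = f := by
  letI := T.comm' hj
  haveI := T.fact' hj
  intro f hf hfa
  exact dual_fix (by rw [← map_pow, O.har, map_one]) (T.cast_ne_zero O hj) ((T.conf O hj).card_ne_zero hM)
    haM hyM hya h hf hfa

/-- The operators from the level below. -/
theorem stack {j : ℕ} (hj : j + 1 < N) {S : Subgroup G} (hS : S ≤ T.A j) (hSp : IsPGroup (T.p j) S)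
    (haS : a ∈ normalizer (S : Set G)) :
    letI := T.comm' hj; haveI := T.fact' hj
    Stack (T.conf O hj) (S.map (T.θ (j + 1))) ((S ⊓ T.M j).map (T.θ (j + 1))) (T.p j) := by
  letI := T.comm' hj
  haveI := T.fact' hj
  have hjN : j < N := (Nat.lt_succ_self j).trans hj
  have hSK : S ≤ rser K j := hS.trans (T.le_rser j hjN.le)
  have hco : ∀ {x}, x ∈ S → (orderOf x).Coprime (T.p (j + 1)) := fun hx =>
    coprime_of_ppow (T.prime hjN.le) (T.prime hj.le) (T.p_ne j hjN) (isPGroup_ppow hSp hx)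
  refine ⟨T.prime hjN.le, T.p_ne j hjN, (O.ne_p T hjN.le).symm, hSp.map _, map_mono inf_le_left, ?_,
    map_mem_normalizer _ haS, map_mem_normalizer _ ?_, ?_, ?_, ?_, ?_⟩
  · rw [← map_commutator]
    refine map_mono (le_inf ?_ ((commutator_mono hS hS).trans (T.step j hjN.le).comm))
    exact commutator_le.2 fun x hx y hy => by
      rw [commutatorElement_def]; exact mul_mem (mul_mem (mul_mem hx hy) (inv_mem hx)) (inv_mem hy)
  · exact CfsgLib.Coprime.inf_le_normalizer (zpowers_le.2 haS) le_normalizer_of_normal (mem_zpowers a)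
  · rintro _ ⟨x, -, rfl⟩
    exact map_mem_normalizer _ (le_normalizer_of_normal (mem_top x))
  · rintro _ ⟨x, hx, rfl⟩ _ ⟨z, hz, rfl⟩
    refine commutatorElement_eq_one_iff_commute.1 ?_
    rw [← map_commutatorElement]
    exact T.θ_of_B hj (T.op (j + 1) (Nat.succ_pos j) hj x (hSK hx) (hco hx) z hz)
  · rintro _ ⟨τ, hτ, rfl⟩ _ ⟨τ', hτ', rfl⟩ _ ⟨x, hx, rfl⟩
    refine commutatorElement_eq_one_iff_commute.1 ?_
    rw [← map_commutatorElement, ← map_commutatorElement]
    have hu : ⁅τ, τ'⁆ ∈ S := by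
      rw [commutatorElement_def]
      exact mul_mem (mul_mem (mul_mem (mem_inf.1 hτ).1 hτ') (inv_mem (mem_inf.1 hτ).1)) (inv_mem hτ')
    refine T.θ_of_B hj (T.central_P hj (hSK hu) ?_ (hco hu) hx)
    exact ((T.mem_B j hjN _).1 (T.cent j hjN (commutator_mem_commutator (mem_inf.1 hτ).2 (hS hτ')))).2
  · rintro _ ⟨x, hx, rfl⟩
    exact ⟨x ^ T.p (j + 1), (T.step (j + 1) hj.le).pow x hx, map_pow _ _ _⟩

end Tower

end CfsgLib.PGroup.TurullFix
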