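import Cfsg.Agent.Lib.PGroup.TurullFix.StepSign

/-!
Invisible operators yield fixed central elements moving a fixed vector of `⁅V, ⁅P, a⁆⁆`.
-/

set_option autoImplicit false
set_option linter.style.haveILetI false
set_option linter.unusedSectionVars false

namespace CfsgLib.PGroup.TurullFix

open CfsgLib.PGroup
open Subgroup
open scoped commutatorElement BigOperators

universe u v w

variable {H : Type u} [Group H] [Finite H] {k : Type v} [Field k] [IsAlgClosed k] {W : Type w}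
  [AddCommGroup W] [Module k W] [FiniteDimensional k W] {ρ : H →* Module.End k W}
  {a : H} {r : ℕ} {P P0 : Subgroup H} {q : ℕ} {C : Conf ρ a r P P0 q} {T : Subgroup H} {t : ℕ}
  (F : Flank C T t)
include F

/-- The component has a fixed vector in `⁅V, ⁅P, a⁆⁆`. -/
theorem Flank.exists_fixed_of_comp {φ : H → k} {R : Subgroup H} (K : IsComp C φ R) {x : H} (hx : x ∈ T)
    (hne : ¬ aComm (aComm P a) x ≤ R) :
    ∃ w, w ≠ 0 ∧ Eig ρ R φ w ∧ ρ a w = w ∧ w ∈ cspan ρ (aComm P a) := by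
  have hMP : aComm P a ≤ P := aComm_le C.haP
  have hxM := F.mem_normalizer_aComm hx
  have haM : a ∈ normalizer (aComm P a : Set H) := Conf.mem_normalizer_aComm C.haP
  have hndM : ∀ m ∈ aComm P a, (∀ n ∈ aComm P a, φ ⁅m, n⁆ = 1) → m ∈ R := fun m hm h =>
    F.mem_R_of_orth K hx hm (fun n hn => h n (aComm_le hxM hn)) fun y hy _ => h y hy
  obtain ⟨w₁, hw₁0, hw₁⟩ := K.hne
  obtain ⟨X, hXU, hX0, hXM, hXa, hirr⟩ := K.exists_irredOn hMP hndM (U := eigSub ρ R φ)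
    (fun h => hw₁0 ((Submodule.mem_bot k).1 (h ▸ hw₁))) (fun v hv => hv)
    (fun m hm v hv => K.smul_invariant C hv (hMP hm)) haM (fun v hv => K.a_invariant C hv) C.hr.one_le
    (fun v _ => by rw [C.har, map_one]; rfl)
  have hne' : ¬ ∀ m ∈ aComm P a, ⁅x, m⁆ ∈ R := by
    intro h
    refine hne ?_
    rw [aComm, closure_le]
    rintro z ⟨τ, hτ, rfl⟩
    rw [show τ⁻¹ * (x * τ * x⁻¹) = τ⁻¹ * ⁅x, τ⁆ * τ⁻¹⁻¹ by rw [commutatorElement_def]; group]
    exact K.conj_P_mem C (inv_mem (hMP hτ)) (h τ hτ)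
  obtain ⟨w, hw, hw0, hwa⟩ := F.exists_fixed_vec K hx le_rfl hxM haM hndM hX0 (fun v hv => hXU hv) hXM
    hXa hirr hne'
  exact ⟨w, hw0, hXU hw, hwa, K.le_cspan C (fun h => hne ((aComm_le hxM).trans h)) (hXU hw)⟩

/-- A fixed element of `P0` moves a fixed vector. -/
theorem Flank.fixed_center {x : H} (hx : x ∈ T) (hne : ¬ aComm (aComm P a) x ≤ P0) :
    ∃ c ∈ P0, a * c * a⁻¹ = c ∧ ∃ v ∈ cspan ρ (aComm P a), ρ a v = v ∧ ρ c v ≠ v := by
  obtain ⟨φ, R, K, hR⟩ := F.exists_comp hx hne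
  obtain ⟨w, hw0, hw, hwa, hwc⟩ := F.exists_fixed_of_comp K hx hR
  by_contra hc
  push Not at hc
  refine hR fun m hm => ?_
  have hmP : m ∈ P := aComm_le C.haP (aComm_le (F.mem_normalizer_aComm hx) hm)
  rw [K.hR]
  refine ⟨hmP, fun h hh => ?_⟩
  refine eq_one_of_fixed_trivial (P := P0) (L := ⊥) C.har C.haP0 (mem_normalizer_iff.2 fun n => by simp)
    bot_le (commutator_le.2 fun u hu v hv => by
      rw [mem_bot, commutatorElement_eq_one_iff_commute]
      exact C.hcent u hu v (C.hle hv))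
    (C.coprime_card C.hle) K.hφ (fun z hz => by rw [mem_bot.1 hz, K.hφ.map_one]) K.hfix0
    (fun c hc0 hca => ?_) (C.comm_mem hmP hh)
  have h1 := hc c hc0 hca w hwc hwa
  rw [hw c (K.P0_le C hc0)] at h1
  exact smul_left_injective k hw0 (h1.trans (one_smul k w).symm)

/-- A fixed element of `P0` has a commutator with `g` moving a fixed vector. -/
theorem Flank.fixed_comm {g : H} (hga : Commute g a) (hgP : g ∈ normalizer (P : Set H))
    (hgP0 : g ∈ normalizer (P0 : Set H)) (hgT : g ∈ normalizer (T : Set H)) {τ : H} (hτ : τ ∈ T)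
    (hne : ¬ aComm (aComm P a) ⁅τ, g⁆ ≤ P0) :
    ∃ c ∈ P0, a * c * a⁻¹ = c ∧ ∃ v ∈ cspan ρ (aComm P a), ρ a v = v ∧ ρ ⁅g, c⁆ v ≠ v := by
  have hxT : ⁅τ, g⁆ ∈ T := by
    rw [show ⁅τ, g⁆ = τ * (g * τ⁻¹ * g⁻¹) by rw [commutatorElement_def]; group]
    exact mul_mem hτ ((mem_normalizer_iff.1 hgT _).1 (inv_mem hτ))
  obtain ⟨φ, R, K, hR⟩ := F.exists_comp hxT hne
  obtain ⟨w, hw0, hw, hwa, hwc⟩ := F.exists_fixed_of_comp K hxT hR
  have hMP : aComm P a ≤ P := aComm_le C.haP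
  by_contra hc
  push Not at hc
  have hP0g : ∀ {z}, z ∈ P0 → g * z * g⁻¹ ∈ P0 := fun {z} hz => (mem_normalizer_iff.1 hgP0 z).1 hz
  have hga' : a * g * a⁻¹ = g := by rw [← hga.eq, mul_inv_cancel_right]
  -- `g` preserves the character on `P0`
  have hφg : ∀ z ∈ P0, φ (g * z * g⁻¹) = φ z := by
    let δ : H → k := fun z => φ (g * z * g⁻¹) * φ z⁻¹
    have hδ : HomOn P0 δ := by
      refine ⟨by simp only [δ]; rw [mul_one, mul_inv_cancel, inv_one, K.hφ.map_one, one_mul],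
        fun u hu v hv => ?_⟩
      simp only [δ]
      rw [← conj_mul, K.hφ.map_mul _ (hP0g hu) _ (hP0g hv), mul_inv_rev,
        K.hφ.map_mul _ (inv_mem hv) _ (inv_mem hu)]
      ring
    intro z hz
    have h := eq_one_of_fixed_trivial (P := P0) (L := ⊥) C.har C.haP0
      (mem_normalizer_iff.2 fun n => by simp) bot_le (commutator_le.2 fun u hu v hv => by
        rw [mem_bot, commutatorElement_eq_one_iff_commute]
        exact C.hcent u hu v (C.hle hv))
      (C.coprime_card C.hle) hδ (fun y hy => by rw [mem_bot.1 hy, hδ.map_one]) (fun u hu => ?_)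
      (fun c hc0 hca => ?_) hz
    · simp only [δ] at h
      calc φ (g * z * g⁻¹) = φ (g * z * g⁻¹) * (φ z⁻¹ * φ z) := by
            rw [K.hφ.map_inv_mul hz, mul_one]
        _ = φ z := by rw [← mul_assoc, h, one_mul]
    · simp only [δ]
      have e1 : g * (a * u * a⁻¹) * g⁻¹ = a * (g * u * g⁻¹) * a⁻¹ := by
        rw [show g * (a * u * a⁻¹) * g⁻¹ = (g * a) * u * (g * a)⁻¹ by group, hga.eq]
        group
      rw [e1, K.hfix0 _ (hP0g hu), conj_inv, K.hfix0 _ (inv_mem hu)]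
    · simp only [δ]
      have hgc : ⁅g, c⁆ ∈ P0 := mul_mem (hP0g hc0) (inv_mem hc0)
      have h1 := hc c hc0 hca w hwc hwa
      rw [hw _ (K.P0_le C hgc)] at h1
      have h2 := smul_left_injective k hw0 (h1.trans (one_smul k w).symm)
      rw [commutatorElement_def, K.hφ.map_mul _ (hP0g hc0) _ (inv_mem hc0)] at h2
      exact h2
  have hgR := K.conj_mem_normalizer hgP hφg
  have hgM : g ∈ normalizer (aComm P a : Set H) := TurullFix.aComm_normalizer hgP hga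
  have hτR := F.mem_normalizer K hτ
  have hτM := F.mem_normalizer_aComm hτ
  set u := g * τ⁻¹ * g⁻¹ with hu
  have hconjR : ∀ {b d}, b ∈ normalizer (R : Set H) → d ∈ R → b * d * b⁻¹ ∈ R :=
    fun {b d} hb hd => (mem_normalizer_iff.1 hb d).1 hd
  have key : ∀ m ∈ aComm P a, ⁅⁅τ, g⁆, m⁆ ∈ R := by
    intro m hm
    have hm' : g⁻¹ * m * g ∈ aComm P a := (mem_normalizer_iff''.1 hgM m).1 hm
    rw [show ⁅τ, g⁆ = τ * u by rw [hu, commutatorElement_def]; group]
    rcases F.sign K hτ with h | h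
    · have hinv : ∀ n ∈ aComm P a, ⁅τ⁻¹, n⁆ ∈ R := fun n hn => by
        rw [show ⁅τ⁻¹, n⁆ = τ⁻¹ * ⁅τ, n⁆⁻¹ * τ⁻¹⁻¹ by simp only [commutatorElement_def]; group]
        exact hconjR (inv_mem hτR) (inv_mem (h n hn))
      rw [commutator_mul_left]
      refine mul_mem (hconjR hτR ?_) (h m hm)
      rw [show ⁅u, m⁆ = g * ⁅τ⁻¹, g⁻¹ * m * g⁆ * g⁻¹ by rw [hu]; simp only [commutatorElement_def]; group]
      exact hconjR hgR (hinv _ hm')
    · have hinv : ∀ n ∈ aComm P a, τ⁻¹ * n * τ * n ∈ R := fun n hn => by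
        have hn' : τ⁻¹ * n * τ ∈ aComm P a := (mem_normalizer_iff''.1 hτM n).1 hn
        have h1 := h _ hn'
        rw [show τ * (τ⁻¹ * n * τ) * τ⁻¹ * (τ⁻¹ * n * τ) = n * (τ⁻¹ * n * τ) by group] at h1
        have h2 := K.conj_P_mem C (inv_mem (hMP hn)) h1
        rwa [show n⁻¹ * (n * (τ⁻¹ * n * τ)) * n⁻¹⁻¹ = τ⁻¹ * n * τ * n by group] at h2
      have hd : u * m * u⁻¹ * m ∈ R := by
        rw [show u * m * u⁻¹ * m = g * (τ⁻¹ * (g⁻¹ * m * g) * τ * (g⁻¹ * m * g)) * g⁻¹ by rw [hu]; group]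
        exact hconjR hgR (hinv _ hm')
      set n := u * m * u⁻¹ with hn
      have hn' : n ∈ aComm P a := by
        have hu' : u ∈ normalizer (aComm P a : Set H) :=
          mul_mem (mul_mem hgM (inv_mem hτM)) (inv_mem hgM)
        exact (mem_normalizer_iff.1 hu' m).1 hm
      have hmn : m * n ∈ R := by
        have := K.conj_P_mem C (hMP hm) hd
        rwa [show m * (n * m) * m⁻¹ = m * n by group] at this
      rw [show ⁅τ * u, m⁆ = τ * n * τ⁻¹ * n * (m * n)⁻¹ by rw [hn, commutatorElement_def]; group]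
      exact mul_mem (h n hn') (inv_mem hmn)
  refine hR ?_
  rw [aComm, closure_le]
  rintro z ⟨σ, hσ, rfl⟩
  rw [show σ⁻¹ * (⁅τ, g⁆ * σ * ⁅τ, g⁆⁻¹) = σ⁻¹ * ⁅⁅τ, g⁆, σ⁆ * σ⁻¹⁻¹ by
    rw [commutatorElement_def ⁅τ, g⁆]; group]
  exact K.conj_P_mem C (inv_mem (hMP hσ)) (key σ hσ)

end CfsgLib.PGroup.TurullFix
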