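import Cfsg.Agent.Lib.PGroup.TurullFix.Push
import Cfsg.Agent.Lib.PGroup.TurullFix.Crux
import Cfsg.Agent.Lib.PGroup.TurullFix.StepBetaMain

/-!
The Fitting height of a solvable group exceeds that of the fixed points of a coprime operator of prime
order by at most two.
-/

set_option autoImplicit false
set_option linter.style.haveILetI false
set_option linter.unusedSectionVars false

namespace CfsgLib.PGroup.TurullFix

open Subgroup
open scoped commutatorElement

universe u

variable {G : Type u} [Group G] [Finite G] {K : Subgroup G} [K.Normal] {N : ℕ} {T : Tower K N}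

theorem rser_mono {L L' : Subgroup G} (h : L ≤ L') : ∀ j, rser L j ≤ rser L' j
  | 0 => h
  | j + 1 => res_mono (rser_mono h j)

namespace Tower

variable {a : G} {r : ℕ} (O : Op K a r)
include O

/-- The bottom section is moved. -/
theorem good_one (hN : 1 < N) (hmove : ¬ ∀ x ∈ T.A 0, ⁅a, x⁆ ∈ T.M 0) : T.Good a 1 := by
  by_contra hng
  have h0 : 0 < N := Nat.zero_lt_of_lt hN
  haveI : Fact (T.p 0).Prime := ⟨T.prime h0.le⟩
  haveI := T.fact' h0
  obtain ⟨S, hSA, hSp, haS, hSmap, -⟩ := T.exists_cut O h0.le (fun j hj => absurd hj (Nat.not_lt_zero j))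
  have haS1 : a ∈ normalizer (aComm S a : Set G) := Conf.mem_normalizer_aComm haS
  set S0 := aComm ((T.A 0).map (T.θ 0)) (T.θ 0 a) with hS0
  have e0 : S0 = (aComm S a).map (T.θ 0) := by rw [map_aComm, hSmap h0]
  letI := T.comm' h0
  have C0 := T.conf O h0
  have hfree : ∀ z ∈ S0, Commute z (T.θ 0 a) → z = 1 := fun z hz hza => by
    obtain ⟨m, hm, rfl⟩ := fixed_aComm_mem C0 hz (by rw [← hza.eq, mul_inv_cancel_right])
    exact T.θ_of_B h0 ((T.bottom h0) ▸ hm)
  have hS0P : S0 ≤ (T.A 0).map (T.θ 0) :=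
    aComm_le (map_mem_normalizer _ (le_normalizer_of_normal (mem_top a)))
  have hco : ∀ v : Sect (T.A (0 + 1)) (T.M (0 + 1)), v ^ Nat.card S0 = 1 → v = 1 := fun v hv => by
    obtain ⟨n, hn⟩ := IsPGroup.iff_card.1 (C0.hP.to_le hS0P)
    rw [hn] at hv
    exact orderOf_eq_one_iff.1 (Nat.eq_one_of_dvd_coprimes
      (((Nat.coprime_primes (T.prime h0.le) (T.prime h0)).2 (T.p_ne 0 h0)).pow_left n)
      (orderOf_dvd_of_pow_eq_one hv) (orderOf_dvd_of_pow_eq_one (T.sect_pow h0 v)))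
  obtain ⟨v, hv, hv1⟩ : ∃ v ∈ mspan S0, v ≠ 1 := by
    by_contra h
    push Not at h
    refine hmove fun x hx => ?_
    have hs : x⁻¹ * (a * x * a⁻¹) ∈ T.A 0 := mul_mem (inv_mem hx) ((T.An 0).conj_mem x hx a)
    have hsS : T.θ 0 (x⁻¹ * (a * x * a⁻¹)) ∈ S0 := by
      rw [hS0, ← map_aComm]; exact mem_map_of_mem _ (aComm_mem hx)
    have hB := (T.θ_eq_one h0 hs).1 (MulEquiv.ext fun v => mul_inv_eq_one.1 (h _ (mspan_mem hsS v)))
    rw [← T.bottom h0] at hB
    have := (T.Mn 0).conj_mem _ hB x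
    rwa [show x * (x⁻¹ * (a * x * a⁻¹)) * x⁻¹ = ⁅a, x⁆ by rw [commutatorElement_def]; group] at this
  obtain ⟨w, hw, hwa, hw1⟩ := exists_fixed_moved O.hr (by rw [← map_pow, O.har, map_one])
    (Conf.mem_normalizer_aComm (map_mem_normalizer _ (le_normalizer_of_normal (mem_top a)))) hfree hco hv hv1
  rw [← hS0, e0] at hw
  obtain ⟨g, hgL, hgC, rfl⟩ := mspan_lift O.coprime (T.A_le h0) haS1 hw hwa
  have hgM : (g : G) ∉ T.M (0 + 1) := fun h => hw1 ((QuotientGroup.eq_one_iff g).2 h)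
  letI := T.comm' hN
  haveI := T.fact' hN
  haveI := T.finDual hN
  have Kst := T.stack O hN hSA hSp haS
  set L := ⁅T.A (0 + 1), aComm S a⁆ with hL
  have hQ : ⁅(T.A (0 + 1)).map (T.θ (0 + 1)), aComm (S.map (T.θ (0 + 1))) (T.θ (0 + 1) a)⁆ =
      L.map (T.θ (0 + 1)) := by rw [hL, map_commutator, map_aComm]
  have haL : a ∈ normalizer (L : Set G) := by
    rw [← CfsgLib.Coprime.conjBy_eq_self_iff, CfsgLib.Coprime.conjBy, map_commutator]
    exact congrArg₂ _ (CfsgLib.Coprime.conjBy_eq_self_iff.2 (le_normalizer_of_normal (mem_top a)))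
      (CfsgLib.Coprime.conjBy_eq_self_iff.2 haS1)
  have hLA : L ≤ T.A (0 + 1) := commutator_le_left _ _
  have h1 := Kst.eq_one_of_fix ?_ (y := T.θ (0 + 1) (g : G)) (hQ.ge (mem_map_of_mem _ hgL))
    (by rw [← ((mem_Cf.1 hgC).2.map (T.θ (0 + 1))).eq, mul_inv_cancel_right])
  · exact hgM (T.B_le _ hN ((T.θ_eq_one hN g.2).1 h1))
  intro y hy hya
  obtain ⟨w', hw', hw'C, rfl⟩ := T.lift_fixed O hN hLA haL (hQ.le hy) (mul_inv_eq_iff_eq_mul.1 hya).symm
  exact T.not_good_fix O hN hng (hLA hw') (i := 0) hw'C (by omega)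

/-- A moved section yields a visible element at it or above it. -/
theorem good_up (htop : K ⊔ zpowers a = ⊤) {j : ℕ} (hj : j + 2 < N)
    (htriv : ∀ i < j + 1, ∀ x ∈ T.A i, ⁅a, x⁆ ∈ T.M i)
    (hmove : ¬ ∀ x ∈ T.A (j + 1), ⁅a, x⁆ ∈ T.M (j + 1)) : T.Good a (j + 1) ∨ T.Good a (j + 2) := by
  by_contra hng
  push Not at hng
  obtain ⟨hng1, hng2⟩ := hng
  have hj1 : j + 1 < N := by omega
  have hj0 : j < N := by omega
  obtain ⟨S, hSA, hSp, haS, hSmap, hc⟩ := T.exists_cut O hj1.le htriv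
  set Z := T.A (j + 1) with hZ
  set C' := Cf K a ⊓ normalizer (S : Set G) with hC'
  haveI : Fact (T.p j).Prime := ⟨T.prime hj0.le⟩
  set Q := rser C' j ⊓ (T.A j ⊔ Z) with hQdef
  set S₂ := ((default : Sylow (T.p j) Q) : Subgroup Q).map Q.subtype with hS₂def
  have hS₂ : CfsgLib.Coprime.IsSylowIn (T.p j) S₂ Q := CfsgLib.Coprime.isSylowIn_map _
  have hxfacts : ∀ {x}, x ∈ S₂ → x ∈ rser (Cf K a) j ∧ Commute x a ∧ x ∈ normalizer (S : Set G) ∧
      x ∈ rser K j ∧ (orderOf x).Coprime (T.p (j + 1)) ∧ r.Coprime (orderOf x) := fun {x} hx => by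
    have hxQ := (mem_inf.1 (hS₂.1 hx)).1
    have hxC := rser_le _ _ hxQ
    have hxK : x ∈ K := (mem_inf.1 (mem_inf.1 hxC).1).1
    refine ⟨rser_mono (hc.hle) j hxQ, (mem_Cf.1 (mem_inf.1 hxC).1).2, (mem_inf.1 hxC).2,
      rser_mono (hc.hle.trans inf_le_left) j hxQ,
      coprime_of_ppow (T.prime hj0.le) (T.prime hj1.le) (T.p_ne j hj0) (isPGroup_ppow hS₂.isPGroup hx),
      O.hco.coprime_dvd_right ?_⟩
    have := orderOf_dvd_natCard (⟨x, hxK⟩ : K)
    rwa [orderOf_mk] at this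
  have hZi : Z ≤ centMod (T.A (j + 1)) (T.M (j + 1)) := le_centMod_iff.2 (T.step (j + 1) hj1.le).comm
  have hmove' : T.θ j a ≠ 1 := fun h => hmove (mem_centMod.1 ((act_eq_one_iff _ _ a).1 h))
  have haS1 : a ∈ normalizer (aComm S a : Set G) := Conf.mem_normalizer_aComm haS
  have hαP : T.θ (j + 1) a ∈ normalizer (((T.A (j + 1)).map (T.θ (j + 1)) : Subgroup _) : Set _) :=
    map_mem_normalizer _ (le_normalizer_of_normal (mem_top a))
  have hMeq : aComm ((T.A (j + 1)).map (T.θ (j + 1))) (T.θ (j + 1) a) =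
      (aComm S a).map (T.θ (j + 1)) := by rw [map_aComm, hSmap hj1]
  letI := T.comm' hj1
  haveI := T.fact' hj1
  haveI := T.finDual hj1
  have C1 := T.conf O hj1
  have F : Flank C1 (S₂.map (T.θ (j + 1))) (T.p j) := by
    refine ⟨T.prime hj0.le, T.p_ne j hj0, (O.ne_p T hj0.le).symm, hS₂.isPGroup.map _, ?_, ?_, ?_, ?_⟩
    · rintro _ ⟨x, hx, rfl⟩
      exact (hxfacts hx).2.1.map _
    · rintro _ ⟨x, -, rfl⟩
      exact map_mem_normalizer _ (le_normalizer_of_normal (mem_top x))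
    · rintro _ ⟨x, hx, rfl⟩ _ ⟨z, hz, rfl⟩
      refine commutatorElement_eq_one_iff_commute.1 ?_
      rw [← map_commutatorElement]
      exact T.θ_of_B hj1 (T.op (j + 1) (Nat.succ_pos j) hj1 x (hxfacts hx).2.2.2.1 (hxfacts hx).2.2.2.2.1 z hz)
    · rintro _ ⟨x, hx, rfl⟩
      obtain ⟨hxC, hxa, hxS, hxK, hxco, hxr⟩ := hxfacts hx
      have hxS1 : x ∈ normalizer (aComm S a : Set G) := aComm_normalizer hxS hxa
      set S₃ := aComm (aComm S a) x with hS₃
      have haS3 : a ∈ normalizer (S₃ : Set G) := aComm_normalizer haS1 hxa.symm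
      have hξ : T.θ (j + 1) x ∈ normalizer ((aComm ((T.A (j + 1)).map (T.θ (j + 1))) (T.θ (j + 1) a) :
          Subgroup _) : Set _) :=
        aComm_normalizer (map_mem_normalizer _ (le_normalizer_of_normal (mem_top x))) (hxa.map _)
      have hMS : aComm (aComm ((T.A (j + 1)).map (T.θ (j + 1))) (T.θ (j + 1) a)) (T.θ (j + 1) x) =
          S₃.map (T.θ (j + 1)) := by rw [hMeq, hS₃, map_aComm (T.θ (j + 1)) (aComm S a) x]
      refine T.dual_fix_level O hj1 ((aComm_le hξ).trans (aComm_le hαP))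
        (aComm_normalizer (Conf.mem_normalizer_aComm hαP) (hxa.map _).symm)
        (Conf.mem_normalizer_aComm hξ) (hxa.map _) fun v hv hva => ?_
      rw [hMS] at hv
      obtain ⟨w, hwL, hwC, rfl⟩ := mspan_lift O.coprime (T.A_le hj.le) haS3 hv hva
      -- the next level: the commutator is trivial
      letI := T.comm' hj
      haveI := T.fact' hj
      haveI := T.finDual hj
      have Kst := T.stack O hj hSA hSp haS
      set L := ⁅T.A (j + 1 + 1), S₃⁆ with hL
      have hQ : ⁅(T.A (j + 1 + 1)).map (T.θ (j + 1 + 1)),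
          aComm (aComm (S.map (T.θ (j + 1 + 1))) (T.θ (j + 1 + 1) a)) (T.θ (j + 1 + 1) x)⁆ =
          L.map (T.θ (j + 1 + 1)) := by rw [hL, map_commutator, hS₃, map_aComm, map_aComm]
      have hLA : L ≤ T.A (j + 1 + 1) := commutator_le_left _ _
      have haL : a ∈ normalizer (L : Set G) := by
        rw [← CfsgLib.Coprime.conjBy_eq_self_iff, CfsgLib.Coprime.conjBy, map_commutator]
        exact congrArg₂ _ (CfsgLib.Coprime.conjBy_eq_self_iff.2 (le_normalizer_of_normal (mem_top a)))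
          (CfsgLib.Coprime.conjBy_eq_self_iff.2 haS3)
      have hord : orderOf (T.θ (j + 1 + 1) x) ∣ orderOf x := orderOf_map_dvd _ x
      have h1 := Kst.alpha (g := T.θ (j + 1 + 1) x) (hxa.map _)
        (map_mem_normalizer _ (le_normalizer_of_normal (mem_top x)))
        (map_mem_normalizer _ (le_normalizer_of_normal (mem_top x))) (map_mem_normalizer _ hxS)
        (map_mem_normalizer _ (CfsgLib.Coprime.inf_le_normalizer (zpowers_le.2 hxS) le_normalizer_of_normal
          (mem_zpowers x)))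
        ?_ (hxco.coprime_dvd_left hord) (hxr.symm.coprime_dvd_left hord) ?_
        (y := T.θ (j + 1 + 1) (w : G)) (hQ.ge (mem_map_of_mem _ hwL))
        (by rw [← ((mem_Cf.1 hwC).2.map (T.θ (j + 1 + 1))).eq, mul_inv_cancel_right])
      · rw [← map_commutatorElement] at h1
        have hA : ⁅x, (w : G)⁆ ∈ T.A (j + 1 + 1) :=
          mul_mem ((T.An _).conj_mem _ w.2 x) (inv_mem w.2)
        exact (act_eq_iff _ _ x w).2 (T.B_le _ hj ((T.θ_eq_one hj hA).1 h1))
      · rintro _ ⟨z, hz, rfl⟩ _ ⟨l, hl, rfl⟩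
        refine commutatorElement_eq_one_iff_commute.1 ?_
        rw [← map_commutatorElement, ← map_commutatorElement]
        obtain ⟨hzS, hzM⟩ := mem_inf.1 hz
        have huS : ⁅x, z⁆ ∈ S := by
          rw [commutatorElement_def]
          exact mul_mem ((mem_normalizer_iff.1 hxS z).1 hzS) (inv_mem hzS)
        refine T.θ_of_B hj (T.central_P hj (T.le_rser (j + 1) hj1.le (hSA huS))
          ((T.mem_B (j + 1) hj1 _).1 (T.op (j + 1) (Nat.succ_pos j) hj1 x hxK hxco z hzM)).2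
          (coprime_of_ppow (T.prime hj1.le) (T.prime hj.le) (T.p_ne (j + 1) hj1) (isPGroup_ppow hSp huS)) hl)
      · intro y hy hya
        obtain ⟨w', hw', hw'C, rfl⟩ :=
          T.lift_fixed O hj hLA haL (hQ.le hy) (mul_inv_eq_iff_eq_mul.1 hya).symm
        rw [← map_commutatorElement]
        refine T.not_good_fix O hj hng2 (mul_mem ((T.An _).conj_mem _ (hLA hw') x) (inv_mem (hLA hw')))
          (i := j) ?_ (by omega)
        rw [commutatorElement_def, show x * w' * x⁻¹ * w'⁻¹ = x * (w' * x⁻¹ * w'⁻¹) by group]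
        exact mul_mem hxC
          ((mem_normalizer_iff.1 (rser_normalizer (le_normalizer hw'C) j) _).1 (inv_mem hxC))
  -- an element moving the moved part gives a visible central element
  have hmoved : ∀ {x : G}, (∃ v, T.θ j x (T.θ j a v * v⁻¹) ≠ T.θ j a v * v⁻¹) →
      ¬ aComm (aComm ((T.A (j + 1)).map (T.θ (j + 1))) (T.θ (j + 1) a)) (T.θ (j + 1) x) ≤
        (T.M (j + 1)).map (T.θ (j + 1)) := by
    rintro x ⟨v, hv⟩ hle
    induction v using QuotientGroup.induction_on with | H w =>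
    set u := ⁅a, (w : G)⁆ with hu
    have huA : u ∈ T.A (j + 1) := mul_mem ((T.An _).conj_mem _ w.2 a) (inv_mem w.2)
    have hus : u⁻¹ ∈ aComm (T.A (j + 1)) a := by
      have := aComm_mem (a := a) (inv_mem w.2 : (w : G)⁻¹ ∈ T.A (j + 1))
      rwa [show (w : G)⁻¹⁻¹ * (a * (w : G)⁻¹ * a⁻¹) = u⁻¹ by rw [hu, commutatorElement_def]; group] at this
    have hA : ⁅u, x⁆ ∈ T.A (j + 1) := commutator_le_left _ _ (commutator_mem_commutator huA (mem_top x))
    rw [← map_aComm, ← map_aComm] at hle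
    obtain ⟨m, hm, em⟩ := hle (mem_map_of_mem _ (aComm_mem (a := x) hus))
    rw [inv_inv, show u * (x * u⁻¹ * x⁻¹) = ⁅u, x⁆ by rw [commutatorElement_def]; group] at em
    have hB : m⁻¹ * ⁅u, x⁆ ∈ T.B (j + 1) := (T.θ_eq_one hj1
      (mul_mem (inv_mem ((T.step _ hj1.le).hle hm)) hA)).1 (by rw [map_mul, map_inv, em, inv_mul_cancel])
    have hM := mul_mem hm (T.B_le _ hj1 hB)
    rw [mul_inv_cancel_left] at hM
    refine hv ?_
    have he : T.θ j a (w : Sect (T.A (j + 1)) (T.M (j + 1))) * (w : Sect (T.A (j + 1)) (T.M (j + 1)))⁻¹ =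
        ((⟨u, huA⟩ : T.A (j + 1)) : Sect (T.A (j + 1)) (T.M (j + 1))) := by
      rw [act_mk, ← QuotientGroup.mk_inv, ← QuotientGroup.mk_mul]
      refine congrArg QuotientGroup.mk (Subtype.ext ?_)
      rw [Subgroup.coe_mul, Subgroup.coe_inv, MulAut.conjNormal_apply]
      exact (commutatorElement_def a (w : G)).symm
    rw [he]
    refine (act_eq_iff _ _ x ⟨u, huA⟩).2 ?_
    rw [← commutatorElement_inv]
    exact inv_mem hM
  have hMA : T.M (j + 1) ≤ T.A (j + 1) := (T.step _ hj1.le).hle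
  have haM : a ∈ normalizer (T.M (j + 1) : Set G) := le_normalizer_of_normal (mem_top a)
  rcases Nat.eq_zero_or_pos j with hj' | hj'
  · obtain ⟨τ, hτ, hv⟩ := hc.crux_zero O hj1.le htop hZi hmove' hj' hS₂
    obtain ⟨c, hc0, hca, f, hf, hfa, hfc⟩ := F.fixed_center (mem_map_of_mem _ hτ) (hmoved hv)
    obtain ⟨m, hm, hmC, rfl⟩ := T.lift_fixed O hj1 hMA haM hc0 (mul_inv_eq_iff_eq_mul.1 hca).symm
    exact hfc (T.not_good_fix O hj1 hng1 (hMA hm) (i := 0) hmC (by omega) f hf hfa)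
  · obtain ⟨i, hi⟩ : ∃ i, j = i + 1 := ⟨j - 1, by omega⟩
    obtain ⟨τ, hτ, h, hh, hhS, hv⟩ := hc.crux_succ O hj1.le htop hZi hmove' hj1 hi hS₂
    have hne := hmoved hv
    rw [map_commutatorElement] at hne
    have hhC := mem_inf.1 (rser_le C' i hh)
    obtain ⟨c, hc0, hca, f, hf, hfa, hfc⟩ := F.fixed_comm (g := T.θ (j + 1) h)
      ((mem_Cf.1 hhC.1).2.map _) (map_mem_normalizer _ (le_normalizer_of_normal (mem_top h)))
      (map_mem_normalizer _ (le_normalizer_of_normal (mem_top h))) (map_mem_normalizer _ hhS)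
      (mem_map_of_mem _ hτ) hne
    obtain ⟨m, hm, hmC, rfl⟩ := T.lift_fixed O hj1 hMA haM hc0 (mul_inv_eq_iff_eq_mul.1 hca).symm
    rw [← map_commutatorElement] at hfc
    refine hfc (T.not_good_fix O hj1 hng1 (mul_mem ((T.An _).conj_mem _ (hMA hm) h) (inv_mem (hMA hm)))
      (i := i) ?_ (by omega) f hf hfa)
    have hh' := rser_mono hc.hle i hh
    rw [show h * m * h⁻¹ * m⁻¹ = h * (m * h⁻¹ * m⁻¹) by group]
    exact mul_mem hh' ((mem_normalizer_iff.1 (rser_normalizer (le_normalizer hmC) i) _).1 (inv_mem hh'))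

end Tower

/-- **Turull**: the fixed points of an operator of coprime prime order control the Fitting height. -/
theorem core (hK : Group.IsSolvable K) {a : G} {r : ℕ} (hr : r.Prime) (har : a ^ r = 1)
    (hco : r.Coprime (Nat.card K)) (htop : K ⊔ zpowers a = ⊤) {n : ℕ} (hC : rser (Cf K a) n = ⊥) :
    rser K (n + 2) = ⊥ := by
  classical
  by_contra hne
  obtain ⟨T⟩ := exists_tower hK (Nat.le_add_left 1 (n + 1)) hne
  have O : Tower.Op K a r := ⟨hr, har, hco⟩
  have hchain : ∀ {j}, T.Good a j → ∀ d, j + d + 1 ≤ n + 2 → T.Good a (j + d) := fun {j} hj d => by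
    induction d with
    | zero => intro _; exact hj
    | succ d ih => intro hd; exact T.push O (j := j + d) (by omega) (ih (by omega))
  have hend : ∀ {j}, T.Good a j → j + 1 ≤ n + 2 → False := fun {j} hj h => by
    have := hchain hj (n + 1 - j) (by omega)
    exact T.not_good_top O (j := j + (n + 1 - j)) (n := n) (by omega) le_rfl hC this
  have hex : ∃ i, i ≤ n + 2 ∧ ¬ ∀ x ∈ T.A i, ⁅a, x⁆ ∈ T.M i := by
    by_contra h
    push Not at h
    have := (T.cut_bot O h).length hC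
    omega
  obtain ⟨hi, hmove⟩ := Nat.find_spec hex
  have htriv : ∀ i < Nat.find hex, ∀ x ∈ T.A i, ⁅a, x⁆ ∈ T.M i := fun i h => by
    by_contra hc
    exact Nat.find_min hex h ⟨by omega, hc⟩
  obtain ⟨S, -, -, -, -, hc⟩ := T.exists_cut O hi htriv
  have hlen := hc.length hC
  generalize Nat.find hex = i₀ at hi hmove htriv hlen
  rcases i₀ with _ | j
  · exact hend (Tower.good_one O (by omega) hmove) (by omega)
  · rcases Tower.good_up O htop (j := j) (by omega) htriv hmove with h | h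
    · exact hend h (by omega)
    · exact hend h (by omega)

end CfsgLib.PGroup.TurullFix
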