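import Cfsg.Agent.Lib.PGroup.TurullFix.Stable
import Mathlib.LinearAlgebra.Dimension.OrzechProperty
import Mathlib.LinearAlgebra.Trace

/-!
An operator of prime order equal to the characteristic that permutes a class-two basis semiregularly.
-/

set_option autoImplicit false
set_option linter.style.haveILetI false
set_option linter.unusedSectionVars false

namespace CfsgLib.PGroup.TurullFix

open CfsgLib.PGroup
open scoped BigOperators

universe u v w

variable {E : Type u} [Group E] [Finite E] {k : Type v} [Field k] [IsAlgClosed k] {W : Type w}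
  [AddCommGroup W] [Module k W] [FiniteDimensional k W] (ρ : E →* Module.End k W)

/-- An operator commuting with a semiregular one is a scalar plus a trace. -/
theorem fixed_eq_scalar_add_trace [Nontrivial W] (hirr : Irred ρ) (hE : ClassTwo ρ)
    (hm : (Nat.card (ScalarQuot ρ) : k) ≠ 0) {t : ℕ} (ht : 1 ≤ t) (τ : E ≃* E)
    (hτt : ∀ x, τ^[t] x = x) (hτs : ∀ d ∈ scalarSub ρ, τ d ∈ scalarSub ρ) (B : Module.End k W)
    (hBt : B ^ t = 1) (hB : ∀ x, B * ρ x = ρ (τ x) * B)
    (hfree : ∀ i, 0 < i → i < t → ∀ x, x⁻¹ * τ^[i] x ∈ scalarSub ρ → x ∈ scalarSub ρ)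
    {Z : Module.End k W} (hZ : B * Z = Z * B) :
    ∃ (c : k) (Y : Module.End k W), Z = c • 1 + ∑ l ∈ Finset.range t, B ^ l * Y * B ^ (t - l) := by
  classical
  haveI := scalarSub_normal ρ
  haveI := Fintype.ofFinite (ScalarQuot ρ)
  have hm' : (Fintype.card (ScalarQuot ρ) : k) ≠ 0 := by rwa [← Nat.card_eq_fintype_card]
  have hmap : (scalarSub ρ).map (τ : E →* E) = scalarSub ρ :=
    Subgroup.eq_of_le_of_card_ge (Subgroup.map_le_iff_le_comap.2 fun x hx => hτs x hx)
      (Subgroup.card_map_of_injective τ.injective).ge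
  let τ' : Equiv.Perm (ScalarQuot ρ) :=
    (QuotientGroup.congr (scalarSub ρ) (scalarSub ρ) τ hmap).toEquiv
  have hτmk : ∀ x : E, τ' (QuotientGroup.mk x) = QuotientGroup.mk (τ x) := fun x => rfl
  have hτn : ∀ (n : ℕ) (x : E), (τ' ^ n) (QuotientGroup.mk x) = QuotientGroup.mk (τ^[n] x) := by
    intro n x
    induction n with
    | zero => rfl
    | succ n ih => rw [pow_succ', Equiv.Perm.mul_apply, ih, hτmk, Function.iterate_succ_apply']
  have hτ1 : ∀ n, (τ' ^ n) 1 = 1 := by
    intro n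
    induction n with
    | zero => rfl
    | succ n ih =>
      rw [pow_succ', Equiv.Perm.mul_apply, ih, ← QuotientGroup.mk_one, hτmk, map_one]
  have hτt' : τ' ^ t = 1 := Equiv.ext fun i => by
    obtain ⟨x, rfl⟩ := QuotientGroup.mk_surjective i
    rw [hτn, hτt, Equiv.Perm.one_apply]
  have hfree' : ∀ (i : ScalarQuot ρ), i ≠ 1 → ∀ a b, a < t → b < t →
      (τ' ^ a) i = (τ' ^ b) i → a = b := by
    intro i hi a b ha hb h
    wlog hab : a ≤ b generalizing a b
    · exact (this b a hb ha h.symm (le_of_not_ge hab)).symm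
    by_contra hne
    obtain ⟨x, rfl⟩ := QuotientGroup.mk_surjective i
    refine hi ((mem_scalarSub_iff_mk_eq_one ρ x).1 (hfree (b - a) (by omega) (by omega) x ?_))
    rw [← Nat.add_sub_cancel' hab, pow_add, Equiv.Perm.mul_apply] at h
    have h2 := (τ' ^ a).injective h
    rw [hτn, QuotientGroup.eq] at h2
    exact h2
  -- the basis
  have hli : LinearIndependent k fun i : ScalarQuot ρ => ρ i.out :=
    linearIndependent_of_top_le_span_of_card_eq_finrank (rep_span ρ hirr hE hm').ge (by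
      rw [Module.finrank_linearMap, ← Nat.card_eq_fintype_card, card_scalarQuot ρ hirr hE hm])
  let bas : Module.Basis (ScalarQuot ρ) k (Module.End k W) :=
    Module.Basis.mk hli (rep_span ρ hirr hE hm').ge
  have hbas : ∀ i, bas i = ρ i.out := fun i => Module.Basis.mk_apply _ _ i
  let z : ScalarQuot ρ → k := fun i => bas.repr Z i
  let cj : Module.End k W →ₗ[k] Module.End k W :=
    (LinearMap.mulLeft k B).comp (LinearMap.mulRight k (B ^ (t - 1)))
  have hcj : ∀ X, cj X = B * (X * B ^ (t - 1)) := fun X => rfl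
  have hBB : B * B ^ (t - 1) = 1 := by rw [← pow_succ', Nat.sub_add_cancel ht, hBt]
  have hlam : ∀ i, ∃ e : k, cj (bas i) = e • bas (τ' i) := by
    intro i
    obtain ⟨d, ⟨e, he⟩, hout⟩ := out_mk_eq ρ (τ i.out)
    have hτi : τ' i = QuotientGroup.mk (τ i.out) := by rw [← hτmk, QuotientGroup.out_eq']
    have he0 : e ≠ 0 := fun h => rep_ne_zero ρ d (by rw [he, h, zero_smul])
    refine ⟨e⁻¹, ?_⟩
    rw [hcj, ← mul_assoc, hbas, hB, mul_assoc, hBB, mul_one, hbas, hτi, hout, map_mul, he, mul_smul_comm,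
      mul_one, smul_smul, inv_mul_cancel₀ he0, one_smul]
  choose e he using hlam
  have hcjZ : cj Z = Z := by rw [hcj, ← mul_assoc, hZ, mul_assoc, hBB, mul_one]
  have hz : ∀ i, z (τ' i) = e i * z i := by
    intro i
    have h1 : cj Z = ∑ j, (e j * z j) • bas (τ' j) := by
      conv_lhs => rw [← bas.sum_repr Z]
      rw [map_sum]
      exact Finset.sum_congr rfl fun j _ => by rw [map_smul, he, smul_smul, mul_comm]
    rw [hcjZ, ← Equiv.sum_comp τ'.symm fun j => (e j * z j) • bas (τ' j)] at h1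
    simp only [Equiv.apply_symm_apply] at h1
    have h2 := congrArg (fun X => bas.repr X (τ' i)) h1
    simp only [bas.repr_sum_self, Equiv.symm_apply_apply] at h2
    exact h2
  have hstep : ∀ (l : ℕ) (i : ScalarQuot ρ),
      B ^ l * (z i • bas i) * B ^ (t - l % t) = z ((τ' ^ l) i) • bas ((τ' ^ l) i) := by
    intro l i
    induction l with
    | zero => rw [pow_zero, pow_zero, one_mul, Nat.zero_mod, Nat.sub_zero, hBt, mul_one, Equiv.Perm.one_apply]
    | succ l ih =>
      have hexp : B ^ (t - (l + 1) % t) = B ^ (t - l % t) * B ^ (t - 1) := by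
        have h3 : ∀ n, B ^ n = B ^ (n % t) := fun n => by
          conv_lhs => rw [← Nat.mod_add_div n t, pow_add, pow_mul, hBt, one_pow, mul_one]
        rw [← pow_add, h3, h3 (_ + _)]
        congr 1
        have hl : l % t < t := Nat.mod_lt _ ht
        rcases Nat.lt_or_ge (l % t + 1) t with h | h
        · rw [Nat.add_mod l 1 t, Nat.one_mod_eq_one.2 (by omega), Nat.mod_eq_of_lt h,
            show t - l % t + (t - 1) = (t - (l % t + 1)) + t by omega, Nat.add_mod_right]
        · rw [show (l + 1) % t = 0 by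
            rw [← Nat.mod_add_div l t, show l % t + t * (l / t) + 1 = t + t * (l / t) by omega]
            simp [Nat.add_mod],
            show t - l % t + (t - 1) = t by omega]
          simp
      rw [pow_succ', hexp, show B * B ^ l * (z i • bas i) * (B ^ (t - l % t) * B ^ (t - 1)) =
          cj (B ^ l * (z i • bas i) * B ^ (t - l % t)) by rw [hcj]; simp only [mul_assoc],
        ih, map_smul, he, smul_smul, mul_comm, ← hz, pow_succ' τ', Equiv.Perm.mul_apply]
  -- representatives of the orbits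
  let P := Subgroup.zpowers τ'
  let rep : ScalarQuot ρ → ScalarQuot ρ := fun i => (Quotient.mk (MulAction.orbitRel P (ScalarQuot ρ)) i).out
  have hrep : ∀ i, ∃ l < t, (τ' ^ l) (rep i) = i := by
    intro i
    obtain ⟨g, hg⟩ : i ∈ MulAction.orbit P (rep i) :=
      MulAction.orbitRel_apply.1 (Quotient.exact (Quotient.out_eq _).symm)
    obtain ⟨n, hn⟩ := (Submonoid.mem_powers_iff _ _).1
      ((isOfFinOrder_of_finite τ').mem_powers_iff_mem_zpowers.2 g.2)
    refine ⟨n % t, Nat.mod_lt _ ht, ?_⟩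
    conv_rhs => rw [← hg]
    show (τ' ^ (n % t)) (rep i) = (g : Equiv.Perm (ScalarQuot ρ)) (rep i)
    rw [← hn]
    conv_rhs => rw [← Nat.mod_add_div n t, pow_add, pow_mul, hτt', one_pow, mul_one]
  have hrepc : ∀ i l, rep ((τ' ^ l) i) = rep i := fun i l =>
    congrArg Quotient.out (Quotient.sound (MulAction.orbitRel_apply.2
      ⟨⟨τ' ^ l, pow_mem (Subgroup.mem_zpowers τ') l⟩, rfl⟩))
  let R : Finset (ScalarQuot ρ) := Finset.univ.filter fun i => i ≠ 1 ∧ rep i = i
  obtain ⟨c1, hc1⟩ : ∃ c : k, ρ (1 : ScalarQuot ρ).out = c • 1 := by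
    obtain ⟨d, ⟨c, hc⟩, hd⟩ := out_mk_eq ρ 1
    exact ⟨c, by rw [← QuotientGroup.mk_one, hd, one_mul, hc]⟩
  refine ⟨z 1 * c1, ∑ i ∈ R, z i • bas i, ?_⟩
  rw [show (z 1 * c1) • (1 : Module.End k W) = z 1 • bas 1 by rw [mul_smul, ← hc1, hbas]]
  conv_lhs => rw [← bas.sum_repr Z, ← Finset.add_sum_erase _ _ (Finset.mem_univ (1 : ScalarQuot ρ))]
  congr 1
  have hterm : ∀ l ∈ Finset.range t, B ^ l * (∑ i ∈ R, z i • bas i) * B ^ (t - l) =
      ∑ i ∈ R, z ((τ' ^ l) i) • bas ((τ' ^ l) i) := fun l hl => by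
    rw [Finset.mul_sum, Finset.sum_mul]
    exact Finset.sum_congr rfl fun i _ => by
      rw [← hstep, Nat.mod_eq_of_lt (Finset.mem_range.1 hl)]
  rw [Finset.sum_congr rfl hterm, ← Finset.sum_product']
  refine (Finset.sum_bij (fun (p : ℕ × ScalarQuot ρ) _ => (τ' ^ p.1) p.2) ?_ ?_ ?_ ?_).symm
  · rintro ⟨l, i⟩ hp
    simp only [Finset.mem_product, R, Finset.mem_filter] at hp
    exact Finset.mem_erase.2 ⟨fun h => hp.2.2.1 ((τ' ^ l).injective (h.trans (hτ1 l).symm)),
      Finset.mem_univ _⟩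
  · rintro ⟨l, i⟩ hp ⟨l', i'⟩ hp' h
    simp only [Finset.mem_product, Finset.mem_range, R, Finset.mem_filter] at hp hp'
    have hi : i = i' := by
      rw [← hp.2.2.2, ← hp'.2.2.2, ← hrepc i l, ← hrepc i' l']
      exact congrArg rep h
    subst hi
    exact Prod.ext (hfree' i hp.2.2.1 l l' hp.1 hp'.1 h) rfl
  · intro j hj
    obtain ⟨l, hl, hlj⟩ := hrep j
    refine ⟨(l, rep j), ?_, hlj⟩
    simp only [Finset.mem_product, Finset.mem_range, R, Finset.mem_filter]
    refine ⟨hl, Finset.mem_univ _, fun h => (Finset.mem_erase.1 hj).1 ?_, ?_⟩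
    · rw [← hlj, h, hτ1]
    · exact congrArg Quotient.out (Quotient.out_eq _)
  · intro p _
    rfl

/-- A centralizing operator of order the characteristic with a trivial row. -/
theorem scalar_row_mod [Nontrivial W] (hirr : Irred ρ) (hE : ClassTwo ρ)
    (hm : (Nat.card (ScalarQuot ρ) : k) ≠ 0)
    (hne : scalarSub ρ ≠ ⊤) {r t : ℕ} [NeZero r] (hr : r.Prime) (hrk : (r : k) ≠ 0) (ht : t.Prime)
    (htk : (t : k) = 0)
    (σ : E ≃* E) (hσr : ∀ x, σ^[r] x = x) (u : Module.End k W) (hur : u ^ r = 1)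
    (hu : ∀ x, u * ρ x = ρ (σ x) * u) (hfpf : ∀ x, x⁻¹ * σ x ∈ scalarSub ρ → x ∈ scalarSub ρ)
    (τ : E ≃* E) (B : Module.End k W) (hBt : B ^ t = 1)
    (hB : ∀ x, B * ρ x = ρ (τ x) * B) (hBu : u * B = B * u) (hτt : ∀ x, τ^[t] x = x)
    (hτfpf : ∀ x, x⁻¹ * τ x ∈ scalarSub ρ → x ∈ scalarSub ρ)
    (ζ : rootsOfUnity r k) (hζ : Module.End.eigenspace u ((ζ : kˣ) : k) ≠ ⊥)
    (hrow : ∀ w ∈ Module.End.eigenspace u ((ζ : kˣ) : k), B w = w) :
    t = 2 ∧ Module.finrank k W = 2 * r - 1 ∧
      ∀ η : rootsOfUnity r k, Module.finrank k (Module.End.eigenspace u ((η : kˣ) : k)) ≤ 2 := by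
  classical
  haveI : Fact t.Prime := ⟨ht⟩
  haveI : CharP k t := by
    obtain ⟨p, hp⟩ := CharP.exists k
    haveI := hp
    rcases (Nat.dvd_prime ht).1 ((CharP.cast_eq_zero_iff k p t).1 htk) with h | h
    · exact absurd h (CharP.char_ne_one k p)
    · exact h ▸ hp
  have hσc := fix_scalar ρ hr.one_le hur hu
  have hτc := fix_scalar ρ ht.one_le hBt hB
  have hσm : ∀ d ∈ scalarSub ρ, σ d ∈ scalarSub ρ := fun d ⟨c, hc⟩ => ⟨c, hσc d c hc⟩
  have hτs : ∀ d ∈ scalarSub ρ, τ d ∈ scalarSub ρ := fun d ⟨c, hc⟩ => ⟨c, hτc d c hc⟩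
  have hfree : ∀ i, 0 < i → i < t → ∀ x, x⁻¹ * τ^[i] x ∈ scalarSub ρ → x ∈ scalarSub ρ :=
    fun i hi hit x hx => free_of_prime ρ ht hτt hτs hτfpf i
      (fun h => Nat.not_lt.2 (Nat.le_of_dvd hi h) hit) x hx
  have hdecomp := fun {Z} (hZ : B * Z = Z * B) =>
    fixed_eq_scalar_add_trace ρ hirr hE hm ht.one_le τ hτt hτs B hBt hB hfree (Z := Z) hZ
  let π : rootsOfUnity r k → Module.End k W := fun η => eproj u r ((η : kˣ) : k)
  have hπB : ∀ η : rootsOfUnity r k, B * π η = π η * B := fun η => LinearMap.ext fun w => eproj_comm B hBu _ w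
  have hπmem : ∀ (η : rootsOfUnity r k) (w : W), π η w ∈ Module.End.eigenspace u ((η : kˣ) : k) :=
    fun η w => eproj_mem hur (root_pow η) w
  have hπid : ∀ (η θ : rootsOfUnity r k), ∀ w ∈ Module.End.eigenspace u ((θ : kˣ) : k),
      π η w = if η = θ then w else 0 := fun η θ w hw => by
    show eproj u r ((η : kˣ) : k) w = _
    rw [eproj_eigen hrk (root_pow η) (root_pow θ) hw]
    by_cases h : η = θ
    · rw [if_pos h, if_pos (by rw [h])]
    · rw [if_neg h, if_neg fun e => h (Subtype.ext (Units.ext e))]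
  have hBρ : ∀ l, ∀ w ∈ Module.End.eigenspace u ((ζ : kˣ) : k), (B ^ l) w = w := by
    intro l w hw
    induction l with
    | zero => rfl
    | succ l ih => rw [pow_succ, Module.End.mul_apply, hrow w hw, ih]
  have hzero : ∀ (Y : Module.End k W) (w : W), w ∈ Module.End.eigenspace u ((ζ : kˣ) : k) →
      π ζ ((∑ l ∈ Finset.range t, B ^ l * Y * B ^ (t - l)) w) = 0 := by
    intro Y w hw
    rw [LinearMap.sum_apply, map_sum, Finset.sum_congr rfl (g := fun _ => π ζ (Y w)) fun l _ => ?_,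
      Finset.sum_const, Finset.card_range, ← Nat.cast_smul_eq_nsmul k, htk, zero_smul]
    rw [Module.End.mul_apply, Module.End.mul_apply, hBρ _ w hw, ← Module.End.mul_apply (π ζ),
      ← ((show Commute B (π ζ) from hπB ζ).pow_left l).eq, Module.End.mul_apply, hBρ _ _ (hπmem ζ _)]
  let d : rootsOfUnity r k → ℕ := fun η => Module.finrank k (Module.End.eigenspace u ((η : kˣ) : k))
  have hd1 : d ζ = 1 := by
    refine le_antisymm ?_ (Nat.one_le_iff_ne_zero.2 fun h => hζ (Submodule.finrank_eq_zero.1 h))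
    obtain ⟨v, hv, hv0⟩ := Submodule.exists_mem_ne_zero_of_ne_bot hζ
    by_contra hgt
    obtain ⟨w, hw, hwv⟩ : ∃ w ∈ Module.End.eigenspace u ((ζ : kˣ) : k), w ∉ (k ∙ v) := by
      by_contra hc
      push Not at hc
      have := Submodule.finrank_mono (show Module.End.eigenspace u ((ζ : kˣ) : k) ≤ (k ∙ v) from hc)
      rw [finrank_span_singleton hv0] at this
      exact hgt this
    obtain ⟨f, hf1, hf2⟩ := Submodule.exists_le_ker_of_notMem hwv
    have hfv : f v = 0 := LinearMap.mem_ker.1 (hf2 (Submodule.mem_span_singleton_self v))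
    let Z : Module.End k W := (f.comp (π ζ)).smulRight v
    have hZ : B * Z = Z * B := LinearMap.ext fun x => by
      show B (f (π ζ x) • v) = f (π ζ (B x)) • v
      rw [map_smul, hrow v hv]
      congr 2
      exact ((LinearMap.congr_fun (hπB ζ) x).symm.trans (hrow _ (hπmem ζ x))).symm
    obtain ⟨c, Y, hcY⟩ := hdecomp hZ
    have key : ∀ x ∈ Module.End.eigenspace u ((ζ : kˣ) : k), π ζ (Z x) = c • x := fun x hx => by
      rw [hcY, LinearMap.add_apply, map_add, hzero Y x hx, add_zero, LinearMap.smul_apply,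
        Module.End.one_apply, map_smul, hπid ζ ζ x hx, if_pos rfl]
    have e1 := key v hv
    rw [show Z v = f (π ζ v) • v from rfl, hπid ζ ζ v hv, if_pos rfl, hfv, zero_smul, map_zero] at e1
    have hc0 : c = 0 := (smul_eq_zero.1 e1.symm).resolve_right hv0
    have e2 := key w hw
    rw [show Z w = f (π ζ w) • v from rfl, map_smul, hπid ζ ζ w hw, if_pos rfl, hπid ζ ζ v hv, if_pos rfl,
      hc0, zero_smul] at e2
    exact hv0 ((smul_eq_zero.1 e2).resolve_left hf1)
  have hdvd : ∀ η, η ≠ ζ → t ∣ d η := by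
    intro η hη
    obtain ⟨c, Y, hcY⟩ := hdecomp (hπB η)
    obtain ⟨v, hv, hv0⟩ := Submodule.exists_mem_ne_zero_of_ne_bot hζ
    have e1 := congrArg (fun X => π ζ (X v)) hcY
    simp only [LinearMap.add_apply, map_add, hzero Y v hv, add_zero, LinearMap.smul_apply,
      Module.End.one_apply, map_smul, hπid ζ ζ v hv, hπid η ζ v hv, if_pos rfl, if_neg hη, map_zero] at e1
    have hc0 : c = 0 := (smul_eq_zero.1 e1.symm).resolve_right hv0
    rw [hc0, zero_smul, zero_add] at hcY
    have htr := congrArg (LinearMap.trace k W) hcY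
    have hproj : LinearMap.IsProj (Module.End.eigenspace u ((η : kˣ) : k)) (π η) :=
      ⟨hπmem η, fun x hx => by rw [hπid η η x hx, if_pos rfl]⟩
    rw [hproj.trace, map_sum, Finset.sum_congr rfl (g := fun _ => LinearMap.trace k W Y) fun l hl => ?_,
      Finset.sum_const, Finset.card_range, ← Nat.cast_smul_eq_nsmul k, htk, zero_smul] at htr
    · exact (CharP.cast_eq_zero_iff k t _).1 htr
    · rw [LinearMap.trace_mul_comm, ← mul_assoc, ← pow_add,
        Nat.sub_add_cancel (Finset.mem_range.1 hl).le, hBt, one_mul]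
  obtain ⟨hC, hmod⟩ := commute_le ρ hirr hE hm hr.one_le hrk σ hσr hσc u hu hur
    fun i hi hir x hx => free_of_prime ρ hr hσr hσm hfpf i
      (fun h => Nat.not_lt.2 (Nat.le_of_dvd hi h) hir) x hx
  rw [card_scalarQuot ρ hirr hE hm] at hC
  have hnr : ¬ r ∣ Module.finrank k W := by
    intro hd
    have h1 := hmod hne
    rw [card_scalarQuot ρ hirr hE hm] at h1
    have h2 : (Module.finrank k W * Module.finrank k W) % r = 0 := Nat.mod_eq_zero_of_dvd (hd.mul_right _)
    unfold Nat.ModEq at h1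
    rw [h2, Nat.one_mod_eq_one.2 hr.ne_one] at h1
    exact zero_ne_one h1
  have hsum : Module.finrank k W = ∑ η, d η := finrank_eigen_sum hur hrk
  obtain ⟨-, hspread⟩ := var_lower d (by rw [card_roots hrk, ← hsum]; exact hnr)
  rw [card_roots hrk, ← hsum] at hspread
  have hsq : ∑ η, d η ^ 2 ≤ Module.finrank k (comm u) := finrank_le_comm hur hrk
  have hspr : ∀ η θ, d η ≤ d θ + 1 := by
    refine hspread ?_
    have := Nat.mul_le_mul_left r hsq
    rw [sq]
    omega
  have hval : ∀ η, η ≠ ζ → d η = 0 ∨ (d η = 2 ∧ t = 2) := by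
    intro η hη
    obtain ⟨l, hl⟩ := hdvd η hη
    have h1 := hspr η ζ
    rw [hd1] at h1
    rcases Nat.eq_zero_or_pos l with rfl | hl0
    · exact Or.inl (by rw [hl, mul_zero])
    · have h2 : t ≤ d η := hl ▸ Nat.le_mul_of_pos_right _ hl0
      have := ht.two_le
      exact Or.inr ⟨by omega, by omega⟩
  set others := (Finset.univ : Finset (rootsOfUnity r k)).erase ζ
  by_cases hall : ∀ η ∈ others, d η = 0
  · exfalso
    apply hne
    refine Subgroup.index_eq_one.1 ?_
    rw [Subgroup.index_eq_card]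
    show Nat.card (ScalarQuot ρ) = 1
    rw [card_scalarQuot ρ hirr hE hm, hsum, ← Finset.add_sum_erase _ _ (Finset.mem_univ ζ),
      Finset.sum_eq_zero hall, hd1, add_zero, mul_one]
  · push Not at hall
    obtain ⟨η₀, hη₀, hne0⟩ := hall
    obtain ⟨h20, ht2⟩ := (hval η₀ (Finset.mem_erase.1 hη₀).1).resolve_left hne0
    have htwo : ∀ η ∈ others, d η = 2 := fun η hη => by
      rcases hval η (Finset.mem_erase.1 hη).1 with h | h
      · have := hspr η₀ η; omega
      · exact h.1
    refine ⟨ht2, ?_, fun η => ?_⟩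
    · rw [hsum, ← Finset.add_sum_erase _ _ (Finset.mem_univ ζ), Finset.sum_congr rfl htwo, Finset.sum_const,
        Finset.card_erase_of_mem (Finset.mem_univ ζ), Finset.card_univ, card_roots hrk, hd1, smul_eq_mul]
      have := hr.two_le
      omega
    · by_cases h : η = ζ
      · show d η ≤ 2
        rw [h, hd1]; omega
      · exact (htwo η (Finset.mem_erase.2 ⟨h, Finset.mem_univ _⟩)).le

end CfsgLib.PGroup.TurullFix
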