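import Cfsg.Agent.Lib.PGroup.TurullFix.StepBeta
import Cfsg.Agent.Lib.PGroup.TurullFix.StableMod

/-!
Subgroups of a component with nondegenerate pairing, and the image of their representation.
-/

set_option autoImplicit false
set_option linter.style.haveILetI false
set_option linter.unusedSectionVars false

namespace CfsgLib.PGroup.TurullFix

open CfsgLib.PGroup
open Subgroup
open scoped commutatorElement BigOperators

universe u v w

variable {H : Type u} [Group H] [Finite H] {k : Type v} [Field k] {W : Type w} [AddCommGroup W]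
  [Module k W] {ρ : H →* Module.End k W}

theorem restrict_pow_apply {b : H} {X : Submodule k W} (h : ∀ x ∈ X, ρ b x ∈ X) (n : ℕ) (x : X) :
    (((ρ b).restrict h ^ n) x : W) = ρ (b ^ n) (x : W) := by
  induction n generalizing x with
  | zero => rw [pow_zero, pow_zero, map_one]; rfl
  | succ n ih =>
    rw [pow_succ', pow_succ', rep_mul_apply, Module.End.mul_apply, ← ih x]
    rfl

theorem restrict_pow_eq_one {b : H} {X : Submodule k W} (h : ∀ x ∈ X, ρ b x ∈ X) {n : ℕ}
    (hb : ∀ x ∈ X, ρ (b ^ n) x = x) : ((ρ b).restrict h : Module.End k X) ^ n = 1 :=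
  LinearMap.ext fun x => Subtype.ext (by rw [restrict_pow_apply, hb x x.2]; rfl)

theorem rep_pow_mem {b : H} {X : Submodule k W} (h : ∀ x ∈ X, ρ b x ∈ X) (n : ℕ) {x : W} (hx : x ∈ X) :
    ρ (b ^ n) x ∈ X := by
  induction n with
  | zero => rw [pow_zero, map_one]; exact hx
  | succ n ih => rw [pow_succ', rep_mul_apply]; exact h _ ih

variable {M : Subgroup H} {X : Submodule k W}

section Image

variable (hXM : ∀ m ∈ M, ∀ x ∈ X, ρ m x ∈ X)

/-- The image of a subgroup acting on an invariant subspace. -/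
def img : Subgroup (Module.End k X)ˣ := (subRep ρ X M hXM).toHomUnits.range

/-- Its tautological representation. -/
def imgRep : img hXM →* Module.End k X := (Units.coeHom _).comp (img hXM).subtype

/-- The map to the image. -/
def toImg : M →* img hXM := (subRep ρ X M hXM).toHomUnits.rangeRestrict

theorem toImg_surjective : Function.Surjective (toImg hXM) :=
  (subRep ρ X M hXM).toHomUnits.rangeRestrict_surjective

theorem imgRep_toImg (m : M) : imgRep hXM (toImg hXM m) = subRep ρ X M hXM m := rfl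

instance img_finite : Finite (img hXM) := Finite.of_surjective _ (toImg_surjective hXM)

theorem toImg_mem_scalarSub {m : M} :
    toImg hXM m ∈ scalarSub (imgRep hXM) ↔ m ∈ scalarSub (subRep ρ X M hXM) := Iff.rfl

theorem toImg_eq {m n : M} (h : subRep ρ X M hXM m = subRep ρ X M hXM n) : toImg hXM m = toImg hXM n :=
  Subtype.ext (Units.ext h)

theorem imgRep_irred (h : Irred (subRep ρ X M hXM)) : Irred (imgRep hXM) :=
  fun U hU => h U fun m w hw => hU (toImg hXM m) w hw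

theorem imgRep_classTwo (h : ClassTwo (subRep ρ X M hXM)) : ClassTwo (imgRep hXM) := fun x y => by
  obtain ⟨m, rfl⟩ := toImg_surjective hXM x
  obtain ⟨n, rfl⟩ := toImg_surjective hXM y
  rw [← map_inv, ← map_inv, ← map_mul, ← map_mul, ← map_mul, toImg_mem_scalarSub]
  exact h m n

theorem imgRep_card_ne_zero {q : ℕ} (hq : q.Prime) (hqk : (q : k) ≠ 0) (hM : IsPGroup q M) :
    (Nat.card (ScalarQuot (imgRep hXM)) : k) ≠ 0 := by
  haveI : Fact q.Prime := ⟨hq⟩
  obtain ⟨j, hj⟩ := IsPGroup.iff_card.1 hM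
  have h1 : Nat.card (ScalarQuot (imgRep hXM)) ∣ Nat.card (img hXM) :=
    (scalarSub (imgRep hXM)).card_quotient_dvd_card
  have h2 := h1.trans (Subgroup.card_dvd_of_surjective (toImg hXM) (toImg_surjective hXM))
  rw [hj] at h2
  obtain ⟨i, -, hi⟩ := (Nat.dvd_prime_pow hq).1 h2
  rw [hi, Nat.cast_pow]
  exact pow_ne_zero _ hqk

/-- An operator of finite order normalizing the subgroup. -/
theorem exists_img_operator {b : H} (hb : b ∈ normalizer (M : Set H)) (hbX : ∀ x ∈ X, ρ b x ∈ X)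
    {n : ℕ} (hn : 1 ≤ n) (hbn : ((ρ b).restrict hbX : Module.End k X) ^ n = 1) :
    ∃ s : img hXM ≃* img hXM,
      (∀ m : M, ∀ hm : b * m * b⁻¹ ∈ M, s (toImg hXM m) = toImg hXM ⟨b * m * b⁻¹, hm⟩) ∧
      (∀ e, (ρ b).restrict hbX * imgRep hXM e = imgRep hXM (s e) * (ρ b).restrict hbX) ∧
      ∀ e, s^[n] e = e := by
  set B : Module.End k X := (ρ b).restrict hbX with hB
  have h1 : B * B ^ (n - 1) = 1 := by rw [← pow_succ', Nat.sub_add_cancel hn, hbn]
  have h2 : B ^ (n - 1) * B = 1 := by rw [← pow_succ, Nat.sub_add_cancel hn, hbn]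
  let U : (Module.End k X)ˣ := ⟨B, B ^ (n - 1), h1, h2⟩
  have hcomm : ∀ m : M, B * subRep ρ X M hXM m =
      subRep ρ X M hXM ⟨b * m * b⁻¹, (mem_normalizer_iff.1 hb m).1 m.2⟩ * B := by
    intro m
    refine LinearMap.ext fun x => Subtype.ext ?_
    show ρ b (ρ (m : H) (x : W)) = ρ (b * (m : H) * b⁻¹) (ρ b (x : W))
    rw [← rep_mul_apply, ← rep_mul_apply, inv_mul_cancel_right]
  have hconj : ∀ m : M, U * (toImg hXM m : (Module.End k X)ˣ) * U⁻¹ =
      (toImg hXM ⟨b * m * b⁻¹, (mem_normalizer_iff.1 hb m).1 m.2⟩ : (Module.End k X)ˣ) := by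
    intro m
    refine mul_inv_eq_iff_eq_mul.2 (Units.ext ?_)
    exact hcomm m
  have hconj' : ∀ m : M, U⁻¹ * (toImg hXM m : (Module.End k X)ˣ) * U ∈ img hXM := by
    intro m
    have hm : b⁻¹ * m * b ∈ M := (mem_normalizer_iff''.1 hb m).1 m.2
    have e := hconj ⟨_, hm⟩
    have e2 : (⟨b * (b⁻¹ * (m : H) * b) * b⁻¹,
        (mem_normalizer_iff.1 hb _).1 hm⟩ : M) = m := Subtype.ext (by group)
    rw [e2] at e
    rw [← e, show U⁻¹ * (U * (toImg hXM ⟨_, hm⟩ : (Module.End k X)ˣ) * U⁻¹) * U =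
      (toImg hXM ⟨_, hm⟩ : (Module.End k X)ˣ) by group]
    exact (toImg hXM ⟨_, hm⟩).2
  have hmem : ∀ e ∈ img hXM, U * e * U⁻¹ ∈ img hXM := by
    intro e he
    obtain ⟨m, hm⟩ := toImg_surjective hXM ⟨e, he⟩
    rw [show e = (toImg hXM m : (Module.End k X)ˣ) from (congrArg Subtype.val hm).symm, hconj]
    exact (toImg hXM _).2
  have hmem' : ∀ e ∈ img hXM, U⁻¹ * e * U ∈ img hXM := by
    intro e he
    obtain ⟨m, hm⟩ := toImg_surjective hXM ⟨e, he⟩
    rw [show e = (toImg hXM m : (Module.End k X)ˣ) from (congrArg Subtype.val hm).symm]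
    exact hconj' m
  let s : img hXM ≃* img hXM :=
    { toFun := fun e => ⟨U * e * U⁻¹, hmem e e.2⟩
      invFun := fun e => ⟨U⁻¹ * e * U, hmem' e e.2⟩
      left_inv := fun e => Subtype.ext (by simp [mul_assoc])
      right_inv := fun e => Subtype.ext (by simp [mul_assoc])
      map_mul' := fun e e' => Subtype.ext (by simp [mul_assoc]) }
  refine ⟨s, fun m hm => Subtype.ext (hconj m), fun e => ?_, fun e => ?_⟩
  · obtain ⟨m, rfl⟩ := toImg_surjective hXM e
    rw [show s (toImg hXM m) = toImg hXM ⟨b * m * b⁻¹, (mem_normalizer_iff.1 hb m).1 m.2⟩ from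
      Subtype.ext (hconj m), imgRep_toImg, imgRep_toImg]
    exact hcomm m
  · have hU : U ^ n = 1 := Units.ext (by rw [Units.val_pow_eq_pow_val]; exact hbn)
    have hit : ∀ i, ((s^[i] e : img hXM) : (Module.End k X)ˣ) = U ^ i * (e : (Module.End k X)ˣ) * (U ^ i)⁻¹ := by
      intro i
      induction i with
      | zero => simp
      | succ i ih =>
        rw [Function.iterate_succ_apply']
        show U * _ * U⁻¹ = _
        rw [ih, pow_succ']
        group
    exact Subtype.ext (by rw [hit, hU, one_mul, inv_one, mul_one])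

end Image

variable {a : H} {r : ℕ} {P P0 : Subgroup H} {q : ℕ} {C : Conf ρ a r P P0 q} {φ : H → k} {R : Subgroup H}

/-- No proper nonzero invariant subspace. -/
def IrredOn (ρ : H →* Module.End k W) (F : Subgroup H) (X : Submodule k W) : Prop :=
  ∀ V ≤ X, (∀ m ∈ F, ∀ v ∈ V, ρ m v ∈ V) → V = ⊥ ∨ V = X

theorem IrredOn.subRep {F : Subgroup H} {X : Submodule k W} (h : IrredOn ρ F X)
    (hXF : ∀ m ∈ F, ∀ x ∈ X, ρ m x ∈ X) : Irred (subRep ρ X F hXF) := by
  intro U hU
  rcases h (U.map X.subtype) (Submodule.map_subtype_le _ _) (fun m hm v hv => by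
    obtain ⟨u, hu, rfl⟩ := Submodule.mem_map.1 hv
    exact Submodule.mem_map.2 ⟨_, hU ⟨m, hm⟩ u hu, rfl⟩) with e | e
  · left
    rwa [← Submodule.map_bot X.subtype,
      (Submodule.map_injective_of_injective X.subtype_injective).eq_iff] at e
  · right
    rw [← Submodule.map_injective_of_injective X.subtype_injective |>.eq_iff, e,
      Submodule.map_subtype_top]

/-- A subgroup with nondegenerate pairing on an invariant subspace of the component. -/
theorem IsComp.piece (K : IsComp C φ R) {F : Subgroup H} (hFP : F ≤ P) {X : Submodule k W} (hX0 : X ≠ ⊥)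
    (hXE : ∀ x ∈ X, Eig ρ R φ x) (hXF : ∀ m ∈ F, ∀ x ∈ X, ρ m x ∈ X)
    (hnd : ∀ m ∈ F, (∀ n ∈ F, φ ⁅m, n⁆ = 1) → m ∈ R) :
    ClassTwo (subRep ρ X F hXF) ∧ Nondeg (subRep ρ X F hXF) ∧
      scalarSub (subRep ρ X F hXF) = R.subgroupOf F := by
  set ρ' := CfsgLib.PGroup.subRep ρ X F hXF
  have hscal : ∀ m : F, (m : H) ∈ R → m ∈ scalarSub ρ' := fun m hm => ⟨φ m,
    LinearMap.ext fun x => Subtype.ext (hXE x x.2 m hm)⟩
  have hkey : ∀ m : F, (∀ n : F, ρ' (m * n) = ρ' (n * m)) → (m : H) ∈ R := by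
    intro m hm
    refine hnd m m.2 fun n hn => ?_
    obtain ⟨x, hx, hx0⟩ := X.exists_mem_ne_zero_of_ne_bot hX0
    have e : ρ ((m : H) * n) x = ρ (n * (m : H)) x :=
      congrArg Subtype.val (LinearMap.congr_fun (hm ⟨n, hn⟩) ⟨x, hx⟩)
    have e2 := K.swap C (hXE x hx) (hFP m.2) (hFP hn)
    rw [e] at e2
    refine smul_left_injective k (show ρ (n * (m : H)) x ≠ 0 from fun h0 =>
      hx0 (rep_injective ρ _ (h0.trans (map_zero _).symm))) ?_
    show φ ⁅(m : H), n⁆ • ρ (n * (m : H)) x = (1 : k) • ρ (n * (m : H)) x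
    rw [one_smul, ← e2]
  refine ⟨fun x y => hscal _ ?_, fun m hm => hscal m (hkey m hm), le_antisymm (fun m hm => ?_)
    fun m hm => hscal m hm⟩
  · exact K.P0_le C (C.comm_mem (hFP x.2) (hFP y.2))
  · obtain ⟨c, hc⟩ := hm
    exact hkey m fun n => by rw [map_mul, map_mul, hc, smul_mul_assoc, one_mul, mul_smul_comm, mul_one]

variable [IsAlgClosed k] [FiniteDimensional k W]

/-- An irreducible subspace stable under an operator of finite order. -/
theorem IsComp.exists_irredOn (K : IsComp C φ R) {F : Subgroup H} (hFP : F ≤ P)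
    (hnd : ∀ m ∈ F, (∀ n ∈ F, φ ⁅m, n⁆ = 1) → m ∈ R) {U : Submodule k W} (hU0 : U ≠ ⊥)
    (hUE : ∀ x ∈ U, Eig ρ R φ x) (hUF : ∀ m ∈ F, ∀ x ∈ U, ρ m x ∈ U) {b : H}
    (hbF : b ∈ normalizer (F : Set H)) (hUb : ∀ x ∈ U, ρ b x ∈ U) {N : ℕ} (hN : 1 ≤ N)
    (hbN : ∀ x ∈ U, ρ (b ^ N) x = x) :
    ∃ X : Submodule k W, X ≤ U ∧ X ≠ ⊥ ∧ (∀ m ∈ F, ∀ x ∈ X, ρ m x ∈ X) ∧ (∀ x ∈ X, ρ b x ∈ X) ∧
      IrredOn ρ F X := by
  classical
  haveI : Nontrivial U := Submodule.nontrivial_iff_ne_bot.2 hU0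
  obtain ⟨hE, hnd', -⟩ := K.piece hFP hU0 hUE hUF hnd
  obtain ⟨s, hs, -⟩ := exists_conjEquiv hbF
  haveI : Fact q.Prime := ⟨C.hq⟩
  obtain ⟨j, hj⟩ := IsPGroup.iff_card.1 (C.hP.to_le hFP)
  obtain ⟨i, -, hi⟩ := (Nat.dvd_prime_pow C.hq).1
    (hj ▸ (scalarSub (CfsgLib.PGroup.subRep ρ U F hUF)).card_quotient_dvd_card)
  obtain ⟨Y, hY, hY0, hYu, hirr, -⟩ := exists_stable (CfsgLib.PGroup.subRep ρ U F hUF) hE hnd'
    (show ((Nat.card (_ ⧸ scalarSub (CfsgLib.PGroup.subRep ρ U F hUF)) : ℕ) : k) ≠ 0 by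
      rw [hi, Nat.cast_pow]; exact pow_ne_zero _ C.hqk)
    hN (σ := s) (u := (ρ b).restrict hUb) (restrict_pow_eq_one hUb hbN) (fun m => by
      refine LinearMap.ext fun x => Subtype.ext ?_
      show ρ b (ρ (m : H) (x : W)) = ρ (s m : H) (ρ b (x : W))
      rw [hs, ← rep_mul_apply, ← rep_mul_apply, inv_mul_cancel_right])
  refine ⟨Y.map U.subtype, Submodule.map_subtype_le _ _, fun e => hY0 ?_, ?_, ?_, ?_⟩
  · rwa [← Submodule.map_bot U.subtype,
      (Submodule.map_injective_of_injective U.subtype_injective).eq_iff] at e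
  · rintro m hm x ⟨y, hy, rfl⟩
    exact ⟨_, hY ⟨m, hm⟩ y hy, rfl⟩
  · rintro x ⟨y, hy, rfl⟩
    exact ⟨_, hYu y hy, rfl⟩
  · intro V hV hVF
    let V' : Submodule k Y := V.comap (U.subtype.comp Y.subtype)
    rcases hirr V' (fun m v hv => hVF m m.2 _ hv) with e | e
    · left
      rw [eq_bot_iff]
      intro v hv
      obtain ⟨y, hy, hyv⟩ := Submodule.mem_map.1 (hV hv)
      have : (⟨y, hy⟩ : Y) ∈ V' := by
        rw [Submodule.mem_comap]
        show (y : W) ∈ V
        rw [show (y : W) = v from hyv]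
        exact hv
      rw [e, Submodule.mem_bot] at this
      rw [Submodule.mem_bot, ← hyv, show y = 0 from congrArg Subtype.val this]
      rfl
    · right
      refine le_antisymm hV ?_
      rintro _ ⟨y, hy, rfl⟩
      exact (e.ge (Submodule.mem_top (x := (⟨y, hy⟩ : Y))) : _)

end CfsgLib.PGroup.TurullFix
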