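import Cfsg.Agent.Lib.PGroup.TurullFix.Frame

/-!
Fixed elements moving fixed vectors propagate up the tower.
-/

set_option autoImplicit false
set_option linter.style.haveILetI false
set_option linter.unusedSectionVars false

namespace CfsgLib.PGroup.TurullFix

open Subgroup
open scoped commutatorElement

universe u

variable {G : Type u} [Group G] [Finite G] {K : Subgroup G} [K.Normal] {N : ℕ} (T : Tower K N)

namespace Tower

/-- A deep fixed element of level `j` moves a fixed vector. -/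
def Good (a : G) (j : ℕ) : Prop :=
  ∃ g ∈ T.A j, (∃ i, g ∈ rser (Cf K a) i ∧ j ≤ i + 2) ∧
    ∃ v ∈ mspan (aComm ((T.A j).map (T.θ j)) (T.θ j a)), T.θ j a v = v ∧ T.θ j g v ≠ v

variable {a : G} {r : ℕ} (O : Op K a r)
include O

theorem not_good_fix {j : ℕ} (hj : j < N) (hng : ¬ T.Good a j) {g : G} (hg : g ∈ T.A j) {i : ℕ}
    (hgC : g ∈ rser (Cf K a) i) (hi : j ≤ i + 2) :
    letI := T.comm' hj; haveI := T.fact' hj
    ∀ f ∈ cspan (dual (T.p (j + 1)) (Sect (T.A (j + 1)) (T.M (j + 1))))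
        (aComm ((T.A j).map (T.θ j)) (T.θ j a)),
      dual (T.p (j + 1)) (Sect (T.A (j + 1)) (T.M (j + 1))) (T.θ j a) f = f →
      dual (T.p (j + 1)) (Sect (T.A (j + 1)) (T.M (j + 1))) (T.θ j g) f = f := by
  have haP : T.θ j a ∈ normalizer (((T.A j).map (T.θ j) : Subgroup _) : Set _) :=
    map_mem_normalizer _ (le_normalizer_of_normal (mem_top a))
  have hga : Commute (T.θ j g) (T.θ j a) := (mem_Cf.1 (rser_le _ i hgC)).2.map (T.θ j)
  refine T.dual_fix_level O hj (aComm_le haP) (Conf.mem_normalizer_aComm haP)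
    (aComm_normalizer (map_mem_normalizer _ (le_normalizer_of_normal (mem_top g))) hga) hga
    fun v hv hva => ?_
  by_contra hne
  exact hng ⟨g, hg, ⟨i, hgC, hi⟩, v, hv, hva, hne⟩

/-- Propagation of a visible element by one level. -/
theorem push {j : ℕ} (hj : j + 1 < N) (h : T.Good a j) : T.Good a (j + 1) := by
  obtain ⟨g, hg, ⟨i, hgC, hi⟩, v, hv, hva, hgv⟩ := h
  by_contra hng
  have hjN : j < N := (Nat.lt_succ_self j).trans hj
  haveI : Fact (T.p j).Prime := ⟨T.prime hjN.le⟩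
  obtain ⟨e, hep, heθ⟩ := exists_ppart (T.θ j) (T.prime hjN.le) g (T.θ_ppow hjN hg)
  set g' := g ^ e with hg'
  have hg'C : g' ∈ rser (Cf K a) i := pow_mem hgC e
  have hg'A : g' ∈ T.A j := pow_mem hg e
  have hg'a : Commute g' a := (mem_Cf.1 (rser_le _ i hg'C)).2
  have hcoA : ∀ {L : Subgroup G}, L ≤ K → (Nat.card (zpowers a)).Coprime (Nat.card L) := fun {L} hL => by
    rw [Nat.card_zpowers]; exact O.coprime.coprime_dvd_right (card_dvd_of_le hL)
  obtain ⟨S, hS, hgS, haS'⟩ := CfsgLib.Coprime.le_invariant_sylow (p := T.p j) (A := zpowers a)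
    (K := T.A j) le_normalizer_of_normal (hcoA (T.A_le hjN.le))
    (Or.inl (CfsgLib.Coprime.isSolvable_of_isMulCommutative inferInstance)) (U := zpowers g')
    (zpowers_le.2 hg'A) (by
      rintro ⟨z, hz⟩
      obtain ⟨k, rfl⟩ := mem_zpowers_iff.1 hz
      obtain ⟨n, hn⟩ := hep
      refine ⟨n, Subtype.ext ?_⟩
      show (g' ^ k) ^ T.p j ^ n = 1
      rw [← zpow_natCast, ← zpow_mul, mul_comm, zpow_mul, zpow_natCast, hn, one_zpow])
    (zpowers_le.2 (mem_normalizer_iff.2 fun z => by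
      have : ∀ {b : G}, Commute g' b → ∀ {z}, z ∈ zpowers g' → b * z * b⁻¹ ∈ zpowers g' := fun {b} hb {z} hz => by
        obtain ⟨k, rfl⟩ := mem_zpowers_iff.1 hz
        rw [← (hb.zpow_left k).eq, mul_inv_cancel_right]
        exact zpow_mem (mem_zpowers g') k
      refine ⟨this hg'a, fun hz => ?_⟩
      have := this hg'a.inv_right hz
      simpa [mul_assoc] using this))
  have haS : a ∈ normalizer (S : Set G) := haS' (mem_zpowers a)
  have hSA : S.map (T.θ j) = (T.A j).map (T.θ j) :=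
    map_sylow_eq _ hS (isPGroup_of_exp _ fun x hx => T.θ_ppow hjN hx)
  have haS'' : a ∈ normalizer (aComm S a : Set G) := Conf.mem_normalizer_aComm haS
  rw [← hSA, ← map_aComm] at hv
  obtain ⟨w, hwL, hwC, rfl⟩ := mspan_lift O.coprime (T.A_le hj.le) haS'' hv hva
  letI := T.comm' hj
  haveI := T.fact' hj
  haveI := T.finDual hj
  have Kst := T.stack O hj hS.1 hS.isPGroup haS
  set L := ⁅T.A (j + 1), aComm S a⁆ with hL
  have hQ : ⁅(T.A (j + 1)).map (T.θ (j + 1)), aComm (S.map (T.θ (j + 1))) (T.θ (j + 1) a)⁆ =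
      L.map (T.θ (j + 1)) := by rw [hL, map_commutator, map_aComm]
  have haL : a ∈ normalizer (L : Set G) := by
    rw [← CfsgLib.Coprime.conjBy_eq_self_iff, CfsgLib.Coprime.conjBy, map_commutator]
    exact congrArg₂ _ (CfsgLib.Coprime.conjBy_eq_self_iff.2 (le_normalizer_of_normal (mem_top a)))
      (CfsgLib.Coprime.conjBy_eq_self_iff.2 haS'')
  have hLA : L ≤ T.A (j + 1) := commutator_le_left _ _
  have hxa : T.θ (j + 1) a * T.θ (j + 1) g' * (T.θ (j + 1) a)⁻¹ = T.θ (j + 1) g' := by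
    rw [← (hg'a.map (T.θ (j + 1))).eq, mul_inv_cancel_right]
  have hwa : T.θ (j + 1) a * T.θ (j + 1) (w : G) * (T.θ (j + 1) a)⁻¹ = T.θ (j + 1) (w : G) := by
    rw [← ((mem_Cf.1 hwC).2.map (T.θ (j + 1))).eq, mul_inv_cancel_right]
  have h1 := Kst.comm_eq_one (x := T.θ (j + 1) g') (mem_map_of_mem _ (hgS (mem_zpowers g'))) hxa ?_
    (y := T.θ (j + 1) (w : G)) (hQ.ge (mem_map_of_mem _ hwL)) hwa
  · rw [← map_commutatorElement] at h1
    have hA : ⁅g', (w : G)⁆ ∈ T.A (j + 1) :=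
      mul_mem ((T.An (j + 1)).conj_mem _ w.2 g') (inv_mem w.2)
    refine hgv ?_
    rw [← heθ]
    exact (act_eq_iff _ _ g' w).2 (T.B_le (j + 1) hj ((T.θ_eq_one hj hA).1 h1))
  intro y hy hya f hf hfa
  obtain ⟨w', hw', hw'C, rfl⟩ := T.lift_fixed O hj hLA haL (hQ.le hy) (mul_inv_eq_iff_eq_mul.1 hya).symm
  have hw'K : w' ∈ T.A (j + 1) ⊓ Cf K a := mem_inf.2 ⟨hLA hw', hw'C⟩
  have hd := depth (D := rser (Cf K a) i) (K := T.A (j + 1) ⊓ Cf K a) (B := T.B (j + 1)) (T.prime hj.le)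
    hg'C (coprime_of_ppow (T.prime hjN.le) (T.prime hj.le) (T.p_ne j hjN) hep)
    (CfsgLib.Coprime.inf_le_normalizer le_normalizer_of_normal
      (zpowers_le.2 (le_normalizer (rser_le _ i hg'C))) (mem_zpowers g'))
    (fun k hk => rser_normalizer (le_normalizer (mem_inf.1 hk).2) i) le_normalizer_of_normal
    (le_normalizer_of_normal (mem_top g'))
    (fun k hk => T.pgroup (j + 1) hj k (mem_inf.1 hk).1) hw'K
  obtain ⟨g₁, hg₁, b, hb, hgb⟩ := mem_sup_of_normal_right.1 hd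
  have he : ⁅T.θ (j + 1) g', T.θ (j + 1) w'⁆ = T.θ (j + 1) g₁ := by
    rw [← map_commutatorElement, ← hgb, map_mul, T.θ_of_B hj hb, mul_one]
  rw [he]
  exact T.not_good_fix O hj hng (mem_inf.1 (mem_inf.1 hg₁).1).1 (i := i + 1) (mem_inf.1 hg₁).2
    (by omega) f hf hfa

/-- Nothing visible below the top when the fixed series is short. -/
theorem not_good_top {j n : ℕ} (hj : j + 1 = N) (hn : n + 2 ≤ N) (hC : rser (Cf K a) n = ⊥) :
    ¬ T.Good a j := by
  rintro ⟨g, hg, ⟨i, hgC, hi⟩, v, hv, hva, hgv⟩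
  have hjN : j < N := by omega
  obtain ⟨e, hep, heθ⟩ := exists_ppart (T.θ j) (T.prime hjN.le) g (T.θ_ppow hjN hg)
  set g' := g ^ e with hg'
  have hg'C : g' ∈ rser (Cf K a) i := pow_mem hgC e
  rw [← map_aComm] at hv
  obtain ⟨w, hwL, hwC, rfl⟩ := mspan_lift O.coprime (T.A_le hjN)
    (Conf.mem_normalizer_aComm (le_normalizer_of_normal (mem_top a))) hv hva
  have hd := depth (D := rser (Cf K a) i) (K := T.A (j + 1) ⊓ Cf K a) (B := T.M (j + 1)) (T.prime hjN)
    hg'C (coprime_of_ppow (T.prime hjN.le) (T.prime hjN) (T.p_ne j hjN) hep)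
    (CfsgLib.Coprime.inf_le_normalizer le_normalizer_of_normal
      (zpowers_le.2 (le_normalizer (rser_le _ i hg'C))) (mem_zpowers g'))
    (fun k hk => rser_normalizer (le_normalizer (mem_inf.1 hk).2) i) le_normalizer_of_normal
    (le_normalizer_of_normal (mem_top g'))
    (fun k hk => ⟨1, by rw [pow_one]; exact (T.step (j + 1) hjN).pow k (mem_inf.1 hk).1⟩)
    (mem_inf.2 ⟨w.2, hwC⟩)
  have hbot : rser (Cf K a) (i + 1) = ⊥ := le_bot_iff.1 ((rser_antitone _ (by omega)).trans hC.le)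
  rw [← rser_succ, hbot, inf_bot_eq, bot_sup_eq] at hd
  refine hgv ?_
  rw [← heθ]
  exact (act_eq_iff _ _ g' w).2 hd

end Tower

end CfsgLib.PGroup.TurullFix
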