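import Cfsg.Agent.Lib.PGroup.TurullFix.Comp

/-!
The rank of `a - 1` on a component of a group inverted into itself by `a`.
-/

set_option autoImplicit false
set_option linter.style.haveILetI false
set_option linter.unusedSectionVars false

namespace CfsgLib.PGroup.TurullFix

open CfsgLib.PGroup
open Subgroup
open scoped commutatorElement BigOperators

universe u v w

variable {H : Type u} [Group H] [Finite H] {k : Type v} [Field k] [IsAlgClosed k] {W : Type w}
  [AddCommGroup W] [Module k W] [FiniteDimensional k W] {ρ : H →* Module.End k W}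
  {a : H} {r : ℕ} {P P0 : Subgroup H} {q : ℕ}

/-- A fixed component of odd order forces rank at least `r`. -/
theorem IsComp.rank_fixed (C : Conf ρ a r P P0 q) {φ : H → k} {R : Subgroup H} (K : IsComp C φ R)
    (hPM : P ≤ aComm P a) (hq2 : q ≠ 2) (hr3 : 3 ≤ r) (hne : ¬ P ≤ R) :
    r ≤ Module.finrank k (LinearMap.range (ρ a - 1)) := by
  classical
  by_contra hrank
  rw [not_le] at hrank
  haveI : Fact q.Prime := ⟨C.hq⟩
  obtain ⟨w, hw0, hw⟩ := K.hne
  set X₀ := eigSub ρ R φ
  have hX0 : X₀ ≠ ⊥ := fun e => hw0 (by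
    have : w ∈ X₀ := hw
    rwa [e, Submodule.mem_bot] at this)
  have hXM : ∀ m ∈ aComm P a, ∀ x ∈ X₀, ρ m x ∈ X₀ := fun m hm x hx =>
    K.smul_invariant C hx (aComm_le C.haP hm)
  obtain ⟨hE, hnd', hsc⟩ := K.sub_rep C hX0 (fun x hx => hx) hXM
  obtain ⟨s, u, -, hsr, hur, hu', hu, hfpf⟩ := K.operator C hX0 (fun x hx => hx) hXM
    fun x hx => K.a_invariant C hx
  set ρ' := subRep ρ X₀ (aComm P a) hXM
  haveI : Nontrivial X₀ := Submodule.nontrivial_iff_ne_bot.2 hX0
  obtain ⟨j, hj⟩ := IsPGroup.iff_card.1 (C.hP.to_le (aComm_le C.haP))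
  obtain ⟨i, -, hi⟩ := (Nat.dvd_prime_pow C.hq).1
    (hj ▸ (scalarSub ρ').card_quotient_dvd_card)
  have hm : (Nat.card (ScalarQuot ρ') : k) ≠ 0 := by
    show ((Nat.card (_ ⧸ scalarSub ρ') : ℕ) : k) ≠ 0
    rw [hi, Nat.cast_pow]; exact pow_ne_zero _ C.hqk
  obtain ⟨X, hX, hXne, hXu, hirr, hscX⟩ := exists_stable ρ' hE hnd' hm C.hr.one_le hur hu
  haveI : Nontrivial X := Submodule.nontrivial_iff_ne_bot.2 hXne
  haveI : NeZero r := ⟨C.hr.ne_zero⟩
  set ρX := restrictRep ρ' X hX with hρX
  set uX : Module.End k X := u.restrict hXu with huXdef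
  have huXr : uX ^ r = 1 := by
    have h : ∀ n (x : X), ((((uX) ^ n) x : X) : X₀) = (u ^ n) (x : X₀) := by
      intro n
      induction n with
      | zero => intro x; rfl
      | succ n ih => intro x; rw [pow_succ', pow_succ', Module.End.mul_apply, Module.End.mul_apply, ← ih x]; rfl
    exact LinearMap.ext fun x => Subtype.ext (by rw [h, hur]; rfl)
  have huX : ∀ m, uX * ρX m = ρX (s m) * uX := fun m => LinearMap.ext fun x => Subtype.ext
    (LinearMap.congr_fun (hu m) (x : X₀))
  have hEX : ClassTwo ρX := fun x y => hscX ▸ hE x y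
  have hmX : (Nat.card (ScalarQuot ρX) : k) ≠ 0 := by
    show ((Nat.card (_ ⧸ scalarSub ρX) : ℕ) : k) ≠ 0
    rw [hscX]; exact hm
  have hσc := fix_scalar ρX C.hr.one_le huXr huX
  have hσm : ∀ d ∈ scalarSub ρX, s d ∈ scalarSub ρX := fun d ⟨e, he⟩ => ⟨e, hσc d e he⟩
  have hfpfX : ∀ x, x⁻¹ * s x ∈ scalarSub ρX → x ∈ scalarSub ρX := by rw [hscX]; exact hfpf
  obtain ⟨hC, hmod⟩ := commute_le ρX hirr hEX hmX C.hr.one_le C.hrk s hsr hσc uX huX huXr
    fun i hi hir x hx => free_of_prime ρX C.hr hsr hσm hfpfX i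
      (fun h => Nat.not_lt.2 (Nat.le_of_dvd hi h) hir) x hx
  have hne' : scalarSub ρX ≠ ⊤ := by
    rw [hscX, hsc]
    intro h
    have h' := subgroupOf_eq_top.1 h
    exact hne (hPM.trans h')
  set n := Module.finrank k X with hn
  have hn2 : Nat.card (ScalarQuot ρX) = n * n := card_scalarQuot ρX hirr hEX hmX
  have hnodd : Odd n := by
    by_contra hev
    rw [Nat.not_odd_iff_even] at hev
    have h2 : 2 ∣ q ^ i := by
      rw [← hi]
      show 2 ∣ Nat.card (ScalarQuot ρ')
      rw [show Nat.card (ScalarQuot ρ') = Nat.card (ScalarQuot ρX) by unfold ScalarQuot; rw [hscX], hn2]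
      exact hev.two_dvd.mul_right n
    exact hq2 ((Nat.prime_dvd_prime_iff_eq Nat.prime_two C.hq).1 (Nat.prime_two.dvd_of_dvd_pow h2)).symm
  have hn1 : n ≠ 1 := fun h => hne' (Subgroup.index_eq_one.1 (by
    rw [Subgroup.index_eq_card]; exact hn2.trans (by rw [h])))
  have hmod' := hmod hne'
  rw [hn2] at hmod'
  have hbig : 2 * r - 1 ≤ n := by
    have hd : r ∣ (n + 1) * (n - 1) := by
      rw [← Nat.mul_self_sub_mul_self_eq n 1, mul_one]
      exact (Nat.modEq_iff_dvd' (Nat.one_le_iff_ne_zero.2 (by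
        intro h; rw [mul_self_eq_zero] at h; exact (Module.finrank_pos (R := k) (M := X)).ne' h))).1 hmod'.symm
    obtain ⟨n', hn'⟩ := hnodd
    obtain ⟨r', hr''⟩ := C.hr.odd_of_ne_two (by omega)
    rcases C.hr.dvd_mul.1 hd with ⟨l, hl''⟩ | ⟨l, hl''⟩
    · rcases l with _ | _ | l
      · omega
      · omega
      · have : r * 2 ≤ r * (l + 1 + 1) := Nat.mul_le_mul_left r (by omega)
        omega
    · rcases l with _ | _ | l
      · omega
      · omega
      · have : r * 2 ≤ r * (l + 1 + 1) := Nat.mul_le_mul_left r (by omega)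
        omega
  let dd : rootsOfUnity r k → ℕ := fun ζ =>
    Module.finrank k (Module.End.eigenspace uX ((ζ : kˣ) : k))
  have hsum : n = ∑ ζ, dd ζ := finrank_eigen_sum huXr C.hrk
  have hsq := finrank_le_comm huXr C.hrk
  obtain ⟨-, hspread⟩ := var_lower dd (by
    rw [card_roots C.hrk, ← hsum]
    intro hdvd
    have h1 := hmod'
    unfold Nat.ModEq at h1
    rw [Nat.mod_eq_zero_of_dvd (hdvd.mul_right n), Nat.one_mod_eq_one.2 C.hr.ne_one] at h1
    exact zero_ne_one h1)
  rw [card_roots C.hrk] at hspread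
  have hspr := hspread (by
    rw [← hsum, sq]
    have hC' := Nat.mul_le_mul_left r hsq
    rw [hn2] at hC
    exact le_trans (Nat.add_le_add_right hC' 1) hC)
  -- the rank of `u - 1` on `X`
  have hrk2 : n < r + dd 1 := by
    have h2 := LinearMap.finrank_range_add_finrank_ker (uX - 1)
    have h3 : Module.finrank k (LinearMap.range (uX - 1)) < r := by
      refine lt_of_le_of_lt ?_ hrank
      let ι : X →ₗ[k] W := X₀.subtype.comp X.subtype
      have hι : Function.Injective ι := fun a b h => Subtype.ext (Subtype.ext h)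
      rw [(Submodule.equivMapOfInjective ι hι (LinearMap.range (uX - 1))).finrank_eq]
      refine Submodule.finrank_mono ?_
      rintro _ ⟨_, ⟨x, rfl⟩, rfl⟩
      refine ⟨ι x, ?_⟩
      show ρ a (ι x) - ι x = ι (uX x - x)
      rw [map_sub, show ι (uX x) = ρ a (ι x) from hu' (x : X₀)]
    have h4 : Module.finrank k (LinearMap.ker (uX - 1)) = dd 1 := by
      rw [show LinearMap.ker (uX - 1) = Module.End.eigenspace uX (((1 : rootsOfUnity r k) : kˣ) : k) from ?_]
      ext x
      rw [LinearMap.mem_ker, Module.End.mem_eigenspace_iff, LinearMap.sub_apply, Module.End.one_apply,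
        sub_eq_zero]
      simp
    omega
  have hlow : (r - 1) * (dd 1 - 1) + dd 1 ≤ n := by
    rw [hsum, ← Finset.add_sum_erase _ _ (Finset.mem_univ (1 : rootsOfUnity r k)), add_comm]
    refine Nat.add_le_add_left ?_ _
    refine le_trans (le_of_eq ?_) (Finset.card_nsmul_le_sum _ _ (dd 1 - 1) fun ζ _ => by
      have := hspr 1 ζ; omega)
    rw [Finset.card_erase_of_mem (Finset.mem_univ _), Finset.card_univ, card_roots C.hrk, smul_eq_mul]
  rcases Nat.lt_or_ge (dd 1) 2 with hd | hd
  · omega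
  · obtain ⟨e, he⟩ : ∃ e, dd 1 = e + 2 := ⟨dd 1 - 2, by omega⟩
    rw [he, show e + 2 - 1 = e + 1 by omega] at hlow
    rw [he] at hrk2
    obtain ⟨r', hr''⟩ : ∃ r', r = r' + 1 := ⟨r - 1, by omega⟩
    subst hr''
    rw [Nat.add_sub_cancel] at hlow
    rcases Nat.eq_zero_or_pos e with rfl | he0
    · omega
    · nlinarith

/-- A moved component with two independent vectors forces rank at least `r`. -/
theorem rank_moved (C : Conf ρ a r P P0 q) {Y : Subgroup H} (hYP : Y ≤ P)
    (haY : a ∈ normalizer (Y : Set H)) {φ : H → k}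
    (hmov : ∃ y ∈ Y, φ (a⁻¹ * y * a) ≠ φ y) {w w' : W} (hw : Eig ρ Y φ w) (hw' : Eig ρ Y φ w')
    (hw0 : w ≠ 0) (hgR : ¬ ∃ e : k, w' = e • w) :
    r ≤ Module.finrank k (LinearMap.range (ρ a - 1)) := by
  classical
  by_contra hrank
  rw [not_le] at hrank
  have hr2 := C.hr.two_le
  let v : Fin 2 → W := ![w, w']
  have hvE : ∀ j, Eig ρ Y φ (v j) := by
    intro j; fin_cases j
    · exact hw
    · exact hw'
  have hlin : ∀ α β : k, α • w + β • w' = 0 → α = 0 ∧ β = 0 := by
    intro α β h
    by_cases hβ : β = 0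
    · rw [hβ, zero_smul, add_zero] at h
      exact ⟨(smul_eq_zero.1 h).resolve_right hw0, hβ⟩
    · refine absurd ⟨-(β⁻¹ * α), ?_⟩ hgR
      rw [← inv_smul_smul₀ hβ (w'), eq_neg_of_add_eq_zero_right h, neg_smul, smul_neg, smul_smul]
  let L : (Fin (r - 1) × Fin 2 → k) →ₗ[k] LinearMap.range (ρ a - 1) :=
    { toFun := fun x => ⟨∑ ij, x ij • (ρ (a ^ (ij.1.val + 1)) (v ij.2) - v ij.2), by
        refine sum_mem fun ij _ => Submodule.smul_mem _ _ ?_
        generalize ij.1.val + 1 = n
        induction n with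
        | zero => simp
        | succ n ih =>
          rw [show ρ (a ^ (n + 1)) (v ij.2) - v ij.2 =
            (ρ a (ρ (a ^ n) (v ij.2)) - ρ (a ^ n) (v ij.2)) + (ρ (a ^ n) (v ij.2) - v ij.2) by
              rw [pow_succ', rep_mul_apply]; abel]
          exact add_mem ⟨ρ (a ^ n) (v ij.2), rfl⟩ ih⟩
      map_add' := fun x y => Subtype.ext (by simp [add_smul, Finset.sum_add_distrib])
      map_smul' := fun e x => Subtype.ext (by simp [Finset.smul_sum, smul_smul]) }
  have hLinj : Function.Injective L := by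
    refine (injective_iff_map_eq_zero L).2 fun x hx => ?_
    have hx' : ∑ ij, x ij • (ρ (a ^ (ij.1.val + 1)) (v ij.2) - v ij.2) = 0 := congrArg Subtype.val hx
    funext ij
    obtain ⟨i, j⟩ := ij
    set n := i.val + 1 with hn
    have hnr : n < r := by have := i.isLt; omega
    -- project to the translate
    set φn : H → k := fun y => φ ((a ^ n)⁻¹ * y * a ^ n) with hφn
    have hvn : ∀ l, Eig ρ Y φn (ρ (a ^ n) (v l)) := fun l => (hvE l).map (pow_mem haY n)
    have hv0 : ρ (a ^ n) w ≠ 0 := fun h => hw0 (rep_injective ρ _ (h.trans (map_zero _).symm))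
    have hRk : (Nat.card Y : k) ≠ 0 := C.card_ne_zero hYP
    have hp := congrArg (proj ρ Y φn) hx'
    simp only [map_sum, map_smul, map_sub, map_zero] at hp
    have hother : ∀ l, proj ρ Y φn (v l) = 0 := fun l => by
      refine proj_ne (hvn 0) hv0 (hvE l) ?_
      obtain ⟨y, hy, hne⟩ := not_fixed_pow C.hr C.har haY hmov (i := n) (by omega) hnr
      exact ⟨y, hy, hne.symm⟩
    simp only [hother, sub_zero] at hp
    rw [Fintype.sum_prod_type, Finset.sum_eq_single i] at hp
    · rw [Fin.sum_univ_two, proj_self (hvn 0) hRk, proj_self (hvn 1) hRk, ← map_smul, ← map_smul, ← map_add]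
        at hp
      obtain ⟨h0, h1⟩ := hlin _ _ (rep_injective ρ _ (hp.trans (map_zero _).symm))
      fin_cases j
      · exact h0
      · exact h1
    · intro i' _ hne
      refine Finset.sum_eq_zero fun l _ => ?_
      rw [proj_ne (hvn 0) hv0 ((hvE l).map (pow_mem haY (i'.val + 1))) ?_, smul_zero]
      by_contra hc'
      push Not at hc'
      have hne' : i'.val + 1 ≠ n := fun h => hne (Fin.ext (by omega))
      have hi' : i'.val + 1 < r := by have := i'.isLt; omega
      have key : ∀ p q : ℕ, p < q → q < r → (∀ y ∈ Y, φ ((a ^ p)⁻¹ * y * a ^ p) = φ ((a ^ q)⁻¹ * y * a ^ q)) →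
          False := by
        intro p q hpq hqr h
        obtain ⟨y, hy, hne⟩ := not_fixed_pow C.hr C.har haY hmov (i := q - p) (by omega) (by omega)
        apply hne
        have := h _ ((mem_normalizer_iff.1 (pow_mem haY p) y).1 hy)
        rw [show (a ^ p)⁻¹ * (a ^ p * y * (a ^ p)⁻¹) * a ^ p = y by group,
          show a ^ q = a ^ p * a ^ (q - p) by rw [← pow_add, Nat.add_sub_cancel' hpq.le]] at this
        rw [this]
        congr 1
        group
      rcases Nat.lt_or_gt_of_ne hne' with h | h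
      · exact key _ _ h hnr fun y hy => (hc' y hy).symm
      · exact key _ _ h hi' hc'
    · exact fun h => absurd (Finset.mem_univ i) h
  have h1 := LinearMap.finrank_le_finrank_of_injective hLinj
  rw [Module.finrank_fintype_fun_eq_card, Fintype.card_prod, Fintype.card_fin, Fintype.card_fin] at h1
  omega

end CfsgLib.PGroup.TurullFix
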