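import Cfsg.Agent.Lib.PGroup.TurullFix.Bad

/-!
An element moving a fixed vector of `⁅P, ⁅T, a⁆⁆` produces one moving a fixed vector of `⁅V, ⁅P, a⁆⁆`.
-/

set_option autoImplicit false
set_option linter.style.haveILetI false
set_option linter.unusedSectionVars false

namespace CfsgLib.PGroup.TurullFix

open CfsgLib.PGroup
open Subgroup
open scoped commutatorElement BigOperators

universe u v w

variable {H : Type u} [Group H] {k : Type v} [Field k]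

/-- The elements normalizing `P` and fixing `φ` on it. -/
def stab [Finite H] (P : Subgroup H) (φ : H → k) : Subgroup H where
  carrier := {s | s ∈ normalizer (P : Set H) ∧ ∀ p ∈ P, φ (s * p * s⁻¹) = φ p}
  one_mem' := ⟨one_mem _, fun p _ => by rw [one_mul, inv_one, mul_one]⟩
  mul_mem' := fun {x y} hx hy => ⟨mul_mem hx.1 hy.1, fun p hp => by
    rw [show x * y * p * (x * y)⁻¹ = x * (y * p * y⁻¹) * x⁻¹ by group,
      hx.2 _ ((mem_normalizer_iff.1 hy.1 p).1 hp), hy.2 p hp]⟩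
  inv_mem' := fun {x} hx => ⟨inv_mem hx.1, fun p hp => by
    have hp' : x⁻¹ * p * x ∈ P := (mem_normalizer_iff''.1 hx.1 p).1 hp
    rw [inv_inv, ← hx.2 _ hp', show x * (x⁻¹ * p * x) * x⁻¹ = p by group]⟩

theorem mem_stab [Finite H] {P : Subgroup H} {φ : H → k} {s : H} :
    s ∈ stab P φ ↔ s ∈ normalizer (P : Set H) ∧ ∀ p ∈ P, φ (s * p * s⁻¹) = φ p :=
  Iff.rfl

/-- A translate is fixed exactly when a commutator fixes. -/
theorem moved_of_not_mem [Finite H] {P : Subgroup H} {φ : H → k} {a s : H} (ha : a ∈ normalizer (P : Set H))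
    (hfix : ∀ p ∈ P, φ (a * p * a⁻¹) = φ p) (hs : s ∈ normalizer (P : Set H))
    (hc : s⁻¹ * (a * s * a⁻¹) ∉ stab P φ) :
    ∃ z ∈ P, φ (s⁻¹ * (a⁻¹ * z * a) * s) ≠ φ (s⁻¹ * z * s) := by
  by_contra hne
  push Not at hne
  refine hc (mem_stab.2 ⟨mul_mem (inv_mem hs) (mul_mem (mul_mem ha hs) (inv_mem ha)), fun q hq => ?_⟩)
  -- `q` is a translate
  have h1 : a⁻¹ * q * a ∈ P := (mem_normalizer_iff''.1 ha q).1 hq
  have hz : a * (s * (a⁻¹ * q * a) * s⁻¹) * a⁻¹ ∈ P :=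
    (mem_normalizer_iff.1 ha _).1 ((mem_normalizer_iff.1 hs _).1 h1)
  have e := hne _ hz
  rw [show s⁻¹ * (a⁻¹ * (a * (s * (a⁻¹ * q * a) * s⁻¹) * a⁻¹) * a) * s = a⁻¹ * q * a by group,
    show s⁻¹ * (a * (s * (a⁻¹ * q * a) * s⁻¹) * a⁻¹) * s =
      s⁻¹ * (a * s * a⁻¹) * q * (s⁻¹ * (a * s * a⁻¹))⁻¹ by group] at e
  rw [← e]
  have e2 := hfix _ h1
  rw [show a * (a⁻¹ * q * a) * a⁻¹ = q by group] at e2
  exact e2.symm

theorem kpow_mem [Finite H] {K : Subgroup H} {a s : H} {i : ℕ} (haK : a ∈ normalizer (K : Set H))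
    (h : s⁻¹ * (a ^ i * s * (a ^ i)⁻¹) ∈ K) (j : ℕ) : s⁻¹ * (a ^ (i * j) * s * (a ^ (i * j))⁻¹) ∈ K := by
  induction j with
  | zero => simp
  | succ j ih =>
    rw [Nat.mul_succ, show s⁻¹ * (a ^ (i * j + i) * s * (a ^ (i * j + i))⁻¹) =
      s⁻¹ * (a ^ i * s * (a ^ i)⁻¹) * (a ^ i * (s⁻¹ * (a ^ (i * j) * s * (a ^ (i * j))⁻¹)) * (a ^ i)⁻¹) by
        rw [add_comm, pow_add]; group]
    exact mul_mem h ((mem_normalizer_iff.1 (pow_mem haK i) _).1 ih)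

/-- Translates outside a fixed-point-free quotient move. -/
theorem not_mem_translates [Finite H] {S K N : Subgroup H} (hKS : K ≤ S) (hab : ⁅S, S⁆ ≤ K) {a : H}
    {r : ℕ} (hr : r.Prime) (har : a ^ r = 1) (ha : a ∈ normalizer (S : Set H))
    (haK : a ∈ normalizer (K : Set H)) (hcop : r.Coprime (Nat.card S))
    (hnorm : ∀ s ∈ S, pnorm a r s ∈ K) (hN : S ⊓ N ≤ K) {s : H} (hs : s ∈ S) (hsK : s ∉ K) :
    s⁻¹ * (a * s * a⁻¹) ∉ N ∧ ∀ i, 0 < i → i < r →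
      (s⁻¹ * (a ^ i * s * (a ^ i)⁻¹)) * (a * (s⁻¹ * (a ^ i * s * (a ^ i)⁻¹))⁻¹ * a⁻¹) ∉ N := by
  have key : ∀ x ∈ S, x ∉ K → x⁻¹ * (a * x * a⁻¹) ∉ N := fun x hx hxK h =>
    hxK (mem_of_pnorm hKS hab ha haK hcop hx (hnorm x hx)
      (hN (mem_inf.2 ⟨mul_mem (inv_mem hx) ((mem_normalizer_iff.1 ha x).1 hx), h⟩)))
  refine ⟨key s hs hsK, fun i hi hir hm =>
    key _ (inv_mem (mul_mem (inv_mem hs) (conj_pow_mem ha hs i))) (fun h' => ?_) (by rwa [inv_inv])⟩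
  have h := inv_mem h'
  rw [inv_inv] at h
  obtain ⟨j, hj⟩ := Nat.exists_mul_mod_eq_one_of_coprime
    ((Nat.coprime_of_lt_prime hi.ne' hir hr).symm) hr.one_lt
  have h2 := kpow_mem haK h j
  rw [← Nat.mod_add_div (i * j) r, hj.2, pow_add, pow_one, pow_mul, har, one_pow, mul_one] at h2
  exact hsK (mem_of_pnorm hKS hab ha haK hcop hs (hnorm s hs) h2)

variable {W : Type w} [AddCommGroup W] [Module k W] {ρ : H →* Module.End k W}
  {a : H} {r : ℕ} {P P0 : Subgroup H} {q : ℕ}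

/-- A group of operators on a configuration. -/
structure Stack (C : Conf ρ a r P P0 q) (T T0 : Subgroup H) (t : ℕ) : Prop where
  ht : t.Prime
  htq : t ≠ q
  htr : t ≠ r
  hT : IsPGroup t T
  hT0 : T0 ≤ T
  hab : ⁅T, T⁆ ≤ T0
  haT : a ∈ normalizer (T : Set H)
  haT0 : a ∈ normalizer (T0 : Set H)
  hTP : T ≤ normalizer (P : Set H)
  hTc : ∀ τ ∈ T, ∀ z ∈ P0, Commute τ z
  hT0c : ∀ τ ∈ T0, ∀ τ' ∈ T, ∀ x ∈ P, Commute ⁅τ, τ'⁆ x
  hpow : ∀ x ∈ P, x ^ q ∈ P0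

section Steps

variable [Finite H] {C : Conf ρ a r P P0 q} {T T0 : Subgroup H} {t : ℕ} (K : Stack C T T0 t)
include K

theorem Stack.coprime {Y : Subgroup H} (hY : Y ≤ T) : r.Coprime (Nat.card Y) := by
  haveI : Fact t.Prime := ⟨K.ht⟩
  obtain ⟨n, hn⟩ := IsPGroup.iff_card.1 (K.hT.to_le hY)
  rw [hn]
  exact Nat.Coprime.pow_right n ((Nat.coprime_primes C.hr K.ht).2 K.htr.symm)

theorem Stack.coprime_P {Y : Subgroup H} (hY : Y ≤ T) {Q : Subgroup H} (hQ : Q ≤ P) :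
    (Nat.card Y).Coprime (Nat.card Q) := by
  haveI : Fact t.Prime := ⟨K.ht⟩
  haveI : Fact q.Prime := ⟨C.hq⟩
  obtain ⟨n, hn⟩ := IsPGroup.iff_card.1 (K.hT.to_le hY)
  obtain ⟨m, hm⟩ := IsPGroup.iff_card.1 (C.hP.to_le hQ)
  rw [hn, hm]
  exact Nat.Coprime.pow n m ((Nat.coprime_primes K.ht C.hq).2 K.htq)

theorem Stack.aComm_idem {Y : Subgroup H} (hY : Y ≤ T) (haY : a ∈ normalizer (Y : Set H)) :
    aComm Y a ≤ aComm (aComm Y a) a := by
  rw [aComm_eq (isOfFinOrder_of_finite a) haY,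
    aComm_eq (isOfFinOrder_of_finite a) (aComm_eq (isOfFinOrder_of_finite a) haY ▸
      Conf.mem_normalizer_aComm haY),
    CfsgLib.Coprime.commutator_commutator_eq (zpowers_le.2 haY) ?_
      (Or.inl (CfsgLib.Coprime.isSolvable_of_isMulCommutative inferInstance))]
  rw [Nat.card_zpowers]
  exact (K.coprime hY).coprime_dvd_left (orderOf_dvd_of_pow_eq_one C.har)

/-- The group `⁅P, S⁆` for `S ≤ T`, its normalizers and its coprime properties. -/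
theorem Stack.comm_facts {S : Subgroup H} (hS : S ≤ T) :
    ⁅P, S⁆ ≤ P ∧ S ≤ normalizer ((⁅P, S⁆ : Subgroup H) : Set H) ∧ ⁅P, S⁆ ≤ ⁅⁅P, S⁆, S⁆ ∧
      ∀ g, g ∈ normalizer (P : Set H) → g ∈ normalizer (S : Set H) →
        g ∈ normalizer ((⁅P, S⁆ : Subgroup H) : Set H) := by
  have hSP : S ≤ normalizer (P : Set H) := hS.trans K.hTP
  have hle : ⁅P, S⁆ ≤ P := by
    rw [commutator_le]
    intro g hg s hs
    rw [commutatorElement_def, show g * s * g⁻¹ * s⁻¹ = g * (s * g⁻¹ * s⁻¹) by group]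
    exact mul_mem hg ((mem_normalizer_iff.1 (hSP hs) _).1 (inv_mem hg))
  have hnorm : ∀ g, g ∈ normalizer (P : Set H) → g ∈ normalizer (S : Set H) →
      g ∈ normalizer ((⁅P, S⁆ : Subgroup H) : Set H) := by
    intro g hgP hgS
    rw [← CfsgLib.Coprime.conjBy_eq_self_iff, CfsgLib.Coprime.conjBy, map_commutator]
    exact congrArg₂ _ (CfsgLib.Coprime.conjBy_eq_self_iff.2 hgP) (CfsgLib.Coprime.conjBy_eq_self_iff.2 hgS)
  refine ⟨hle, fun s hs => hnorm s (hSP hs) (le_normalizer hs), le_of_eq ?_, hnorm⟩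
  haveI : Fact t.Prime := ⟨K.ht⟩
  haveI : Group.IsNilpotent S := (K.hT.to_le hS).isNilpotent
  exact (CfsgLib.Coprime.commutator_commutator_eq hSP (K.coprime_P hS le_rfl)
    (Or.inl (CfsgLib.Coprime.isSolvable_of_isNilpotent inferInstance))).symm

theorem Stack.kill {S : Subgroup H} (hS : S ≤ T) {φ : H → k} (hφ : HomOn ⁅P, S⁆ φ) {z : H}
    (hz : z ∈ ⁅P, S⁆ ⊓ P0) : φ z = 1 := by
  obtain ⟨hle, hSn, hidem, -⟩ := K.comm_facts hS
  exact eq_one_of_centralized hφ hSn hidem (K.coprime_P hS hle) (mem_inf.1 hz).1 fun s hs => by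
    rw [(K.hTc s (hS hs) z (mem_inf.1 hz).2).eq, mul_inv_cancel_right]

omit K in
include C in
/-- A fixed element fixing the fixed vectors kills moved eigencharacters. -/
theorem moved_one {Y : Subgroup H} (hYP : Y ≤ P) (haY : a ∈ normalizer (Y : Set H)) {y : H} (hy : y ∈ Y)
    (hya : a * y * a⁻¹ = y) (hfix : ∀ w ∈ cspan ρ (aComm P a), ρ a w = w → ρ y w = w) {φ : H → k}
    {w : W} (hw : Eig ρ Y φ w) (hw0 : w ≠ 0) (hmov : ∃ z ∈ Y, φ (a⁻¹ * z * a) ≠ φ z) : φ y = 1 := by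
  have h : ρ y w = w := by
    refine moved_fix (C.card_ne_zero hYP) C.hr C.har haY (Conf.mem_normalizer_aComm C.haP)
      (mul_inv_eq_iff_eq_mul.1 hya).symm hfix hw ?_ hmov ?_
    · rw [hw y hy]; exact (eigSub ρ Y φ).smul_mem _ hw
    obtain ⟨z, hz, hne⟩ := hmov
    set z' := a⁻¹ * z * a with hz'
    have hz'Y : z' ∈ Y := (mem_normalizer_iff''.1 haY z).1 hz
    refine mem_cspan_of_scalar ρ (g := z'⁻¹ * (a * z' * a⁻¹)) (aComm_mem (hYP hz'Y))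
      (c := φ z'⁻¹ * φ z) (fun e => hne ?_) ?_
    · have := (hw.homOn hw0).map_inv_mul hz'Y
      rw [← e] at this
      exact mul_left_cancel₀ (hw.ne_zero hw0 (inv_mem hz'Y)) this
    · rw [show a * z' * a⁻¹ = z by rw [hz']; group, ← (hw.homOn hw0).map_mul _ (inv_mem hz'Y) _ hz]
      exact hw _ (mul_mem (inv_mem hz'Y) hz)
  rw [hw y hy] at h
  exact smul_left_injective k hw0 (h.trans (one_smul k w).symm)

variable [IsAlgClosed k] [FiniteDimensional k W]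

/-- A nontrivial element fixing the fixed vectors is seen by a fixed eigencharacter. -/
theorem Stack.exists_bad {S : Subgroup H} (hS : S ≤ aComm T a) {y : H} (hy : y ∈ ⁅P, S⁆)
    (hya : a * y * a⁻¹ = y) (hfix : ∀ w ∈ cspan ρ (aComm P a), ρ a w = w → ρ y w = w) (hy1 : y ≠ 1) :
    ∃ (φ : H → k) (w : W), w ≠ 0 ∧ Eig ρ ⁅P, S⁆ φ w ∧ (∀ p ∈ ⁅P, S⁆, φ (a * p * a⁻¹) = φ p) ∧
      φ y ≠ 1 := by
  have hyP : y ∈ P := (K.comm_facts (hS.trans (aComm_le K.haT))).1 hy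
  obtain ⟨φ, R, w, hK, hw, hw0, hyw, hexc⟩ := exists_component C hyP hya hfix hy1
  have hR : ⁅P, S⁆ ≤ R := (commutator_mono le_rfl hS).trans
    (hK.comm_le C K.ht K.htq K.htr T T0 K.hT K.hT0 K.hab K.haT K.haT0 K.hTP K.hTc K.hT0c K.hpow hexc)
  refine ⟨φ, w, hw0, fun p hp => hw p (hR hp), fun p hp => hK.hfix p (hR hp), fun h => hyw ?_⟩
  rw [hw y (hR hy), h, one_smul]

omit [IsAlgClosed k] [FiniteDimensional k W] in
/-- A fixed character not fixed by `S = ⁅T, a⁆` has translates that all move. -/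
theorem Stack.exists_translate {φ : H → k} (hfix : ∀ p ∈ ⁅P, aComm T a⁆, φ (a * p * a⁻¹) = φ p)
    (hne : ¬ aComm T a ≤ stab ⁅P, aComm T a⁆ φ) :
    ∃ s ∈ aComm T a, s⁻¹ * (a * s * a⁻¹) ∉ stab ⁅P, aComm T a⁆ φ ∧
      (∀ i, 0 < i → i < r → (s⁻¹ * (a ^ i * s * (a ^ i)⁻¹)) *
        (a * (s⁻¹ * (a ^ i * s * (a ^ i)⁻¹))⁻¹ * a⁻¹) ∉ stab ⁅P, aComm T a⁆ φ) ∧
      (s ∈ T0 ∨ aComm T0 a ≤ stab ⁅P, aComm T a⁆ φ) := by
  set S := aComm T a with hS
  set N := stab ⁅P, S⁆ φ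
  have hST : S ≤ T := aComm_le K.haT
  obtain ⟨hle, hSn, -, hnorm⟩ := K.comm_facts hST
  have haS : a ∈ normalizer (S : Set H) := Conf.mem_normalizer_aComm K.haT
  have haN : a ∈ N := ⟨hnorm a C.haP haS, hfix⟩
  have hcent : ∀ z ∈ normalizer ((⁅P, S⁆ : Subgroup H) : Set H), (∀ p ∈ P, Commute z p) → z ∈ N := fun z hz h =>
    ⟨hz, fun p hp => by rw [(h p (hle hp)).eq, mul_inv_cancel_right]⟩
  have hone : ∀ (U : Subgroup H), ∀ x ∈ ({x | ∃ τ ∈ U, τ⁻¹ * (a * τ * a⁻¹) = x} : Set H),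
      pnorm a r x = 1 := by
    rintro U x ⟨τ, -, rfl⟩
    exact pnorm_comm C.har τ
  by_cases hZ : aComm T0 a ≤ N
  · -- quotient by `(S ⊓ T0) ⊔ (S ⊓ N)`
    set Q := S ⊓ T0 ⊔ S ⊓ N with hQ
    have hQS : Q ≤ S := sup_le inf_le_left inf_le_left
    have hSS : ⁅S, S⁆ ≤ S ⊓ T0 := le_inf
      ((commutator_le).2 fun x hx y hy => by
        rw [commutatorElement_def]; exact mul_mem (mul_mem (mul_mem hx hy) (inv_mem hx)) (inv_mem hy))
      ((commutator_mono hST hST).trans K.hab)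
    have haQ : a ∈ normalizer (Q : Set H) :=
      CfsgLib.Coprime.sup_le_normalizer
        (CfsgLib.Coprime.inf_le_normalizer (zpowers_le.2 haS) (zpowers_le.2 K.haT0))
        (CfsgLib.Coprime.inf_le_normalizer (zpowers_le.2 haS) (zpowers_le.2 (le_normalizer haN)))
        (mem_zpowers a)
    obtain ⟨s, hs, hsQ⟩ : ∃ s ∈ S, s ∉ Q := by
      by_contra hc
      push Not at hc
      refine hne ((K.aComm_idem le_rfl K.haT).trans ?_)
      rw [aComm, closure_le]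
      rintro x ⟨τ, hτ, rfl⟩
      have hτn : S ⊓ N ≤ normalizer ((S ⊓ T0 : Subgroup H) : Set H) := fun n hn => by
        rw [mem_normalizer_iff]
        have hnS := (mem_inf.1 hn).1
        refine fun z => ⟨conj_mem_of_comm_le inf_le_left hSS hnS, fun h => ?_⟩
        have := conj_mem_of_comm_le inf_le_left hSS (inv_mem hnS) h
        simpa [mul_assoc] using this
      obtain ⟨z, hz, n, hn, rfl⟩ := CfsgLib.Coprime.mem_sup_exists hτn (hc τ hτ)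
      rw [show (z * n)⁻¹ * (a * (z * n) * a⁻¹) = n⁻¹ * (z⁻¹ * (a * z * a⁻¹)) * (a * n * a⁻¹) by group]
      exact mul_mem (mul_mem (inv_mem (mem_inf.1 hn).2) (hZ (aComm_mem (mem_inf.1 hz).2)))
        (mul_mem (mul_mem haN (mem_inf.1 hn).2) (inv_mem haN))
    refine ⟨s, hs, ?_⟩
    obtain ⟨h1, h2⟩ := not_mem_translates hQS (hSS.trans le_sup_left) C.hr C.har haS haQ (K.coprime hST)
      (fun x hx => pnorm_mem_of_closure haS hQS (hSS.trans le_sup_left) subset_closure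
        (fun y hy => by rw [hone T y hy]; exact one_mem Q) hx) (le_sup_right (a := S ⊓ T0)) hs hsQ
    exact ⟨h1, h2, Or.inr hZ⟩
  · set Z := aComm T0 a with hZdef
    have hZT0 : Z ≤ T0 := aComm_le K.haT0
    have hZS : Z ≤ S := aComm_mono K.hT0 a
    have hZN : ⁅Z, Z⁆ ≤ Z ⊓ N := by
      refine le_inf ((commutator_le).2 fun x hx y hy => by
        rw [commutatorElement_def]; exact mul_mem (mul_mem (mul_mem hx hy) (inv_mem hx)) (inv_mem hy)) ?_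
      rw [commutator_le]
      intro x hx y hy
      refine hcent _ ?_ (K.hT0c x (hZT0 hx) y (K.hT0 (hZT0 hy)))
      rw [commutatorElement_def]
      exact mul_mem (mul_mem (mul_mem (hSn (hZS hx)) (hSn (hZS hy))) (inv_mem (hSn (hZS hx))))
        (inv_mem (hSn (hZS hy)))
    have haZ : a ∈ normalizer (Z : Set H) := Conf.mem_normalizer_aComm K.haT0
    obtain ⟨s, hs, hsN⟩ := SetLike.not_le_iff_exists.1 hZ
    refine ⟨s, hZS hs, ?_⟩
    obtain ⟨h1, h2⟩ := not_mem_translates (inf_le_left : Z ⊓ N ≤ Z) hZN C.hr C.har haZ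
      (CfsgLib.Coprime.inf_le_normalizer (zpowers_le.2 haZ) (zpowers_le.2 (le_normalizer haN)) (mem_zpowers a))
      (K.coprime (hZS.trans hST))
      (fun x hx => pnorm_mem_of_closure haZ inf_le_left hZN subset_closure
        (fun y hy => by rw [hone T0 y hy]; exact one_mem _) hx) le_rfl hs (fun h => hsN (mem_inf.1 h).2)
    exact ⟨h1, h2, Or.inl (hZT0 hs)⟩

omit [IsAlgClosed k] [FiniteDimensional k W] in
/-- The core: `δ` vanishes when moved translates kill it on fixed elements. -/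
theorem Stack.delta_trivial {φ : H → k} {w : W} (hw0 : w ≠ 0) (hw : Eig ρ ⁅P, aComm T a⁆ φ w)
    (hfix : ∀ p ∈ ⁅P, aComm T a⁆, φ (a * p * a⁻¹) = φ p)
    {δ : H → k} (hδ : HomOn ⁅P, aComm T a⁆ δ) (hδfix : ∀ p ∈ ⁅P, aComm T a⁆, δ (a * p * a⁻¹) = δ p)
    (hne : ¬ aComm T a ≤ stab ⁅P, aComm T a⁆ φ)
    (hmoved : ∀ s ∈ aComm T a, (s ∈ T0 ∨ aComm T0 a ≤ stab ⁅P, aComm T a⁆ φ) →
      ∀ (ψ : H → k) (v : W), v ≠ 0 → Eig ρ ⁅P, aComm T a⁆ ψ v →
      (∀ p, ψ p = φ (s⁻¹ * p * s)) → (∃ z ∈ ⁅P, aComm T a⁆, ψ (a⁻¹ * z * a) ≠ ψ z) →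
      ∀ y ∈ ⁅P, aComm T a⁆, a * y * a⁻¹ = y → δ (s⁻¹ * y * s) = 1) :
    ∀ p ∈ ⁅P, aComm T a⁆, δ p = 1 := by
  set S := aComm T a with hS
  have hST : S ≤ T := aComm_le K.haT
  obtain ⟨hle, hSn, -, hnorm⟩ := K.comm_facts hST
  have haS : a ∈ normalizer (S : Set H) := Conf.mem_normalizer_aComm K.haT
  have haQ : a ∈ normalizer ((⁅P, S⁆ : Subgroup H) : Set H) := hnorm a C.haP haS
  obtain ⟨s, hs, h0, hi, hor⟩ := K.exists_translate hfix hne
  have hcond : ∀ x ∈ S, (x ∈ T0 ∨ aComm T0 a ≤ stab ⁅P, S⁆ φ) →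
      x⁻¹ * (a * x * a⁻¹) ∉ stab ⁅P, S⁆ φ →
      ∀ y ∈ ⁅P, S⁆, a * y * a⁻¹ = y → δ (x⁻¹ * y * x) = 1 := fun x hx hx' hxm =>
    hmoved x hx hx' (fun p => φ (x⁻¹ * p * x)) (ρ x w)
      (fun h => hw0 (rep_injective ρ x (h.trans (map_zero _).symm))) (hw.map (hSn hx)) (fun p => rfl)
      (moved_of_not_mem haQ hfix (hSn hx) hxm)
  intro p hp
  refine eq_one_of_translates (L := ⁅P, S⁆ ⊓ P0) C.har haQ
    (CfsgLib.Coprime.inf_le_normalizer (zpowers_le.2 haQ) (zpowers_le.2 C.haP0) (mem_zpowers a))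
    inf_le_left (le_inf ((commutator_le).2 fun x hx y hy => by
        rw [commutatorElement_def]; exact mul_mem (mul_mem (mul_mem hx hy) (inv_mem hx)) (inv_mem hy))
      ((commutator_mono hle hle).trans C.hab)) (C.coprime_card hle)
    hδ (fun z hz => K.kill hST hδ hz) hδfix (hSn hs) (fun z hz => ?_) (hcond s hs hor h0) ?_ C.hr.pos hp
  · rw [show s⁻¹ * z * s = z by
      rw [mul_assoc, ← (K.hTc s (hST hs) z (mem_inf.1 hz).2).eq, inv_mul_cancel_left]]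
    exact K.kill hST hδ hz
  · intro i hi0 hir y hy hya
    set c := s⁻¹ * (a ^ i * s * (a ^ i)⁻¹) with hc
    have hcS : c ∈ S := mul_mem (inv_mem hs) (conj_pow_mem haS hs i)
    have hc' : c ∈ T0 ∨ aComm T0 a ≤ stab ⁅P, S⁆ φ := by
      rcases hor with h | h
      · exact Or.inl (mul_mem (inv_mem h) (conj_pow_mem K.haT0 h i))
      · exact Or.inr h
    have hh := hcond c⁻¹ (inv_mem hcS) (hc'.imp inv_mem id) ?_ y hy hya
    · rwa [inv_inv] at hh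
    rw [inv_inv]
    exact hi i hi0 hir

omit [IsAlgClosed k] [FiniteDimensional k W] in
theorem Stack.le_normalizer_aComm : T ≤ normalizer (aComm T a : Set H) := by
  intro x hx
  rw [← CfsgLib.Coprime.conjBy_eq_self_iff]
  refine eq_of_le_of_card_ge ?_ (by rw [CfsgLib.Coprime.card_conjBy])
  rw [CfsgLib.Coprime.conjBy, map_le_iff_le_comap, aComm, closure_le]
  rintro z ⟨τ, hτ, rfl⟩
  have h1 : x⁻¹ ∈ T := inv_mem hx
  have e : x * (τ⁻¹ * (a * τ * a⁻¹)) * x⁻¹ =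
      ((τ * x⁻¹)⁻¹ * (a * (τ * x⁻¹) * a⁻¹)) * ((x⁻¹)⁻¹ * (a * x⁻¹ * a⁻¹))⁻¹ := by group
  have := mul_mem (aComm_mem (a := a) (mul_mem hτ h1)) (inv_mem (aComm_mem (a := a) h1))
  rw [← e] at this
  exact this

omit [IsAlgClosed k] [FiniteDimensional k W] in
/-- A fixed element of `T` centralizes `⁅T, a⁆` modulo the stabilizer. -/
theorem Stack.comm_stab {φ : H → k} {x : H} (hx : x ∈ T) (hxa : a * x * a⁻¹ = x)
    (hZ : aComm T0 a ≤ stab ⁅P, aComm T a⁆ φ) {s : H} (hs : s ∈ aComm T a) :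
    ⁅x, s⁆ ∈ stab ⁅P, aComm T a⁆ φ := by
  set Q := ⁅P, aComm T a⁆
  set N := stab Q φ
  obtain ⟨hle, -, -, hnorm⟩ := K.comm_facts (aComm_le K.haT)
  have hTQ : T ≤ normalizer (Q : Set H) := fun τ hτ => hnorm τ (K.hTP hτ) (K.le_normalizer_aComm hτ)
  have hTT : ∀ u ∈ T, ∀ v ∈ T, ⁅u, v⁆ ∈ T0 := fun u hu v hv => K.hab (commutator_mem_commutator hu hv)
  have hcent : ∀ u ∈ T0, ∀ v ∈ T, ⁅u, v⁆ ∈ N := fun u hu v hv =>
    mem_stab.2 ⟨hTQ (K.hT0 (hTT u (K.hT0 hu) v hv)), fun p hp => by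
      rw [(K.hT0c u hu v hv p (hle hp)).eq, mul_inv_cancel_right]⟩
  have hconj : ∀ g ∈ T, ∀ z ∈ T0 ⊓ N, g * z * g⁻¹ ∈ T0 ⊓ N := fun g hg z hz => by
    have hzi : z⁻¹ ∈ T0 ⊓ N := inv_mem hz
    rw [show g * z * g⁻¹ = z * ⁅z⁻¹, g⁆ by rw [commutatorElement_def]; group]
    exact mul_mem hz (mem_inf.2 ⟨hTT _ (K.hT0 (mem_inf.1 hzi).1) g hg, hcent _ (mem_inf.1 hzi).1 g hg⟩)
  suffices ⁅x, s⁆ ∈ T0 ⊓ N ∧ s ∈ T from (mem_inf.1 this.1).2
  induction hs using closure_induction with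
  | mem y hy =>
    obtain ⟨τ, hτ, rfl⟩ := hy
    have hτa : a * τ * a⁻¹ ∈ T := (mem_normalizer_iff.1 K.haT τ).1 hτ
    have hs : τ⁻¹ * (a * τ * a⁻¹) ∈ T := mul_mem (inv_mem hτ) hτa
    refine ⟨mem_inf.2 ⟨hTT x hx _ hs, ?_⟩, hs⟩
    have hc : ⁅τ⁻¹, x⁆ ∈ T0 := hTT _ (inv_mem hτ) x hx
    have e : ⁅x, τ⁻¹ * (a * τ * a⁻¹)⁆ = ⁅⁅τ⁻¹, x⁆⁻¹, τ⁻¹ * (a * τ * a⁻¹)⁆ *
        ((τ⁻¹ * (a * τ * a⁻¹)) * (⁅τ⁻¹, x⁆⁻¹ * (a * ⁅τ⁻¹, x⁆ * a⁻¹)) *
          (τ⁻¹ * (a * τ * a⁻¹))⁻¹) := by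
      have hcx : a * x * a⁻¹ = x := hxa
      have hcx' : a * x⁻¹ * a⁻¹ = x⁻¹ := by rw [← conj_inv, hcx]
      simp only [commutatorElement_def]
      rw [show a * (τ⁻¹ * x * τ⁻¹⁻¹ * x⁻¹) * a⁻¹ =
        (a * τ⁻¹ * a⁻¹) * (a * x * a⁻¹) * (a * τ * a⁻¹) * (a * x⁻¹ * a⁻¹) by group, hcx, hcx']
      group
    rw [e]
    refine mul_mem (hcent _ (inv_mem hc) _ hs) (mem_inf.1 (hconj _ hs _ (mem_inf.2 ⟨?_, ?_⟩))).2
    · exact mul_mem (inv_mem hc) ((mem_normalizer_iff.1 K.haT0 _).1 hc)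
    · exact hZ (aComm_mem hc)
  | one => exact ⟨by rw [commutatorElement_one_right]; exact one_mem _, one_mem _⟩
  | mul u v _ _ hu hv =>
    rw [commutator_mul_right]
    exact ⟨mul_mem hu.1 (hconj u hu.2 _ hv.1), mul_mem hu.2 hv.2⟩
  | inv u _ hu =>
    refine ⟨?_, inv_mem hu.2⟩
    rw [show ⁅x, u⁻¹⁆ = u⁻¹ * ⁅x, u⁆⁻¹ * u⁻¹⁻¹ by simp only [commutatorElement_def]; group]
    exact hconj _ (inv_mem hu.2) _ (inv_mem hu.1)

/-- An element of `T` moving a fixed element of `⁅P, ⁅T, a⁆⁆` yields a visible commutator. -/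
theorem Stack.comm_eq_one {x : H} (hx : x ∈ T) (hxa : a * x * a⁻¹ = x)
    (hfix : ∀ y ∈ ⁅P, aComm T a⁆, a * y * a⁻¹ = y →
      ∀ w ∈ cspan ρ (aComm P a), ρ a w = w → ρ ⁅x, y⁆ w = w)
    {y : H} (hy : y ∈ ⁅P, aComm T a⁆) (hya : a * y * a⁻¹ = y) : ⁅x, y⁆ = 1 := by
  set S := aComm T a with hS
  set Q := ⁅P, S⁆ with hQ
  have hST : S ≤ T := aComm_le K.haT
  obtain ⟨hle, hSn, hidem, hnorm⟩ := K.comm_facts hST
  have hxQ : x ∈ normalizer (Q : Set H) := hnorm x (K.hTP hx) (K.le_normalizer_aComm hx)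
  have hconj : ∀ z ∈ Q, x * z * x⁻¹ ∈ Q := fun z hz => (mem_normalizer_iff.1 hxQ z).1 hz
  have hxia : a * x⁻¹ * a⁻¹ = x⁻¹ := by rw [← conj_inv, hxa]
  have hmem : ∀ z ∈ Q, ⁅x, z⁆ ∈ Q := fun z hz => mul_mem (hconj z hz) (inv_mem hz)
  have hfixed : ∀ z, a * z * a⁻¹ = z → a * ⁅x, z⁆ * a⁻¹ = ⁅x, z⁆ := fun z hz => by
    simp only [commutatorElement_def]
    rw [← conj_mul, ← conj_mul, ← conj_mul, hxa, hz, hxia, ← conj_inv, hz]
  by_contra hne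
  obtain ⟨φ, w, hw0, hw, hφa, hφy⟩ :=
    K.exists_bad le_rfl (hmem y hy) (hfixed y hya) (hfix y hy hya) hne
  have hhom := hw.homOn hw0
  have hcomm : ∀ z ∈ Q, φ ⁅x, z⁆ = φ (x * z * x⁻¹) * φ z⁻¹ := fun z hz => by
    rw [commutatorElement_def, hhom.map_mul _ (hconj z hz) _ (inv_mem hz)]
  have hδ : ∀ z ∈ Q, φ (x * z * x⁻¹) * φ z⁻¹ = 1 := by
    refine K.delta_trivial (δ := fun z => φ (x * z * x⁻¹) * φ z⁻¹) hw0 hw hφa ?_ ?_ ?_ ?_
    · refine ⟨by rw [mul_one, mul_inv_cancel, inv_one, hhom.map_one, one_mul], fun u hu v hv => ?_⟩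
      rw [← conj_mul, hhom.map_mul _ (hconj u hu) _ (hconj v hv), mul_inv_rev,
        hhom.map_mul _ (inv_mem hv) _ (inv_mem hu)]
      ring
    · intro p hp
      have e1 : x * (a * p * a⁻¹) * x⁻¹ = a * (x * p * x⁻¹) * a⁻¹ := by
        conv_lhs => rw [← hxa]
        group
      rw [e1, hφa _ (hconj p hp), conj_inv, hφa _ (inv_mem hp)]
    · intro hle'
      exact hφy (eq_one_of_invariant hhom hSn hidem (K.coprime_P hST hle)
        (fun s hs p hp => (mem_stab.1 (hle' hs)).2 p hp) (hmem y hy))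
    · intro s hs hor ψ v hv0 hv hψ hmov z hz hza
      have hsQ := hSn hs
      have h1 : ψ ⁅x, z⁆ = 1 :=
        moved_one (C := C) hle (hnorm a C.haP (Conf.mem_normalizer_aComm K.haT)) (hmem z hz)
          (hfixed z hza) (hfix z hz hza) hv hv0 hmov
      rw [hψ] at h1
      have hzs : s⁻¹ * z * s ∈ Q := (mem_normalizer_iff''.1 hsQ z).1 hz
      have hc : ⁅s⁻¹, x⁆ ∈ stab Q φ := by
        rcases hor with h | h
        · refine mem_stab.2 ⟨?_, fun p hp => ?_⟩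
          · exact mul_mem (mul_mem (mul_mem (inv_mem hsQ) hxQ) (inv_mem (inv_mem hsQ))) (inv_mem hxQ)
          · rw [(K.hT0c s⁻¹ (inv_mem h) x hx p (hle hp)).eq, mul_inv_cancel_right]
        · have := inv_mem (K.comm_stab hx hxa h (inv_mem hs))
          rwa [commutatorElement_inv] at this
      rw [show s⁻¹ * ⁅x, z⁆ * s = (⁅s⁻¹, x⁆ * (x * (s⁻¹ * z * s) * x⁻¹) * ⁅s⁻¹, x⁆⁻¹) *
          (s⁻¹ * z * s)⁻¹ by simp only [commutatorElement_def]; group,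
        hhom.map_mul _ ((mem_normalizer_iff.1 (mem_stab.1 hc).1 _).1 (hconj _ hzs)) _ (inv_mem hzs),
        (mem_stab.1 hc).2 _ (hconj _ hzs)] at h1
      exact h1
  exact hφy ((hcomm y hy).trans (hδ y hy))

/-- A fixed element of `⁅P, ⁅T, a⁆⁆` moves a fixed vector. -/
theorem Stack.eq_one_of_fix
    (hfix : ∀ y ∈ ⁅P, aComm T a⁆, a * y * a⁻¹ = y →
      ∀ w ∈ cspan ρ (aComm P a), ρ a w = w → ρ y w = w)
    {y : H} (hy : y ∈ ⁅P, aComm T a⁆) (hya : a * y * a⁻¹ = y) : y = 1 := by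
  have hST : aComm T a ≤ T := aComm_le K.haT
  obtain ⟨hle, hSn, hidem, hnorm⟩ := K.comm_facts hST
  by_contra hne
  obtain ⟨φ, w, hw0, hw, hφa, hφy⟩ := K.exists_bad le_rfl hy hya (hfix y hy hya) hne
  refine hφy (K.delta_trivial hw0 hw hφa (hw.homOn hw0) hφa (fun hle' => ?_) ?_ y hy)
  · exact hφy (eq_one_of_invariant (hw.homOn hw0) hSn hidem (K.coprime_P hST hle)
      (fun s hs p hp => (mem_stab.1 (hle' hs)).2 p hp) hy)
  · intro s _ _ ψ v hv0 hv hψ hmov z hz hza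
    rw [← hψ]
    exact moved_one (C := C) hle (hnorm a C.haP (Conf.mem_normalizer_aComm K.haT)) hz hza
      (hfix z hz hza) hv hv0 hmov

omit [IsAlgClosed k] [FiniteDimensional k W] in
/-- For abelian `T`, the group `⁅P, ⁅T, a⁆⁆` has fixed elements outside `P0`. -/
theorem Stack.exists_fixed (hcomm : ∀ u ∈ T, ∀ v ∈ T, Commute u v)
    (hne : ¬ ⁅P, aComm T a⁆ ≤ P0) : ∃ y ∈ ⁅P, aComm T a⁆, a * y * a⁻¹ = y ∧ y ∉ P0 := by
  by_contra hc
  push Not at hc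
  set S := aComm T a with hS
  set Q := ⁅P, S⁆ with hQ
  have hST : S ≤ T := aComm_le K.haT
  obtain ⟨hle, hSn, hidem, hnorm⟩ := K.comm_facts hST
  have haS : a ∈ normalizer (S : Set H) := Conf.mem_normalizer_aComm K.haT
  set L := Q ⊓ P0 with hL
  have hLQ : L ≤ Q := inf_le_left
  have hQQ : ⁅Q, Q⁆ ≤ L := le_inf ((commutator_le).2 fun x hx y hy => by
      rw [commutatorElement_def]; exact mul_mem (mul_mem (mul_mem hx hy) (inv_mem hx)) (inv_mem hy))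
    ((commutator_mono hle hle).trans C.hab)
  let L' : Subgroup Q := L.subgroupOf Q
  haveI : L'.Normal := ⟨fun n hn g => by
    rw [mem_subgroupOf] at hn ⊢
    exact conj_mem_of_comm_le hLQ hQQ g.2 hn⟩
  let A := Q ⧸ L'
  letI : CommGroup A := { (inferInstance : Group A) with
    mul_comm := fun x y => by
      induction x using QuotientGroup.induction_on with | H x =>
      induction y using QuotientGroup.induction_on with | H y =>
      rw [← QuotientGroup.mk_mul, ← QuotientGroup.mk_mul, QuotientGroup.eq, mem_subgroupOf]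
      refine hQQ (?_ : _ ∈ ⁅Q, Q⁆)
      have : ((x * y)⁻¹ * (y * x) : Q) = ⁅y⁻¹, x⁻¹⁆ := by rw [commutatorElement_def]; group
      rw [this]
      simp only [commutatorElement_def, Subgroup.coe_mul, Subgroup.coe_inv]
      exact commutator_mem_commutator (inv_mem y.2) (inv_mem x.2) }
  classical
  let φ : H → A := fun h => if hh : h ∈ Q then QuotientGroup.mk' L' ⟨h, hh⟩ else 1
  have hφ : HomOn Q φ := by
    refine ⟨?_, fun u hu v hv => ?_⟩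
    · simp only [φ, dif_pos (one_mem Q)]
      exact map_one _
    · simp only [φ, dif_pos hu, dif_pos hv, dif_pos (mul_mem hu hv)]
      exact map_mul (QuotientGroup.mk' L') ⟨u, hu⟩ ⟨v, hv⟩
  have hφ1 : ∀ {z}, z ∈ Q → (φ z = 1 ↔ z ∈ L) := fun {z} hz => by
    simp only [φ, dif_pos hz]
    exact (QuotientGroup.eq_one_iff (N := L') ⟨z, hz⟩).trans Iff.rfl
  refine hne fun p hp => ?_
  by_contra hp0
  refine hp0 (mem_inf.1 ((hφ1 hp).1 ?_)).2
  haveI : Fintype S := Fintype.ofFinite S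
  refine eq_one_of_pow_coprime (K.coprime_P hST hle) ?_ (hφ.pow_card_eq_one hp)
  rw [Nat.card_eq_fintype_card]
  have haQ : a ∈ normalizer (Q : Set H) := hnorm a C.haP haS
  have hLconj : ∀ τ ∈ S, ∀ z ∈ L, τ * z * τ⁻¹ ∈ L := fun τ hτ z hz => by
    rw [(K.hTc τ (hST hτ) z (mem_inf.1 hz).2).eq, mul_inv_cancel_right]
    exact hz
  have hsum : ∀ τ : S, ∀ p ∈ Q, ∏ i ∈ Finset.range r,
      φ (((τ : H)⁻¹ * (a ^ i * τ * (a ^ i)⁻¹)) * (a ^ i * p * (a ^ i)⁻¹) *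
        ((τ : H)⁻¹ * (a ^ i * τ * (a ^ i)⁻¹))⁻¹) = 1 := by
    intro τ p hp
    have hp' : (τ : H) * p * (τ : H)⁻¹ ∈ Q := (mem_normalizer_iff.1 (hSn τ.2) _).1 hp
    obtain ⟨y, hy, hya, hnormy⟩ := exists_fixed_norm (k := A) C.har haQ
      (CfsgLib.Coprime.inf_le_normalizer (zpowers_le.2 haQ) (zpowers_le.2 C.haP0) (mem_zpowers a))
      hLQ hQQ (C.coprime_card hle) hp'
    have hψ : HomOn Q fun z => φ ((τ : H)⁻¹ * z * ((τ : H)⁻¹)⁻¹) := hφ.comp_conj (inv_mem (hSn τ.2))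
    have h1 := hnormy _ hψ (fun z hz => by
      have := hLconj _ (inv_mem τ.2) z hz
      exact (hφ1 (hLQ this)).2 this)
    have hyL : y ∈ L := mem_inf.2 ⟨hy, hc y hy hya⟩
    rw [(hφ1 (hLQ (hLconj _ (inv_mem τ.2) y hyL))).2 (hLconj _ (inv_mem τ.2) y hyL)] at h1
    refine (Finset.prod_congr rfl fun i _ => ?_).trans h1.symm
    congr 1
    group
  have htot : ∏ i ∈ Finset.range r, ∏ τ : S,
      φ (((τ : H)⁻¹ * (a ^ i * τ * (a ^ i)⁻¹)) * (a ^ i * p * (a ^ i)⁻¹) *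
        ((τ : H)⁻¹ * (a ^ i * τ * (a ^ i)⁻¹))⁻¹) = 1 := by
    rw [Finset.prod_comm]
    exact Finset.prod_eq_one fun τ _ => hsum τ p hp
  rw [Finset.prod_eq_single 0 ?_ (fun h => absurd (Finset.mem_range.2 C.hr.pos) h)] at htot
  · simpa using htot
  intro i hi hi0
  have hir := Finset.mem_range.1 hi
  have hcI : ∀ τ : S, (τ : H)⁻¹ * (a ^ i * τ * (a ^ i)⁻¹) ∈ S := fun τ =>
    mul_mem (inv_mem τ.2) (conj_pow_mem haS τ.2 i)
  have hSS : ⁅S, S⁆ ≤ (⊥ : Subgroup H) := commutator_le.2 fun u hu v hv => by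
    rw [commutatorElement_eq_one_iff_commute.2 (hcomm u (hST hu) v (hST hv))]
    exact one_mem _
  let f : S → S := fun τ => ⟨_, hcI τ⟩
  have hinj : Function.Injective f := by
    intro τ τ' he
    have he' : (τ : H)⁻¹ * (a ^ i * τ * (a ^ i)⁻¹) = (τ' : H)⁻¹ * (a ^ i * τ' * (a ^ i)⁻¹) :=
      congrArg Subtype.val he
    have hz : (τ' : H) * (τ : H)⁻¹ ∈ S := mul_mem τ'.2 (inv_mem τ.2)
    have hz1 : ((τ' : H) * (τ : H)⁻¹)⁻¹ * (a ^ i * ((τ' : H) * (τ : H)⁻¹) * (a ^ i)⁻¹) ∈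
        (⊥ : Subgroup H) := by
      rw [mem_bot, show a ^ i * ((τ' : H) * (τ : H)⁻¹) * (a ^ i)⁻¹ =
        (τ' : H) * ((τ' : H)⁻¹ * (a ^ i * τ' * (a ^ i)⁻¹)) * ((a ^ i * τ * (a ^ i)⁻¹))⁻¹ by group,
        ← he']
      group
    obtain ⟨j, hj⟩ := Nat.exists_mul_mod_eq_one_of_coprime
      ((Nat.coprime_of_lt_prime hi0 hir C.hr).symm) C.hr.one_lt
    have hab : a ∈ normalizer ((⊥ : Subgroup H) : Set H) := mem_normalizer_iff.2 fun n => by
      simp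
    have h2 := kpow_mem hab hz1 j
    rw [← Nat.mod_add_div (i * j) r, hj.2, pow_add, pow_one, pow_mul, C.har, one_pow, mul_one] at h2
    have hpn : pnorm a r ((τ' : H) * (τ : H)⁻¹) ∈ (⊥ : Subgroup H) := by
      have hS2 : S ≤ aComm S a := K.aComm_idem le_rfl K.haT
      exact pnorm_mem_of_closure haS bot_le hSS
        (X := {x | ∃ τ ∈ S, τ⁻¹ * (a * τ * a⁻¹) = x})
        (fun x hx => aComm_le haS (subset_closure hx))
        (fun x hx => by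
          obtain ⟨τ, -, rfl⟩ := hx
          rw [pnorm_comm C.har]
          exact one_mem _) (hS2 hz)
    have h3 := mem_bot.1 (mem_of_pnorm bot_le hSS haS hab (K.coprime hST) hz hpn h2)
    exact Subtype.ext (mul_inv_eq_one.1 h3).symm
  rw [show (∏ τ : S, φ (((τ : H)⁻¹ * (a ^ i * τ * (a ^ i)⁻¹)) * (a ^ i * p * (a ^ i)⁻¹) *
      ((τ : H)⁻¹ * (a ^ i * τ * (a ^ i)⁻¹))⁻¹)) =
      ∏ s : S, φ ((s : H) * (a ^ i * p * (a ^ i)⁻¹) * (s : H)⁻¹) from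
    Fintype.prod_bijective f (Finite.injective_iff_bijective.1 hinj) _ _ fun τ => rfl]
  exact (avg_eq_one hφ S hSn (hidem ((mem_normalizer_iff.1 (pow_mem haQ i) p).1 hp))).2

end Steps

end CfsgLib.PGroup.TurullFix
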