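import Cfsg.Agent.Lib.PGroup.TurullFix.StepA

/-!
Operators centralized by `a` that fix all fixed vectors of `⁅V, ⁅⁅P, a⁆, x⁆⁆`: the components on which
they are nontrivial.
-/

set_option autoImplicit false
set_option linter.style.haveILetI false
set_option linter.unusedSectionVars false

namespace CfsgLib.PGroup.TurullFix

open CfsgLib.PGroup
open Subgroup
open scoped commutatorElement BigOperators

universe u v w

variable {H : Type u} [Group H] {k : Type v} [Field k] {W : Type w} [AddCommGroup W] [Module k W]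
  {ρ : H →* Module.End k W} {a : H} {r : ℕ} {P P0 : Subgroup H} {q : ℕ}

/-- A centralized group of operators whose elements fix the relevant fixed vectors. -/
structure Flank (C : Conf ρ a r P P0 q) (T : Subgroup H) (t : ℕ) : Prop where
  ht : t.Prime
  htq : t ≠ q
  htr : t ≠ r
  hT : IsPGroup t T
  hTa : ∀ x ∈ T, Commute x a
  hTP : T ≤ normalizer (P : Set H)
  hTc : ∀ x ∈ T, ∀ z ∈ P0, Commute x z
  hinv : ∀ x ∈ T, ∀ w ∈ cspan ρ (aComm (aComm P a) x), ρ a w = w → ρ x w = w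

section Facts

variable [Finite H] {C : Conf ρ a r P P0 q} {φ : H → k} {R : Subgroup H}

theorem IsComp.conj_mem_normalizer (K : IsComp C φ R) {b : H} (hb : b ∈ normalizer (P : Set H))
    (hφb : ∀ z ∈ P0, φ (b * z * b⁻¹) = φ z) : b ∈ normalizer (R : Set H) := by
  have key : ∀ g ∈ R, b * g * b⁻¹ ∈ R := fun g hg => by
    rw [K.hR] at hg ⊢
    refine ⟨(mem_normalizer_iff.1 hb g).1 hg.1, fun h hh => ?_⟩
    have hh' : b⁻¹ * h * b ∈ P := (mem_normalizer_iff''.1 hb h).1 hh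
    rw [show ⁅b * g * b⁻¹, h⁆ = b * ⁅g, b⁻¹ * h * b⁆ * b⁻¹ by simp only [commutatorElement_def]; group,
      hφb _ (C.comm_mem hg.1 hh')]
    exact hg.2 _ hh'
  rw [← CfsgLib.Coprime.conjBy_eq_self_iff]
  refine eq_of_le_of_card_ge (fun x hx => ?_) (CfsgLib.Coprime.card_conjBy _ _).ge
  rw [CfsgLib.Coprime.mem_conjBy] at hx
  have := key _ hx
  simpa [mul_assoc] using this

theorem Flank.mem_normalizer {T : Subgroup H} {t : ℕ} (F : Flank C T t) (K : IsComp C φ R) {x : H}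
    (hx : x ∈ T) : x ∈ normalizer (R : Set H) :=
  K.conj_mem_normalizer (F.hTP hx) fun z hz => by rw [(F.hTc x hx z hz).eq, mul_inv_cancel_right]

theorem Flank.mem_normalizer_aComm {T : Subgroup H} {t : ℕ} (F : Flank C T t) {x : H}
    (hx : x ∈ T) : x ∈ normalizer (aComm P a : Set H) := by
  have key : ∀ m ∈ aComm P a, x * m * x⁻¹ ∈ aComm P a := by
    intro m hm
    induction hm using closure_induction with
    | mem z hz =>
      obtain ⟨τ, hτ, rfl⟩ := hz
      rw [show x * (τ⁻¹ * (a * τ * a⁻¹)) * x⁻¹ = (x * τ * x⁻¹)⁻¹ * ((x * a) * τ * (x * a)⁻¹) by group,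
        (F.hTa x hx).eq, show a * x * τ * (a * x)⁻¹ = a * (x * τ * x⁻¹) * a⁻¹ by group]
      exact aComm_mem ((mem_normalizer_iff.1 (F.hTP hx) τ).1 hτ)
    | one => rw [mul_one, mul_inv_cancel]; exact one_mem _
    | mul g h _ _ hg hh =>
      rw [show x * (g * h) * x⁻¹ = (x * g * x⁻¹) * (x * h * x⁻¹) by group]; exact mul_mem hg hh
    | inv g _ hg => rw [show x * g⁻¹ * x⁻¹ = (x * g * x⁻¹)⁻¹ by group]; exact inv_mem hg
  rw [← CfsgLib.Coprime.conjBy_eq_self_iff]
  refine eq_of_le_of_card_ge (fun g hg => ?_) (CfsgLib.Coprime.card_conjBy _ _).ge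
  rw [CfsgLib.Coprime.mem_conjBy] at hg
  have := key _ hg
  simpa [mul_assoc] using this

theorem pnorm_aComm_mem (C : Conf ρ a r P P0 q) {m : H} (hm : m ∈ aComm P a) :
    pnorm a r m ∈ aComm P a ⊓ P0 := by
  have hMP : aComm P a ≤ P := aComm_le C.haP
  refine pnorm_mem_of_closure (Conf.mem_normalizer_aComm C.haP) inf_le_left
    (le_inf ((commutator_le).2 fun x hx y hy => by
        rw [commutatorElement_def]; exact mul_mem (mul_mem (mul_mem hx hy) (inv_mem hx)) (inv_mem hy))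
      ((commutator_mono hMP hMP).trans C.hab))
    (X := {x | ∃ τ ∈ P, τ⁻¹ * (a * τ * a⁻¹) = x}) subset_closure (fun x hx => ?_) hm
  obtain ⟨τ, -, rfl⟩ := hx
  rw [pnorm_comm C.har]
  exact one_mem _

theorem fixed_aComm_mem (C : Conf ρ a r P P0 q) {m : H} (hm : m ∈ aComm P a) (hma : a * m * a⁻¹ = m) :
    m ∈ P0 := by
  have hMP : aComm P a ≤ P := aComm_le C.haP
  have haM := Conf.mem_normalizer_aComm (T := P) C.haP
  refine (mem_inf.1 (mem_of_pnorm inf_le_left (le_inf ((commutator_le).2 fun x hx y hy => by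
        rw [commutatorElement_def]; exact mul_mem (mul_mem (mul_mem hx hy) (inv_mem hx)) (inv_mem hy))
      ((commutator_mono hMP hMP).trans C.hab)) haM
    (CfsgLib.Coprime.inf_le_normalizer (zpowers_le.2 haM) (zpowers_le.2 C.haP0) (mem_zpowers a))
    (C.coprime_card hMP) hm (pnorm_aComm_mem C hm) ?_)).2
  rw [hma, inv_mul_cancel]
  exact one_mem _

/-- The component character is invariant on `⁅P, a⁆`. -/
theorem IsComp.agree (K : IsComp C φ R) {x : H} (hxa : Commute x a) (hxR : x ∈ normalizer (R : Set H))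
    (hxP0 : ∀ z ∈ P0, Commute x z) {z : H} (hz : z ∈ aComm P a ⊓ R) : φ (x * z * x⁻¹) = φ z := by
  have hhom := K.homOn C
  have hR : ∀ {u}, u ∈ R → x * u * x⁻¹ ∈ R := fun {u} hu => (mem_normalizer_iff.1 hxR u).1 hu
  let δ : H → k := fun u => φ (x * u * x⁻¹) * φ u⁻¹
  have hδ : HomOn (aComm P a ⊓ R) δ := by
    refine ⟨by simp only [δ]; rw [mul_one, mul_inv_cancel, inv_one, hhom.map_one, one_mul],
      fun u hu v hv => ?_⟩
    simp only [δ]
    rw [← conj_mul, hhom.map_mul _ (hR (mem_inf.1 hu).2) _ (hR (mem_inf.1 hv).2), mul_inv_rev,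
      hhom.map_mul _ (inv_mem (mem_inf.1 hv).2) _ (inv_mem (mem_inf.1 hu).2)]
    ring
  have hL : ∀ u ∈ aComm P a ⊓ P0, δ u = 1 := fun u hu => by
    simp only [δ]
    rw [(hxP0 u (mem_inf.1 hu).2).eq, mul_inv_cancel_right,
      ← hhom.map_mul _ (K.P0_le C (mem_inf.1 hu).2) _ (inv_mem (K.P0_le C (mem_inf.1 hu).2)), mul_inv_cancel,
      hhom.map_one]
  have haM := Conf.mem_normalizer_aComm (T := P) C.haP
  have hMP : aComm P a ≤ P := aComm_le C.haP
  have h := eq_one_of_fixed_trivial (L := aComm P a ⊓ P0) C.har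
    (CfsgLib.Coprime.inf_le_normalizer (zpowers_le.2 haM) (zpowers_le.2 (K.a_mem C)) (mem_zpowers a))
    (CfsgLib.Coprime.inf_le_normalizer (zpowers_le.2 haM) (zpowers_le.2 C.haP0) (mem_zpowers a))
    (le_inf inf_le_left (inf_le_right.trans (K.P0_le C)))
    (le_inf ((commutator_le).2 fun u hu v hv => by
        rw [commutatorElement_def]
        exact mul_mem (mul_mem (mul_mem (mem_inf.1 hu).1 (mem_inf.1 hv).1) (inv_mem (mem_inf.1 hu).1))
          (inv_mem (mem_inf.1 hv).1))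
      ((commutator_mono (inf_le_left.trans hMP) (inf_le_left.trans hMP)).trans C.hab))
    (C.coprime_card (inf_le_left.trans hMP)) hδ hL (fun u hu => ?_)
    (fun u hu hua => hL u (mem_inf.2 ⟨(mem_inf.1 hu).1, fixed_aComm_mem C (mem_inf.1 hu).1 hua⟩)) hz
  · simp only [δ] at h
    calc φ (x * z * x⁻¹) = φ (x * z * x⁻¹) * (φ z⁻¹ * φ z) := by
          rw [hhom.map_inv_mul (mem_inf.1 hz).2, mul_one]
      _ = φ z := by rw [← mul_assoc, h, one_mul]
  · simp only [δ]
    have e1 : x * (a * u * a⁻¹) * x⁻¹ = a * (x * u * x⁻¹) * a⁻¹ := by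
      rw [show x * (a * u * a⁻¹) * x⁻¹ = (x * a) * u * (x * a)⁻¹ by group, hxa.eq]
      group
    rw [e1, K.hfix _ (hR (mem_inf.1 hu).2), conj_inv, K.hfix _ (inv_mem (mem_inf.1 hu).2)]

end Facts

section Flank

variable [Finite H] {C : Conf ρ a r P P0 q} {T : Subgroup H} {t : ℕ} (F : Flank C T t)
include F

theorem Flank.coprime_order {x : H} (hx : x ∈ T) {Y : Subgroup H} (hY : Y ≤ P) :
    (orderOf x).Coprime (Nat.card Y) ∧ (orderOf x).Coprime r := by
  haveI : Fact t.Prime := ⟨F.ht⟩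
  haveI : Fact q.Prime := ⟨C.hq⟩
  obtain ⟨n, hn⟩ := (IsPGroup.iff_orderOf.1 F.hT) ⟨x, hx⟩
  rw [orderOf_mk] at hn
  obtain ⟨m, hm⟩ := IsPGroup.iff_card.1 (C.hP.to_le hY)
  rw [hn, hm]
  exact ⟨Nat.Coprime.pow n m ((Nat.coprime_primes F.ht C.hq).2 F.htq),
    Nat.Coprime.pow_left n ((Nat.coprime_primes F.ht C.hr).2 F.htr)⟩

theorem Flank.idem {x : H} (hx : x ∈ T) : aComm (aComm P a) x ≤ aComm (aComm (aComm P a) x) x := by
  have hxM := F.mem_normalizer_aComm hx
  have hS : x ∈ normalizer (aComm (aComm P a) x : Set H) := Conf.mem_normalizer_aComm hxM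
  rw [aComm_eq (isOfFinOrder_of_finite x) hxM,
    aComm_eq (isOfFinOrder_of_finite x) (aComm_eq (isOfFinOrder_of_finite x) hxM ▸ hS),
    CfsgLib.Coprime.commutator_commutator_eq (zpowers_le.2 hxM) ?_
      (Or.inl (CfsgLib.Coprime.isSolvable_of_isMulCommutative inferInstance))]
  rw [Nat.card_zpowers]
  exact (F.coprime_order hx (aComm_le C.haP)).1

/-- `⁅P, a⁆` is generated by `⁅P, a, x⁆` and the centralizer of `x`. -/
theorem Flank.parts {x : H} (hx : x ∈ T) {L : Subgroup H} (h1 : aComm (aComm P a) x ≤ L)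
    (h2 : ∀ y ∈ aComm P a, x * y * x⁻¹ = y → y ∈ L) : aComm P a ≤ L := by
  have hxM := F.mem_normalizer_aComm hx
  refine (CfsgLib.Coprime.commutator_sup_centralizer (A := zpowers x) (K := aComm P a)
    (zpowers_le.2 hxM) ?_ (Or.inl (CfsgLib.Coprime.isSolvable_of_isMulCommutative inferInstance))).ge.trans
    (sup_le ?_ ?_)
  · rw [Nat.card_zpowers]
    exact (F.coprime_order hx (aComm_le C.haP)).1
  · rw [← aComm_eq (isOfFinOrder_of_finite x) hxM]
    exact h1
  · exact fun y hy => h2 y (mem_inf.1 hy).1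
      ((CfsgLib.Coprime.mem_centralizer_iff_conj_eq.1 (mem_inf.1 hy).2) x (mem_zpowers x))

/-- `⁅P, a, x⁆` is orthogonal to the centralizer of `x` modulo the radical. -/
theorem Flank.orth {φ : H → k} {R : Subgroup H} (K : IsComp C φ R) {x : H} (hx : x ∈ T) {m y : H}
    (hm : m ∈ aComm (aComm P a) x) (hy : y ∈ P) (hyx : ⁅x, y⁆ ∈ R) : φ ⁅m, y⁆ = 1 ∧ φ ⁅y, m⁆ = 1 := by
  have hhom := K.hφ
  have hSM : aComm (aComm P a) x ≤ aComm P a := aComm_le (F.mem_normalizer_aComm hx)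
  have hMP : aComm P a ≤ P := aComm_le C.haP
  have h1 : φ ⁅m, y⁆ = 1 := by
    let L : Subgroup H :=
      { carrier := {g | g ∈ P ∧ φ ⁅g, y⁆ = 1}
        one_mem' := ⟨one_mem P, by rw [commutatorElement_one_left, hhom.map_one]⟩
        mul_mem' := fun {g g'} hg hg' => ⟨mul_mem hg.1 hg'.1, by
          rw [C.comm_mul_left hg.1 hg'.1 hy, hhom.map_mul _ (C.comm_mem hg'.1 hy) _ (C.comm_mem hg.1 hy),
            hg'.2, hg.2, one_mul]⟩
        inv_mem' := fun {g} hg => ⟨inv_mem hg.1, by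
          have e := C.comm_mul_left hg.1 (inv_mem hg.1) hy
          rw [mul_inv_cancel, commutatorElement_one_left] at e
          have e2 := hhom.map_mul _ (C.comm_mem (inv_mem hg.1) hy) _ (C.comm_mem hg.1 hy)
          rw [← e, hhom.map_one, hg.2, mul_one] at e2
          exact e2.symm⟩ }
    suffices h : aComm (aComm P a) x ≤ L from (h hm).2
    rw [aComm, closure_le]
    rintro z ⟨τ, hτ, rfl⟩
    have hτP : τ ∈ P := hMP hτ
    have hτ' : x * τ * x⁻¹ ∈ P := (mem_normalizer_iff.1 (F.hTP hx) τ).1 hτP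
    refine ⟨mul_mem (inv_mem hτP) hτ', ?_⟩
    -- `y` is moved by an element of the radical
    set d := x⁻¹ * ⁅x, y⁆⁻¹ * x with hd
    have hdR : d ∈ R := (mem_normalizer_iff''.1 (F.mem_normalizer K hx) _).1 (inv_mem hyx)
    have ey : y = x * (d * y) * x⁻¹ := by
      rw [hd]; simp only [commutatorElement_def]; group
    have hdy : d * y ∈ P := mul_mem (K.le C hdR) hy
    have e1 : φ ⁅x * τ * x⁻¹, y⁆ = φ ⁅τ, y⁆ := by
      conv_lhs => rw [ey]
      rw [show ⁅x * τ * x⁻¹, x * (d * y) * x⁻¹⁆ = x * ⁅τ, d * y⁆ * x⁻¹ by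
          simp only [commutatorElement_def]; group,
        (F.hTc x hx _ (C.comm_mem hτP hdy)).eq, mul_inv_cancel_right, C.comm_mul_right hτP (K.le C hdR) hy,
        hhom.map_mul _ (C.comm_mem hτP (K.le C hdR)) _ (C.comm_mem hτP hy)]
      have hdR' : d ∈ Rad C K.hφ := K.hR ▸ hdR
      have e2 := hhom.map_mul _ (C.comm_mem hτP (K.le C hdR)) _ (C.comm_mem (K.le C hdR) hτP)
      rw [show ⁅τ, d⁆ * ⁅d, τ⁆ = 1 by rw [← commutatorElement_inv d τ, inv_mul_cancel], hhom.map_one,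
        hdR'.2 τ hτP, mul_one] at e2
      rw [← e2, one_mul]
    have e := C.comm_mul_left hτP (inv_mem hτP) hy
    rw [mul_inv_cancel, commutatorElement_one_left] at e
    rw [C.comm_mul_left (inv_mem hτP) hτ' hy,
      hhom.map_mul _ (C.comm_mem hτ' hy) _ (C.comm_mem (inv_mem hτP) hy), e1, mul_comm,
      ← hhom.map_mul _ (C.comm_mem (inv_mem hτP) hy) _ (C.comm_mem hτP hy), ← e, hhom.map_one]
  refine ⟨h1, ?_⟩
  have hmP : m ∈ P := hMP (hSM hm)
  have h2 := hhom.map_mul _ (C.comm_mem hmP hy) _ (C.comm_mem hy hmP)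
  rw [h1, one_mul, show ⁅m, y⁆ * ⁅y, m⁆ = 1 by rw [← commutatorElement_inv y m, inv_mul_cancel],
    hhom.map_one] at h2
  exact h2.symm

theorem Flank.mem_R_of_orth {φ : H → k} {R : Subgroup H} (K : IsComp C φ R) {x : H} (hx : x ∈ T)
    {m : H} (hm : m ∈ aComm P a) (h1 : ∀ n ∈ aComm (aComm P a) x, φ ⁅m, n⁆ = 1)
    (h2 : ∀ y ∈ aComm P a, x * y * x⁻¹ = y → φ ⁅m, y⁆ = 1) : m ∈ R := by
  have hmP : m ∈ P := aComm_le C.haP hm
  have hMP : aComm P a ≤ P := aComm_le C.haP
  let L : Subgroup H :=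
    { carrier := {p | p ∈ P ∧ φ ⁅m, p⁆ = 1}
      one_mem' := ⟨one_mem P, by rw [commutatorElement_one_right, K.hφ.map_one]⟩
      mul_mem' := fun {x y} hx hy => ⟨mul_mem hx.1 hy.1, by
        rw [C.comm_mul_right hmP hx.1 hy.1, K.hφ.map_mul _ (C.comm_mem hmP hx.1) _ (C.comm_mem hmP hy.1),
          hx.2, hy.2, one_mul]⟩
      inv_mem' := fun {x} hx => ⟨inv_mem hx.1, by
        have e := C.comm_mul_right hmP hx.1 (inv_mem hx.1)
        rw [mul_inv_cancel, commutatorElement_one_right] at e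
        have e2 := K.hφ.map_mul _ (C.comm_mem hmP hx.1) _ (C.comm_mem hmP (inv_mem hx.1))
        rw [← e, K.hφ.map_one, hx.2, one_mul] at e2
        exact e2.symm⟩ }
  rw [K.hR]
  refine ⟨hmP, fun h hh => ?_⟩
  have hL : P ≤ L := mem_of_parts C
    (F.parts hx (fun n hn => ⟨hMP (aComm_le (F.mem_normalizer_aComm hx) hn), h1 n hn⟩)
      fun y hy hyx => ⟨hMP hy, h2 y hy hyx⟩)
    fun y hy hya => ⟨hy, (TurullFix.orth C K.hφ K.hfix0 hm hy hya).1⟩
  exact (hL hh).2

/-- The pairing on `⁅P, a, x⁆` is nondegenerate modulo the radical. -/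
theorem Flank.nondeg {φ : H → k} {R : Subgroup H} (K : IsComp C φ R) {x : H} (hx : x ∈ T)
    {m : H} (hm : m ∈ aComm (aComm P a) x) (h : ∀ n ∈ aComm (aComm P a) x, φ ⁅m, n⁆ = 1) : m ∈ R :=
  F.mem_R_of_orth K hx (aComm_le (F.mem_normalizer_aComm hx) hm) h fun y hy hyx =>
    (F.orth K hx hm (aComm_le C.haP hy) (by
      rw [commutatorElement_def, hyx, mul_inv_cancel]; exact one_mem _)).1

/-- A fixed vector of the component is fixed by `x`. -/
theorem Flank.fix {φ : H → k} {R : Subgroup H} (K : IsComp C φ R) {x : H} (hx : x ∈ T)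
    (hne : ¬ aComm (aComm P a) x ≤ R) {v : W} (hv : Eig ρ R φ v) (hva : ρ a v = v) : ρ x v = v := by
  classical
  refine F.hinv x hx v ?_ hva
  have hxM := F.mem_normalizer_aComm hx
  set S := aComm (aComm P a) x
  have hSP : S ≤ P := (aComm_le hxM).trans (aComm_le C.haP)
  haveI := Fintype.ofFinite S
  refine TurullFix.le_cspan ρ (G₁ := S) (by rw [← Nat.card_eq_fintype_card]; exact C.card_ne_zero hSP)
    (U := eigSub ρ R φ) (fun g hg w hw => K.smul_invariant C hw (hSP hg)) (fun w hw hfix => ?_) hv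
  by_contra hw0
  obtain ⟨m, hm, hmR⟩ := SetLike.not_le_iff_exists.1 hne
  refine hmR (F.nondeg K hx hm fun n hn => ?_)
  have e := K.swap C hw (hSP hm) (hSP hn)
  rw [rep_mul_apply, rep_mul_apply, hfix n hn, hfix m hm, hfix n hn] at e
  exact (smul_left_injective k hw0 ((one_smul k w).trans e)).symm

theorem Flank.le_cspan_moved {φ : H → k} {Y : Subgroup H} {x : H} (hx : x ∈ T) {v : W}
    (hv : v ∈ cspan ρ (aComm (aComm P a) x)) (hv0 : v ≠ 0) (hYP : Y ≤ P)
    (haY : a ∈ normalizer (Y : Set H)) (hxY : x ∈ normalizer (Y : Set H)) (hvE : Eig ρ Y φ v)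
    (hmov : ∃ z ∈ Y, φ (a⁻¹ * z * a) ≠ φ z) : ρ x v = v := by
  classical
  set S := aComm (aComm P a) x
  have haS : a ∈ normalizer (S : Set H) := by
    have haM := Conf.mem_normalizer_aComm (T := P) C.haP
    rw [← CfsgLib.Coprime.conjBy_eq_self_iff]
    refine eq_of_le_of_card_ge ?_ (by rw [CfsgLib.Coprime.card_conjBy])
    rw [CfsgLib.Coprime.conjBy, map_le_iff_le_comap]
    refine (closure_le _).2 ?_
    rintro z ⟨τ, hτ, rfl⟩
    have := aComm_mem (a := x) ((mem_normalizer_iff.1 haM τ).1 hτ)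
    rw [show (a * τ * a⁻¹)⁻¹ * (x * (a * τ * a⁻¹) * x⁻¹) =
      (a * τ * a⁻¹)⁻¹ * ((x * a) * τ * (x * a)⁻¹) by group, (F.hTa x hx).eq,
      show (a * τ * a⁻¹)⁻¹ * (a * x * τ * (a * x)⁻¹) = a * (τ⁻¹ * (x * τ * x⁻¹)) * a⁻¹ by group] at this
    exact this
  refine moved_fix (C.card_ne_zero hYP) C.hr C.har haY haS (F.hTa x hx) (F.hinv x hx) hvE ?_ hmov hv
  -- `x` preserves the character
  have hxv : Eig ρ Y (fun z => φ (x⁻¹ * z * x)) (ρ x v) := hvE.map hxY
  have hxv0 : ρ x v ≠ 0 := fun e => hv0 (rep_injective ρ x (e.trans (map_zero _).symm))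
  by_contra hne
  have hdiff : ∃ z ∈ Y, φ z ≠ φ (x⁻¹ * z * x) := by
    by_contra hc
    push Not at hc
    refine hne fun z hz => ?_
    rw [hc z hz]
    exact hxv z hz
  have hs := F.hinv x hx _ (sum_mem fun i _ => cspan_inv ρ (pow_mem haS i) hv)
    (sum_pow_fixed C.har v)
  rw [map_sum] at hs
  have h := congrArg (proj ρ Y φ) hs
  rw [map_sum, map_sum, Finset.sum_eq_zero, Finset.sum_eq_single 0] at h
  · rw [pow_zero, map_one, Module.End.one_apply, proj_self hvE (C.card_ne_zero hYP)] at h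
    exact hv0 h.symm
  · intro i hir hi0
    exact proj_ne hvE hv0 (hvE.map (pow_mem haY i))
      (not_fixed_pow C.hr C.har haY hmov hi0 (Finset.mem_range.1 hir))
  · exact fun h' => absurd (Finset.mem_range.2 C.hr.pos) h'
  · intro i hi
    have e : Eig ρ Y (fun z => φ (x⁻¹ * ((a ^ i)⁻¹ * z * a ^ i) * x)) (ρ x (ρ (a ^ i) v)) := by
      rw [← rep_mul_apply, ((F.hTa x hx).pow_right i).eq, rep_mul_apply]
      exact hxv.map (pow_mem haY i)
    refine proj_ne hvE hv0 e ?_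
    rcases Nat.eq_zero_or_pos i with rfl | hi0
    · simpa using hdiff
    by_contra hc
    push Not at hc
    -- then a nontrivial power of `a` preserves `φ`
    set u := a ^ i * x with hu
    have huY : u ∈ normalizer (Y : Set H) := mul_mem (pow_mem haY i) hxY
    have hun : ∀ n, ∀ z ∈ Y, φ ((u ^ n)⁻¹ * z * u ^ n) = φ z := by
      intro n
      induction n with
      | zero => intro z _; simp
      | succ n ih =>
        intro z hz
        have hz1 : (u ^ n)⁻¹ * z * u ^ n ∈ Y := (mem_normalizer_iff''.1 (pow_mem huY n) z).1 hz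
        rw [show (u ^ (n + 1))⁻¹ * z * u ^ (n + 1) =
          x⁻¹ * ((a ^ i)⁻¹ * ((u ^ n)⁻¹ * z * u ^ n) * a ^ i) * x by rw [pow_succ, hu]; group,
          ← hc _ hz1, ih z hz]
    set j := i * orderOf x
    have hju : u ^ orderOf x = a ^ j := by
      rw [hu, ((F.hTa x hx).symm.pow_left i).mul_pow, pow_orderOf_eq_one, mul_one, ← pow_mul]
    have hjr : ¬ r ∣ j := fun hd => by
      rcases (Nat.Prime.dvd_mul C.hr).1 hd with hd | hd
      · exact absurd (Nat.le_of_dvd hi0 hd) (not_le.2 (Finset.mem_range.1 hi))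
      · exact C.hr.one_lt.ne' (Nat.eq_one_of_dvd_coprimes (F.coprime_order hx le_rfl).2 hd dvd_rfl)
    obtain ⟨z, hz, hzne⟩ := not_fixed_pow C.hr C.har haY hmov (i := j % r)
      (fun h0 => hjr (Nat.dvd_of_mod_eq_zero h0)) (Nat.mod_lt _ C.hr.pos)
    refine hzne ?_
    have e2 := hun (orderOf x) z hz
    rw [hju, ← Nat.mod_add_div j r, pow_add, pow_mul, C.har, one_pow, mul_one] at e2
    exact e2.symm

/-- On a moved character `⁅P, a, x⁆` is trivial. -/
theorem Flank.moved_trivial {φ : H → k} {Y : Subgroup H} {x : H} (hx : x ∈ T) (hYP : Y ≤ P)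
    (haY : a ∈ normalizer (Y : Set H)) (hxY : x ∈ normalizer (Y : Set H))
    (hmov : ∃ z ∈ Y, φ (a⁻¹ * z * a) ≠ φ z)
    (hkeep : ∀ h ∈ P, ∀ v, Eig ρ Y φ v → Eig ρ Y φ (ρ h v)) {m : H}
    (hm : m ∈ aComm (aComm P a) x) {v : W} (hv : Eig ρ Y φ v) : ρ m v = v := by
  have hxM := F.mem_normalizer_aComm hx
  set S := aComm (aComm P a) x with hS
  have hSP : S ≤ P := (aComm_le hxM).trans (aComm_le C.haP)
  have hxS : x ∈ normalizer (S : Set H) := Conf.mem_normalizer_aComm hxM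
  -- on the commutator part
  have hfix : ∀ w, Eig ρ Y φ w → w ∈ cspan ρ S → ρ x w = w := fun w hw hwc => by
    by_cases hw0 : w = 0
    · rw [hw0, map_zero]
    · exact F.le_cspan_moved hx hwc hw0 hYP haY hxY hw hmov
  have htriv : ∀ g ∈ S, ∀ w, Eig ρ Y φ w → w ∈ cspan ρ S → ρ g w = w := by
    intro g hg
    have hg' := F.idem hx hg
    induction hg' using closure_induction with
    | mem z hz =>
      obtain ⟨τ, hτ, rfl⟩ := hz
      intro w hw hwc
      have hxw := hfix w hw hwc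
      have hxiw : ρ x⁻¹ w = w := by
        conv_lhs => rw [← hxw]
        rw [← rep_mul_apply, inv_mul_cancel, map_one]; rfl
      have hτw : ρ x (ρ τ w) = ρ τ w :=
        hfix _ (hkeep τ (hSP hτ) w hw) (cspan_inv ρ (le_normalizer hτ) hwc)
      rw [rep_mul_apply, show x * τ * x⁻¹ = x * (τ * x⁻¹) by rw [mul_assoc], rep_mul_apply, rep_mul_apply,
        hxiw, hτw, ← rep_mul_apply, inv_mul_cancel, map_one]
      rfl
    | one => intro w _ _; rw [map_one]; rfl
    | mul g g' hg1 hg1' ih ih' =>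
      intro w hw hwc
      rw [rep_mul_apply, ih' (aComm_le hxS hg1') w hw hwc, ih (aComm_le hxS hg1) w hw hwc]
    | inv g hg1 ih =>
      intro w hw hwc
      conv_lhs => rw [← ih (aComm_le hxS hg1) w hw hwc]
      rw [← rep_mul_apply, inv_mul_cancel, map_one]; rfl
  -- unipotent elements of order prime to the characteristic
  set z := ρ m v - v with hz
  have hzE : Eig ρ Y φ z := (eigSub ρ Y φ).sub_mem (hkeep m (hSP hm) v hv) hv
  have hmz : ρ m z = z := htriv m hm z hzE (sub_mem_cspan ρ hm v)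
  have hn : ∀ n : ℕ, ρ (m ^ n) v = v + (n : k) • z := by
    intro n
    induction n with
    | zero => simp
    | succ n ih =>
      rw [pow_succ', rep_mul_apply, ih, map_add, map_smul, hmz, Nat.cast_succ, add_smul, one_smul,
        show ρ m v = z + v by rw [hz, sub_add_cancel]]
      abel
  have h := hn (Nat.card (zpowers m))
  rw [Nat.card_zpowers, pow_orderOf_eq_one, map_one, Module.End.one_apply, left_eq_add, smul_eq_zero] at h
  rcases h with h | h
  · refine absurd ?_ (C.card_ne_zero (Y := zpowers m) (zpowers_le.2 (hSP hm)))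
    rwa [Nat.card_zpowers]
  · exact sub_eq_zero.1 h

variable [IsAlgClosed k] [FiniteDimensional k W]

/-- A component on which `⁅P, a, x⁆` is not scalar. -/
theorem Flank.exists_comp {x : H} (hx : x ∈ T) (hne : ¬ aComm (aComm P a) x ≤ P0) :
    ∃ (φ : H → k) (R : Subgroup H), IsComp C φ R ∧ ¬ aComm (aComm P a) x ≤ R := by
  classical
  obtain ⟨m, hm, hmP0⟩ := SetLike.not_le_iff_exists.1 hne
  have hxM := F.mem_normalizer_aComm hx
  set S := aComm (aComm P a) x with hS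
  have hSP : S ≤ P := (aComm_le hxM).trans (aComm_le C.haP)
  have hmP : m ∈ P := hSP hm
  have hD : ρ m - 1 ≠ 0 := fun h => hmP0 (C.hfaith m hmP (sub_eq_zero.1 h) ▸ one_mem P0)
  obtain ⟨χ, w₀, -, hw₀, hDw₀⟩ := exists_eig (ρ := ρ) (Y := P0) (C.card_ne_zero C.hle) (U := ⊤)
    (fun _ _ _ _ => Submodule.mem_top)
    (fun u hu v hv w _ => by rw [(C.hcent u hu v (C.hle hv)).eq]) (ρ m - 1)
    (fun _ _ => Submodule.mem_top)
    (fun z hz w _ => by
      rw [LinearMap.sub_apply, LinearMap.sub_apply, Module.End.one_apply, Module.End.one_apply, map_sub,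
        ← rep_mul_apply, ← rep_mul_apply, (C.hcent z hz m hmP).eq])
    (by
      by_contra hc
      push Not at hc
      exact hD (LinearMap.ext fun w => hc w Submodule.mem_top))
  have hmw₀ : ρ m w₀ ≠ w₀ := fun h =>
    hDw₀ (by rw [LinearMap.sub_apply, Module.End.one_apply, h, sub_self])
  have hw₀0 : w₀ ≠ 0 := fun h => hmw₀ (by rw [h, map_zero])
  have hχ : HomOn P0 χ := hw₀.homOn hw₀0
  have hkeep : ∀ p ∈ P, ∀ v, Eig ρ P0 χ v → Eig ρ P0 χ (ρ p v) := fun p hp v hv z hz => by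
    rw [← rep_mul_apply, (C.hcent z hz p hp).eq, rep_mul_apply, hv z hz, map_smul]
  have hxP0 : x ∈ normalizer (P0 : Set H) := mem_normalizer_iff.2 fun z => ⟨fun h => by
    rwa [(F.hTc x hx z h).eq, mul_inv_cancel_right], fun h => by
    have e := (F.hTc x hx _ h).eq
    rw [show x * (x * z * x⁻¹) = x * (x * z * x⁻¹) * 1 by rw [mul_one]] at e
    have e2 : x * z * x⁻¹ = z := by
      have := congrArg (fun g => x⁻¹ * g) e
      simpa [mul_assoc] using this
    rwa [e2] at h⟩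
  have hfix0 : ∀ z ∈ P0, χ (a * z * a⁻¹) = χ z := by
    intro z hz
    by_contra hne'
    exact hmw₀ (F.moved_trivial hx C.hle C.haP0 hxP0 ⟨_, (mem_normalizer_iff.1 C.haP0 z).1 hz, by
      rw [show a⁻¹ * (a * z * a⁻¹) * a = z by group]; exact Ne.symm hne'⟩ hkeep hm hw₀)
  set R := Rad C hχ with hR
  have hcommR : ∀ g ∈ R, ∀ p ∈ P, ∀ v, Eig ρ P0 χ v → ρ (g * p) v = ρ (p * g) v := by
    intro g hg p hp v hv
    rw [show g * p = (p * g) * ⁅g, p⁆ by
      rw [← (C.hcent _ (C.comm_mem hg.1 hp) _ (mul_mem hp hg.1)).eq, commutatorElement_def]; group,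
      rep_mul_apply, hv _ (C.comm_mem hg.1 hp), hg.2 p hp, one_smul]
  obtain ⟨φ, w, hwU, hw, hDw⟩ := exists_eig (ρ := ρ) (Y := R) (C.card_ne_zero fun g hg => hg.1)
    (U := eigSub ρ P0 χ) (fun g hg v hv => hkeep g hg.1 v hv)
    (fun g hg g' hg' v hv => hcommR g hg g' hg'.1 v hv) (ρ m - 1)
    (fun v hv => (eigSub ρ P0 χ).sub_mem (hkeep m hmP v hv) hv)
    (fun g hg v hv => by
      rw [LinearMap.sub_apply, LinearMap.sub_apply, Module.End.one_apply, Module.End.one_apply, map_sub,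
        ← rep_mul_apply, ← rep_mul_apply, hcommR g hg m hmP v hv]) ⟨w₀, hw₀, hDw₀⟩
  have hmw : ρ m w ≠ w := fun h => hDw (by rw [LinearMap.sub_apply, Module.End.one_apply, h, sub_self])
  have hw0 : w ≠ 0 := fun h => hmw (by rw [h, map_zero])
  have hφχ : ∀ z ∈ P0, φ z = χ z := fun z hz =>
    smul_left_injective k hw0 ((hw z (P0_le_Rad C hχ hz)).symm.trans (hwU z hz))
  have hφ0 : HomOn P0 φ := (hw.homOn hw0).mono (P0_le_Rad C hχ)
  have hR' : R = Rad C hφ0 := by
    ext g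
    refine and_congr_right fun hg => forall_congr' fun h => forall_congr' fun hh => ?_
    rw [hφχ _ (C.comm_mem hg hh)]
  have hφfix0 : ∀ z ∈ P0, φ (a * z * a⁻¹) = φ z := fun z hz => by
    rw [hφχ z hz, hφχ _ ((mem_normalizer_iff.1 C.haP0 z).1 hz), hfix0 z hz]
  have hnormR : ∀ b, b ∈ normalizer (P : Set H) → (∀ z ∈ P0, χ (b * z * b⁻¹) = χ z) →
      b ∈ normalizer (R : Set H) := by
    intro b hb hbχ
    have key : ∀ g ∈ R, b * g * b⁻¹ ∈ R := fun g hg => ⟨(mem_normalizer_iff.1 hb g).1 hg.1, fun h hh => by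
      have hh' : b⁻¹ * h * b ∈ P := (mem_normalizer_iff''.1 hb h).1 hh
      rw [show ⁅b * g * b⁻¹, h⁆ = b * ⁅g, b⁻¹ * h * b⁆ * b⁻¹ by simp only [commutatorElement_def]; group,
        hbχ _ (C.comm_mem hg.1 hh')]
      exact hg.2 _ hh'⟩
    rw [← CfsgLib.Coprime.conjBy_eq_self_iff]
    refine eq_of_le_of_card_ge (fun x hx => ?_) (CfsgLib.Coprime.card_conjBy _ _).ge
    rw [CfsgLib.Coprime.mem_conjBy] at hx
    have := key _ hx
    simpa [mul_assoc] using this
  have haR := hnormR a C.haP hfix0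
  have hxR := hnormR x (F.hTP hx) fun z hz => by rw [(F.hTc x hx z hz).eq, mul_inv_cancel_right]
  have hkeepR : ∀ p ∈ P, ∀ v, Eig ρ R φ v → Eig ρ R φ (ρ p v) := fun p hp v hv g hg => by
    have hvU : Eig ρ P0 χ v := fun z hz => by rw [hv z (P0_le_Rad C hχ hz), hφχ z hz]
    rw [← rep_mul_apply, hcommR g hg p hp v hvU, rep_mul_apply, hv g hg, map_smul]
  have hφfix : ∀ z ∈ R, φ (a * z * a⁻¹) = φ z := by
    intro z hz
    by_contra hne'
    exact hmw (F.moved_trivial hx (show R ≤ P from fun g hg => hg.1) haR hxR ⟨_, (mem_normalizer_iff.1 haR z).1 hz, by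
      rw [show a⁻¹ * (a * z * a⁻¹) * a = z by group]; exact Ne.symm hne'⟩ hkeepR hm hw)
  have K : IsComp C φ R := ⟨hφ0, hR', hφfix0, hφfix, w, hw0, hw⟩
  refine ⟨φ, R, K, fun hle => hmw ?_⟩
  -- otherwise the character kills `⁅P, a, x⁆`
  have hhom := K.homOn C
  have hxS : x ∈ normalizer (S : Set H) := Conf.mem_normalizer_aComm hxM
  have hkill : ∀ g ∈ S, φ g = 1 := by
    intro g hg
    have hg' := F.idem hx hg
    induction hg' using closure_induction with
    | mem z hz =>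
      obtain ⟨τ, hτ, rfl⟩ := hz
      have hτ' : x * τ * x⁻¹ ∈ S := (mem_normalizer_iff.1 hxS τ).1 hτ
      rw [hhom.map_mul _ (inv_mem (hle hτ)) _ (hle hτ'),
        K.agree (F.hTa x hx) hxR (F.hTc x hx) (mem_inf.2 ⟨aComm_le hxM hτ, hle hτ⟩),
        hhom.map_inv_mul (hle hτ)]
    | one => exact hhom.map_one
    | mul g g' hg1 hg1' ih ih' =>
      rw [hhom.map_mul _ (hle (aComm_le hxS hg1)) _ (hle (aComm_le hxS hg1')),
        ih (aComm_le hxS hg1), ih' (aComm_le hxS hg1'), one_mul]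
    | inv g hg1 ih =>
      have := hhom.map_inv_mul (hle (aComm_le hxS hg1))
      rwa [ih (aComm_le hxS hg1), mul_one] at this
  rw [hw m (hle hm), hkill m hm, one_smul]

end Flank

end CfsgLib.PGroup.TurullFix
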