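import Cfsg.Agent.Lib.PGroup.TurullFix.Piece
import Cfsg.Agent.Lib.PGroup.TurullFix.StepAlpha

/-!
An operator fixing the fixed vectors acts on `⁅P, a⁆` modulo the radical as `1` or as `-1`.
-/

set_option autoImplicit false
set_option linter.style.haveILetI false
set_option linter.unusedSectionVars false

namespace CfsgLib.PGroup.TurullFix

open CfsgLib.PGroup
open Subgroup
open scoped commutatorElement BigOperators

universe u v w

variable {H : Type u} [Group H] [Finite H] {k : Type v} [Field k] {W : Type w} [AddCommGroup W]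
  [Module k W] {ρ : H →* Module.End k W} {a : H} {r : ℕ} {P P0 : Subgroup H} {q : ℕ}
  {C : Conf ρ a r P P0 q} {φ : H → k} {R : Subgroup H} {T : Subgroup H} {t : ℕ} (F : Flank C T t)
  (K : IsComp C φ R)
include F K

theorem Flank.aComm_le_R_of_comm {x : H} (hx : x ∈ T) {G₁ : Subgroup H}
    (hle : G₁ ≤ aComm G₁ x) (hG : G₁ ≤ P) (h : ∀ m ∈ G₁, ⁅x, m⁆ ∈ R) : G₁ ≤ R := by
  refine hle.trans ?_
  rw [aComm, closure_le]
  rintro z ⟨τ, hτ, rfl⟩
  rw [show τ⁻¹ * (x * τ * x⁻¹) = τ⁻¹ * ⁅x, τ⁆ * τ⁻¹⁻¹ by rw [commutatorElement_def]; group]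
  exact K.conj_P_mem C (inv_mem (hG hτ)) (h τ hτ)

theorem Flank.comm_subgroup {x : H} (hx : x ∈ T) :
    ∃ L : Subgroup H, ∀ m, m ∈ L ↔ m ∈ aComm P a ∧ ⁅x, m⁆ ∈ R := by
  have hMP : aComm P a ≤ P := aComm_le C.haP
  refine ⟨{ carrier := {m | m ∈ aComm P a ∧ ⁅x, m⁆ ∈ R}
            one_mem' := ⟨one_mem _, by rw [commutatorElement_one_right]; exact one_mem _⟩
            mul_mem' := fun {u v} hu hv => ⟨mul_mem hu.1 hv.1, by
              rw [commutator_mul_right]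
              exact mul_mem hu.2 (K.conj_P_mem C (hMP hu.1) hv.2)⟩
            inv_mem' := fun {u} hu => ⟨inv_mem hu.1, by
              rw [show ⁅x, u⁻¹⁆ = u⁻¹ * ⁅x, u⁆⁻¹ * u⁻¹⁻¹ by simp only [commutatorElement_def]; group]
              exact K.conj_P_mem C (hMP (inv_mem hu.1)) (inv_mem hu.2)⟩ }, fun m => Iff.rfl⟩

/-- Nontriviality on `⁅P, a⁆` modulo the radical. -/
theorem Flank.not_le_R {x : H} (hx : x ∈ T) (h : ¬ ∀ m ∈ aComm P a, ⁅x, m⁆ ∈ R) :
    ¬ aComm (aComm P a) x ≤ R := by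
  intro hle
  obtain ⟨L, hL⟩ := F.comm_subgroup K hx
  have hxM := F.mem_normalizer_aComm hx
  refine h fun m hm => ((hL m).1 (F.parts hx ?_ (fun y hy hyx => (hL y).2 ⟨hy, ?_⟩) hm)).2
  · intro s hs
    refine (hL s).2 ⟨aComm_le hxM hs, ?_⟩
    rw [commutatorElement_def]
    exact mul_mem ((mem_normalizer_iff.1 (F.mem_normalizer K hx) s).1 (hle hs)) (inv_mem (hle hs))
  · rw [commutatorElement_def, hyx, mul_inv_cancel]
    exact one_mem _

/-- An element centralizing modulo the radical centralizes the component. -/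
theorem Flank.char_trivial {x : H} (hx : x ∈ T) {m : H} (hm : m ∈ aComm P a) (h : ⁅x, m⁆ ∈ R) :
    φ ⁅x, m⁆ = 1 := by
  have hxR := F.mem_normalizer K hx
  have hxM := F.mem_normalizer_aComm hx
  have hhom := K.homOn C
  have hmem : ⁅x, m⁆ ∈ aComm P a :=
    mul_mem ((mem_normalizer_iff.1 hxM m).1 hm) (inv_mem hm)
  have hn : ∀ n, ⁅x ^ n, m⁆ ∈ aComm P a ⊓ R ∧ φ ⁅x ^ n, m⁆ = φ ⁅x, m⁆ ^ n := by
    intro n
    induction n with
    | zero =>
      rw [pow_zero, commutatorElement_one_left, pow_zero]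
      exact ⟨one_mem _, hhom.map_one⟩
    | succ n ih =>
      obtain ⟨ih1, ih2⟩ := ih
      have e : ⁅x ^ (n + 1), m⁆ = x * ⁅x ^ n, m⁆ * x⁻¹ * ⁅x, m⁆ := by
        rw [pow_succ', commutator_mul_left]
      have h1 : x * ⁅x ^ n, m⁆ * x⁻¹ ∈ R := (mem_normalizer_iff.1 hxR _).1 (mem_inf.1 ih1).2
      refine ⟨e ▸ mem_inf.2 ⟨mul_mem ((mem_normalizer_iff.1 hxM _).1 (mem_inf.1 ih1).1) hmem, mul_mem h1 h⟩, ?_⟩
      rw [e, hhom.map_mul _ h1 _ h, K.agree (F.hTa x hx) hxR (F.hTc x hx) ih1, ih2, pow_succ]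
  refine eq_one_of_pow_coprime (F.coprime_order hx (K.le C)).1 ?_ (hhom.pow_card_eq_one h)
  rw [← (hn (orderOf x)).2, pow_orderOf_eq_one, commutatorElement_one_left, hhom.map_one]

theorem Flank.conj_act {x : H} (hx : x ∈ T) {m : H} (hm : m ∈ aComm P a) (h : ⁅x, m⁆ ∈ R) {v : W}
    (hv : Eig ρ R φ v) : ρ (x * m * x⁻¹) v = ρ m v := by
  rw [show x * m * x⁻¹ = ⁅x, m⁆ * m by rw [commutatorElement_def]; group, rep_mul_apply,
    K.smul_invariant C hv (aComm_le C.haP hm) _ h, F.char_trivial K hx hm h, one_smul]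

variable [IsAlgClosed k] [FiniteDimensional k W]

/-- An irreducible stable subspace has a fixed vector unless `x` is trivial. -/
theorem Flank.exists_fixed_vec {x : H} (hx : x ∈ T) {G₁ : Subgroup H} (hG : G₁ ≤ aComm P a)
    (hxG : x ∈ normalizer (G₁ : Set H)) (haG : a ∈ normalizer (G₁ : Set H))
    (hnd : ∀ m ∈ G₁, (∀ n ∈ G₁, φ ⁅m, n⁆ = 1) → m ∈ R) {X : Submodule k W} (hX0 : X ≠ ⊥)
    (hXE : ∀ v ∈ X, Eig ρ R φ v) (hXG : ∀ m ∈ G₁, ∀ v ∈ X, ρ m v ∈ X) (hXa : ∀ v ∈ X, ρ a v ∈ X)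
    (hirr : IrredOn ρ G₁ X) (hne : ¬ ∀ m ∈ G₁, ⁅x, m⁆ ∈ R) : ∃ w ∈ X, w ≠ 0 ∧ ρ a w = w := by
  classical
  by_contra hc
  push Not at hc
  have hMP : aComm P a ≤ P := aComm_le C.haP
  haveI : Nontrivial X := Submodule.nontrivial_iff_ne_bot.2 hX0
  obtain ⟨hE, hnd', hsc⟩ := K.piece (hG.trans hMP) hX0 hXE hXG hnd
  set ρ' := CfsgLib.PGroup.subRep ρ X G₁ hXG
  haveI : Fact q.Prime := ⟨C.hq⟩
  obtain ⟨j, hj⟩ := IsPGroup.iff_card.1 (C.hP.to_le (hG.trans hMP))
  obtain ⟨i, -, hi⟩ := (Nat.dvd_prime_pow C.hq).1 (hj ▸ (scalarSub ρ').card_quotient_dvd_card)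
  obtain ⟨s, hs, hsn⟩ := exists_conjEquiv haG
  obtain ⟨τ, hτ, hτn⟩ := exists_conjEquiv hxG
  have hmem : ∀ m : G₁, m ∈ scalarSub ρ' ↔ (m : H) ∈ R := fun m => by rw [hsc, mem_subgroupOf]
  have key := exceptional_centralizer ρ' (hirr.subRep hXG) hE
    (show ((Nat.card (_ ⧸ scalarSub ρ') : ℕ) : k) ≠ 0 by rw [hi, Nat.cast_pow]; exact pow_ne_zero _ C.hqk)
    C.hr C.hrk s (fun m => Subtype.ext (by rw [hsn, C.har, one_mul, inv_one, mul_one]))
    ((ρ a).restrict hXa) (restrict_pow_eq_one hXa fun v _ => by rw [C.har, map_one]; rfl)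
    (fun m => by
      refine LinearMap.ext fun v => Subtype.ext ?_
      show ρ a (ρ (m : H) (v : W)) = ρ (s m : H) (ρ a (v : W))
      rw [hs, ← rep_mul_apply, ← rep_mul_apply, inv_mul_cancel_right])
    (fun v hv => by
      by_contra hv0
      exact hc v v.2 (fun e => hv0 (Subtype.ext e)) (congrArg Subtype.val hv))
    (fun m hm => by
      rw [hmem, Subgroup.coe_mul, Subgroup.coe_inv, hs, K.hR] at hm
      rw [hmem, K.hR]
      exact radical_fpf C K.hφ K.hfix0 (hG m.2) hm)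
    τ (fun m => Subtype.ext (by
      rw [hτ, hs, hs, hτ, show x * (a * (m : H) * a⁻¹) * x⁻¹ = (x * a) * m * (x * a)⁻¹ by group,
        (F.hTa x hx).eq]
      group))
    (fun m c hm => by
      have hmR : (m : H) ∈ R := (hmem m).1 ⟨c, hm⟩
      rw [← hm]
      refine LinearMap.ext fun v => Subtype.ext ?_
      show ρ (τ m : H) (v : W) = ρ (m : H) (v : W)
      rw [hτ, hXE v v.2 _ hmR, hXE v v.2 _ ((mem_normalizer_iff.1 (F.mem_normalizer K hx) _).1 hmR),
        K.agree (F.hTa x hx) (F.mem_normalizer K hx) (F.hTc x hx) (mem_inf.2 ⟨hG m.2, hmR⟩)])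
    (m := orderOf x) (fun hd => C.hr.one_lt.ne'
      (Nat.eq_one_of_dvd_coprimes (F.coprime_order hx le_rfl).2 hd dvd_rfl))
    (fun m => Subtype.ext (by rw [hτn, pow_orderOf_eq_one, one_mul, inv_one, mul_one]))
  refine hne fun m hm => ?_
  have h1 := key ⟨m, hm⟩
  rw [hmem, Subgroup.coe_mul, Subgroup.coe_inv, hτ] at h1
  rw [show ⁅x, m⁆ = m * (m⁻¹ * (x * m * x⁻¹)) * m⁻¹ by rw [commutatorElement_def]; group]
  exact K.conj_P_mem C (hMP (hG hm)) h1

/-- The form of the pieces used below. -/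
theorem Flank.scalar_case {x : H} (hx : x ∈ T) {G₁ : Subgroup H} (hG : G₁ ≤ aComm P a)
    (hxG : x ∈ normalizer (G₁ : Set H)) (haG : a ∈ normalizer (G₁ : Set H))
    (hnd : ∀ m ∈ G₁, (∀ n ∈ G₁, φ ⁅m, n⁆ = 1) → m ∈ R)
    (hfpf : ∀ m ∈ G₁, ⁅x, m⁆ ∈ R → m ∈ R) (hne : ¬ G₁ ≤ R)
    {X : Submodule k W} (hX0 : X ≠ ⊥) (hXE : ∀ v ∈ X, Eig ρ R φ v)
    (hXG : ∀ m ∈ G₁, ∀ v ∈ X, ρ m v ∈ X) (hXa : ∀ v ∈ X, ρ a v ∈ X) (hXx : ∀ v ∈ X, ρ x v ∈ X)
    (hirr : IrredOn ρ G₁ X) (hxt : ∀ v ∈ X, ρ (x ^ t) v = v)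
    (hrow : ∀ v ∈ X, ρ a v = v → ρ x v = v) :
    t = 2 ∧ Module.finrank k X = 2 * r - 1 ∧
      ((2 : k) = 0 → ∀ η : k, η ^ r = 1 →
        Module.finrank k (Module.End.eigenspace ((ρ a).restrict hXa) η) ≤ 2) := by
  classical
  have hMP : aComm P a ≤ P := aComm_le C.haP
  haveI : Nontrivial X := Submodule.nontrivial_iff_ne_bot.2 hX0
  haveI : NeZero r := ⟨C.hr.ne_zero⟩
  obtain ⟨hE, -, hsc⟩ := K.piece (hG.trans hMP) hX0 hXE hXG hnd
  obtain ⟨w, hw, hw0, hwa⟩ := F.exists_fixed_vec K hx hG hxG haG hnd hX0 hXE hXG hXa hirr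
    fun h => hne fun m hm => hfpf m hm (h m hm)
  set ρi := imgRep hXG
  set u : Module.End k X := (ρ a).restrict hXa
  set B : Module.End k X := (ρ x).restrict hXx
  have hur : u ^ r = 1 := restrict_pow_eq_one hXa fun v _ => by rw [C.har, map_one]; rfl
  have hBt : B ^ t = 1 := restrict_pow_eq_one hXx hxt
  obtain ⟨σ, hσ1, hσu, hσr⟩ := exists_img_operator hXG haG hXa C.hr.one_le hur
  obtain ⟨τ, hτ1, hτu, hτt⟩ := exists_img_operator hXG hxG hXx F.ht.one_le hBt
  have hmem : ∀ m : G₁, toImg hXG m ∈ scalarSub ρi ↔ (m : H) ∈ R := fun m => by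
    rw [toImg_mem_scalarSub, hsc, mem_subgroupOf]
  have hBu : u * B = B * u := LinearMap.ext fun v => Subtype.ext (by
    show ρ a (ρ x (v : W)) = ρ x (ρ a (v : W))
    rw [← rep_mul_apply, ← rep_mul_apply, (F.hTa x hx).eq])
  have hτσ : ∀ e, τ (σ e) = σ (τ e) := fun e => by
    obtain ⟨m, rfl⟩ := toImg_surjective hXG e
    rw [hσ1 m ((mem_normalizer_iff.1 haG m).1 m.2), hτ1 _ ((mem_normalizer_iff.1 hxG _).1
        ((mem_normalizer_iff.1 haG m).1 m.2)), hτ1 m ((mem_normalizer_iff.1 hxG m).1 m.2),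
      hσ1 _ ((mem_normalizer_iff.1 haG _).1 ((mem_normalizer_iff.1 hxG m).1 m.2))]
    refine congrArg _ (Subtype.ext ?_)
    show x * (a * (m : H) * a⁻¹) * x⁻¹ = a * (x * (m : H) * x⁻¹) * a⁻¹
    rw [show x * (a * (m : H) * a⁻¹) * x⁻¹ = (x * a) * m * (x * a)⁻¹ by group, (F.hTa x hx).eq]
    group
  have hσfpf : ∀ e, e⁻¹ * σ e ∈ scalarSub ρi → e ∈ scalarSub ρi := fun e => by
    obtain ⟨m, rfl⟩ := toImg_surjective hXG e
    rw [hσ1 m ((mem_normalizer_iff.1 haG m).1 m.2), ← map_inv, ← map_mul, hmem, hmem, Subgroup.coe_mul,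
      Subgroup.coe_inv, K.hR]
    exact radical_fpf C K.hφ K.hfix0 (hG m.2)
  have hτfpf : ∀ e, e⁻¹ * τ e ∈ scalarSub ρi → e ∈ scalarSub ρi := fun e => by
    obtain ⟨m, rfl⟩ := toImg_surjective hXG e
    rw [hτ1 m ((mem_normalizer_iff.1 hxG m).1 m.2), ← map_inv, ← map_mul, hmem, hmem, Subgroup.coe_mul,
      Subgroup.coe_inv]
    intro hm
    refine hfpf m m.2 ?_
    rw [show ⁅x, (m : H)⁆ = m * ((m : H)⁻¹ * (x * m * x⁻¹)) * (m : H)⁻¹ by rw [commutatorElement_def]; group]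
    exact K.conj_P_mem C (hMP (hG m.2)) hm
  have hne' : scalarSub ρi ≠ ⊤ := fun h => hne fun m hm =>
    (hmem ⟨m, hm⟩).1 (h ▸ Subgroup.mem_top _)
  have hirr' : Irred ρi := imgRep_irred hXG (hirr.subRep hXG)
  have hE' : ClassTwo ρi := imgRep_classTwo hXG hE
  have hm' := imgRep_card_ne_zero hXG C.hq C.hqk (C.hP.to_le (hG.trans hMP))
  let ζ : rootsOfUnity r k := 1
  have hζ1 : ((ζ : kˣ) : k) = 1 := rfl
  have hζ : Module.End.eigenspace u ((ζ : kˣ) : k) ≠ ⊥ := by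
    intro e
    have : (⟨w, hw⟩ : X) ∈ Module.End.eigenspace u ((ζ : kˣ) : k) :=
      Module.End.mem_eigenspace_iff.2 (by rw [hζ1, one_smul]; exact Subtype.ext hwa)
    rw [e, Submodule.mem_bot] at this
    exact hw0 (congrArg Subtype.val this)
  have hrow' : ∀ v ∈ Module.End.eigenspace u ((ζ : kˣ) : k), B v = v := fun v hv => by
    rw [Module.End.mem_eigenspace_iff, hζ1, one_smul] at hv
    exact Subtype.ext (hrow v v.2 (congrArg Subtype.val hv))
  by_cases htk : (t : k) = 0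
  · obtain ⟨h1, h2, h3⟩ := scalar_row_mod ρi hirr' hE' hm' hne' C.hr C.hrk F.ht htk σ hσr u hur hσu hσfpf
      τ B hBt hτu hBu hτt hτfpf ζ hζ hrow'
    exact ⟨h1, h2, fun _ η hη => h3 (rootsOfUnity.mkOfPowEq η hη)⟩
  · obtain ⟨h1, h2, -⟩ := scalar_row ρi hirr' hE' hm' hne' C.hr C.hrk F.ht htk F.htr σ hσr u hur hσu hσfpf
      τ hτσ B hBt hτu hBu hτt hτfpf ζ hζ 1 (fun v hv => by rw [one_smul]; exact hrow' v hv)
    refine ⟨h1, h2, fun h => absurd ?_ htk⟩
    rw [h1, Nat.cast_two]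
    exact h

/-- A square root of an inversion: a contradiction. -/
theorem Flank.no_square_root {x x₀ : H} (hx : x ∈ T) (hx0 : x₀ = x ^ 2) (ht2 : t = 2)
    (hfpf : ∀ m ∈ aComm P a, ⁅x₀, m⁆ ∈ R → m ∈ R) (hne : ¬ aComm P a ≤ R)
    {X : Submodule k W} (hX0 : X ≠ ⊥) (hXE : ∀ v ∈ X, Eig ρ R φ v)
    (hXG : ∀ m ∈ aComm P a, ∀ v ∈ X, ρ m v ∈ X) (hXa : ∀ v ∈ X, ρ a v ∈ X)
    (hXx : ∀ v ∈ X, ρ x v ∈ X) (hirr : IrredOn ρ (aComm P a) X) (hx4 : ∀ v ∈ X, ρ (x₀ ^ 2) v = v)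
    (hdim : Module.finrank k X = 2 * r - 1)
    (hrows : (2 : k) = 0 → ∀ η : k, η ^ r = 1 →
        Module.finrank k (Module.End.eigenspace ((ρ a).restrict hXa) η) ≤ 2) : False := by
  classical
  have hMP : aComm P a ≤ P := aComm_le C.haP
  have hxM := F.mem_normalizer_aComm hx
  have haM := Conf.mem_normalizer_aComm (T := P) C.haP
  haveI : Nontrivial X := Submodule.nontrivial_iff_ne_bot.2 hX0
  haveI : NeZero r := ⟨C.hr.ne_zero⟩
  obtain ⟨hE, -, hsc⟩ := K.piece hMP hX0 hXE hXG fun m hm h => by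
    rw [K.hR]
    refine ⟨hMP hm, fun p hp => ?_⟩
    let L : Subgroup H :=
      { carrier := {g | g ∈ P ∧ φ ⁅m, g⁆ = 1}
        one_mem' := ⟨one_mem P, by rw [commutatorElement_one_right, K.hφ.map_one]⟩
        mul_mem' := fun {x y} hx hy => ⟨mul_mem hx.1 hy.1, by
          rw [C.comm_mul_right (hMP hm) hx.1 hy.1, K.hφ.map_mul _ (C.comm_mem (hMP hm) hx.1) _
            (C.comm_mem (hMP hm) hy.1), hx.2, hy.2, one_mul]⟩
        inv_mem' := fun {x} hx => ⟨inv_mem hx.1, by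
          have e := C.comm_mul_right (hMP hm) hx.1 (inv_mem hx.1)
          rw [mul_inv_cancel, commutatorElement_one_right] at e
          have e2 := K.hφ.map_mul _ (C.comm_mem (hMP hm) hx.1) _ (C.comm_mem (hMP hm) (inv_mem hx.1))
          rw [← e, K.hφ.map_one, hx.2, one_mul] at e2
          exact e2.symm⟩ }
    exact (mem_of_parts C (K := L) (fun n hn => ⟨hMP hn, h n hn⟩)
      (fun y hy hya => ⟨hy, (TurullFix.orth C K.hφ K.hfix0 hm hy hya).1⟩) hp).2
  set ρi := imgRep hXG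
  set u : Module.End k X := (ρ a).restrict hXa
  set B : Module.End k X := (ρ x).restrict hXx
  have hur : u ^ r = 1 := restrict_pow_eq_one hXa fun v _ => by rw [C.har, map_one]; rfl
  have hB4 : B ^ 4 = 1 := restrict_pow_eq_one hXx fun v hv => by
    rw [show (4 : ℕ) = 2 * 2 from rfl, pow_mul, ← hx0]
    exact hx4 v hv
  have hBu : u * B = B * u := LinearMap.ext fun v => Subtype.ext (by
    show ρ a (ρ x (v : W)) = ρ x (ρ a (v : W))
    rw [← rep_mul_apply, ← rep_mul_apply, (F.hTa x hx).eq])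
  have hmem : ∀ m : aComm P a, toImg hXG m ∈ scalarSub ρi ↔ (m : H) ∈ R := fun m => by
    rw [toImg_mem_scalarSub, hsc, mem_subgroupOf]
  have hB2 : B ^ 2 ≠ 1 := by
    intro e
    refine hne fun m hm => hfpf m hm ?_
    have hm' : x₀ * m * x₀⁻¹ ∈ aComm P a :=
      (mem_normalizer_iff.1 (hx0 ▸ pow_mem hxM 2) m).1 hm
    have hfix : ∀ v ∈ X, ρ x₀ v = v := fun v hv => by
      have := congrArg (fun f : Module.End k X => (f ⟨v, hv⟩ : W)) e
      rw [restrict_pow_apply] at this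
      rw [hx0]
      exact this
    have hscal : toImg hXG (⟨m, hm⟩⁻¹ * ⟨x₀ * m * x₀⁻¹, hm'⟩) = 1 := by
      rw [map_mul, map_inv, inv_mul_eq_one]
      refine toImg_eq hXG (LinearMap.ext fun v => Subtype.ext ?_)
      show ρ m (v : W) = ρ (x₀ * m * x₀⁻¹) (v : W)
      conv_rhs => rw [← hfix v v.2, ← rep_mul_apply, inv_mul_cancel_right, rep_mul_apply,
        hfix _ (hXG m hm v v.2)]
    have h1 := (hmem _).1 (hscal ▸ one_mem (scalarSub ρi))
    rw [Subgroup.coe_mul, Subgroup.coe_inv] at h1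
    rw [show ⁅x₀, m⁆ = m * (m⁻¹ * (x₀ * m * x₀⁻¹)) * m⁻¹ by rw [commutatorElement_def]; group]
    exact K.conj_P_mem C (hMP hm) h1
  by_cases h2 : (2 : k) = 0
  · -- characteristic two: the rows have dimension at most two
    refine hB2 (LinearMap.ext fun v => ?_)
    rw [← sum_eproj hur C.hrk v, map_sum]
    refine Finset.sum_congr rfl fun η _ => ?_
    set z := eproj u r ((η : kˣ) : k) v
    have hz : z ∈ Module.End.eigenspace u ((η : kˣ) : k) := eproj_mem hur (root_pow η) v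
    have hres : ∀ y ∈ Module.End.eigenspace u ((η : kˣ) : k), B y ∈ Module.End.eigenspace u ((η : kˣ) : k) :=
      fun y hy => by
        rw [Module.End.mem_eigenspace_iff] at hy ⊢
        rw [← Module.End.mul_apply, hBu, Module.End.mul_apply, hy, map_smul]
    have hz' : ∀ n : ℕ, ∀ y : Module.End.eigenspace u ((η : kˣ) : k),
        (((B.restrict hres) ^ n) y : X) = (B ^ n) (y : X) := by
      intro n
      induction n with
      | zero => intro y; rfl
      | succ n ih => intro y; rw [pow_succ', pow_succ', Module.End.mul_apply, Module.End.mul_apply, ← ih y]; rfl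
    set N := B.restrict hres - 1 with hN
    have hsub : ∀ A : Module.End k (Module.End.eigenspace u ((η : kˣ) : k)),
        (A - 1) ^ 2 = A ^ 2 - 1 := fun A => by
      have e : (A - 1) ^ 2 = A ^ 2 - 1 + (2 : k) • (1 - A) := by
        refine LinearMap.ext fun y => ?_
        simp only [two_smul, sq, Module.End.mul_apply, LinearMap.sub_apply, LinearMap.add_apply,
          Module.End.one_apply, map_sub]
        abel
      rw [e, h2, zero_smul, add_zero]
    have hN4 : N ^ 4 = 0 := by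
      rw [hN, show (4 : ℕ) = 2 * 2 from rfl, pow_mul, hsub, hsub, ← pow_mul]
      refine LinearMap.ext fun y => Subtype.ext ?_
      rw [LinearMap.sub_apply, LinearMap.zero_apply, Submodule.coe_sub, hz',
        show 2 * 2 = 4 from rfl, hB4]
      simp
    have hker : LinearMap.ker (N ^ 4) ≤ LinearMap.ker (N ^ 2) := by
      have hd : Module.finrank k (Module.End.eigenspace u ((η : kˣ) : k)) ≤ 2 :=
        hrows h2 _ (root_pow η)
      rw [Module.End.ker_pow_eq_ker_pow_finrank_of_le (f := N) (m := 4) (by omega),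
        Module.End.ker_pow_eq_ker_pow_finrank_of_le (f := N) (m := 2) hd]
    have h3 := hker (x := ⟨z, hz⟩) (by rw [hN4]; simp)
    rw [LinearMap.mem_ker, hN, hsub, LinearMap.sub_apply, sub_eq_zero] at h3
    have h4 := congrArg Subtype.val h3
    rw [hz'] at h4
    exact h4
  · obtain ⟨σ, hσ1, hσu, hσr⟩ := exists_img_operator hXG haM hXa C.hr.one_le hur
    obtain ⟨τ, hτ1, hτu, hτ4⟩ := exists_img_operator hXG hxM hXx (n := 4) (by norm_num) hB4
    have hτσ : ∀ e, τ (σ e) = σ (τ e) := fun e => by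
      obtain ⟨m, rfl⟩ := toImg_surjective hXG e
      rw [hσ1 m ((mem_normalizer_iff.1 haM m).1 m.2), hτ1 _ ((mem_normalizer_iff.1 hxM _).1
          ((mem_normalizer_iff.1 haM m).1 m.2)), hτ1 m ((mem_normalizer_iff.1 hxM m).1 m.2),
        hσ1 _ ((mem_normalizer_iff.1 haM _).1 ((mem_normalizer_iff.1 hxM m).1 m.2))]
      refine congrArg _ (Subtype.ext ?_)
      show x * (a * (m : H) * a⁻¹) * x⁻¹ = a * (x * (m : H) * x⁻¹) * a⁻¹
      rw [show x * (a * (m : H) * a⁻¹) * x⁻¹ = (x * a) * m * (x * a)⁻¹ by group, (F.hTa x hx).eq]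
      group
    have hσfpf : ∀ e, e⁻¹ * σ e ∈ scalarSub ρi → e ∈ scalarSub ρi := fun e => by
      obtain ⟨m, rfl⟩ := toImg_surjective hXG e
      rw [hσ1 m ((mem_normalizer_iff.1 haM m).1 m.2), ← map_inv, ← map_mul, hmem, hmem, Subgroup.coe_mul,
        Subgroup.coe_inv, K.hR]
      exact radical_fpf C K.hφ K.hfix0 m.2
    have hτc := fix_scalar ρi (N := 4) (by norm_num) hB4 hτu
    have hτs : ∀ d ∈ scalarSub ρi, τ d ∈ scalarSub ρi := fun d ⟨c, hc⟩ => ⟨c, hτc d c hc⟩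
    have hfix2 : ∀ e, e⁻¹ * τ^[2] e ∈ scalarSub ρi → e ∈ scalarSub ρi := fun e => by
      obtain ⟨m, rfl⟩ := toImg_surjective hXG e
      have h1 : x * (m : H) * x⁻¹ ∈ aComm P a := (mem_normalizer_iff.1 hxM m).1 m.2
      rw [Function.iterate_succ_apply', Function.iterate_one, hτ1 m h1,
        hτ1 _ ((mem_normalizer_iff.1 hxM _).1 h1), ← map_inv, ← map_mul, hmem, hmem, Subgroup.coe_mul,
        Subgroup.coe_inv]
      intro hm
      refine hfpf m m.2 ?_
      rw [show ⁅x₀, (m : H)⁆ = m * ((m : H)⁻¹ * (x * (x * m * x⁻¹) * x⁻¹)) * (m : H)⁻¹ by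
        rw [hx0, sq, commutatorElement_def]; group]
      exact K.conj_P_mem C (hMP m.2) hm
    have hfree : ∀ j, ¬ 4 ∣ j → ∀ e, e⁻¹ * τ^[j] e ∈ scalarSub ρi → e ∈ scalarSub ρi := by
      intro j hj e he
      have hper : ∀ i y, τ^[4 * i] y = y := by
        intro i
        induction i with
        | zero => intro y; rfl
        | succ i ih => intro y; rw [Nat.mul_succ, Function.iterate_add_apply, hτ4, ih]
      refine hfix2 e ?_
      rcases Nat.even_or_odd j with ⟨l, hl⟩ | ⟨l, hl⟩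
      · have := he
        rwa [show j = 2 + 4 * (l / 2) by omega, Function.iterate_add_apply, hper] at this
      · have := iterate_fix_mul ρi hτs he 2
        rwa [show j * 2 = 2 + 4 * l by omega, Function.iterate_add_apply, hper] at this
    have h4k : ((4 : ℕ) : k) ≠ 0 := by
      rw [show (4 : ℕ) = 2 * 2 from rfl, Nat.cast_mul, Nat.cast_two]
      exact mul_ne_zero h2 h2
    have hr2 : r ≠ 2 := fun e => F.htr (ht2.trans e.symm)
    obtain ⟨-, hle⟩ := pair_le ρi (imgRep_irred hXG (hirr.subRep hXG)) (imgRep_classTwo hXG hE)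
      (imgRep_card_ne_zero hXG C.hq C.hqk (C.hP.to_le hMP)) C.hr C.hrk (m := 4) (by norm_num) h4k
      (by
        rw [show (4 : ℕ) = 2 ^ 2 from rfl]
        exact Nat.Coprime.pow_left 2 ((Nat.coprime_primes Nat.prime_two C.hr).2 hr2.symm))
      σ hσr u hur hσu hσfpf τ hτσ B hB4 hτu hBu hτ4 hfree
    haveI : NeZero (r * 4) := ⟨Nat.mul_ne_zero C.hr.ne_zero (by norm_num)⟩
    have hN : ((r * 4 : ℕ) : k) ≠ 0 := by rw [Nat.cast_mul]; exact mul_ne_zero C.hrk h4k
    have hc : (u * B) ^ (r * 4) = 1 := by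
      rw [(show Commute u B from hBu).mul_pow, pow_mul, hur, one_pow, one_mul, mul_comm r 4, pow_mul, hB4,
        one_pow]
    have h5 := finrank_le_comm hc hN
    have h6 := finrank_eigen_sum hc hN
    have h7 : Module.finrank k X ≤ Module.finrank k (comm (u * B)) := by
      rw [h6]
      exact le_trans (Finset.sum_le_sum fun η _ => Nat.le_self_pow two_ne_zero _) h5
    rw [hdim] at hle h7
    obtain ⟨r', hr'⟩ : ∃ r', r = r' + 3 := ⟨r - 3, by have := C.hr.two_le; omega⟩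
    subst hr'
    rw [show 2 * (r' + 3) - 1 = 2 * r' + 5 by omega] at hle h7
    nlinarith

/-- An invisible operator acts on `⁅P, a⁆` modulo the radical as `1` or as `-1`. -/
theorem Flank.sign {x : H} (hx : x ∈ T) :
    (∀ m ∈ aComm P a, ⁅x, m⁆ ∈ R) ∨ ∀ m ∈ aComm P a, x * m * x⁻¹ * m ∈ R := by
  classical
  refine or_iff_not_imp_left.2 fun hnt => ?_
  set M := aComm P a with hMdef
  have hMP : M ≤ P := aComm_le C.haP
  have haM : a ∈ normalizer (M : Set H) := Conf.mem_normalizer_aComm C.haP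
  haveI : Fact t.Prime := ⟨F.ht⟩
  obtain ⟨e, he⟩ := (IsPGroup.iff_orderOf.1 F.hT) ⟨x, hx⟩
  rw [orderOf_mk] at he
  let Triv : ℕ → Prop := fun n => ∀ m ∈ M, ⁅x ^ n, m⁆ ∈ R
  have hex : ∃ j, Triv (t ^ j) := ⟨e, fun m _ => by
    rw [← he, pow_orderOf_eq_one, commutatorElement_one_left]; exact one_mem _⟩
  obtain ⟨hj, hjmin⟩ : Triv (t ^ Nat.find hex) ∧ ∀ i < Nat.find hex, ¬ Triv (t ^ i) :=
    ⟨Nat.find_spec hex, fun i hi => Nat.find_min hex hi⟩
  obtain ⟨j, hjeq⟩ : ∃ j, Nat.find hex = j + 1 := by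
    refine Nat.exists_eq_succ_of_ne_zero fun h => hnt ?_
    intro m hm
    have := hj m hm
    rwa [h, pow_zero, pow_one] at this
  rw [hjeq] at hj hjmin
  set x₀ := x ^ t ^ j with hx₀
  set y := x ^ t ^ (j + 1) with hy
  have hx₀T : x₀ ∈ T := pow_mem hx _
  have hyT : y ∈ T := pow_mem hx _
  have hxy : x₀ ^ t = y := by rw [hx₀, ← pow_mul, ← pow_succ]
  have hnt0 : ¬ ∀ m ∈ M, ⁅x₀, m⁆ ∈ R := hjmin j (Nat.lt_succ_self j)
  have hS0 := F.not_le_R K hx₀T hnt0
  have hSx := F.not_le_R K hx hnt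
  -- nondegeneracy on the whole
  have hndM : ∀ m ∈ M, (∀ n ∈ M, φ ⁅m, n⁆ = 1) → m ∈ R := fun m hm h =>
    F.mem_R_of_orth K hx hm (fun n hn => h n (aComm_le (F.mem_normalizer_aComm hx) hn))
      fun y hy _ => h y hy
  obtain ⟨w₁, hw₁0, hw₁⟩ := K.hne
  have hU0 : eigSub ρ R φ ≠ ⊥ := fun h => hw₁0 ((Submodule.mem_bot k).1 (h ▸ hw₁))
  obtain ⟨X, hXU, hX0, hXM, hXa, hirr⟩ := K.exists_irredOn hMP hndM hU0 (fun v hv => hv)
    (fun m hm v hv => K.smul_invariant C hv (hMP hm)) haM (fun v hv => K.a_invariant C hv) C.hr.one_le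
    (fun v _ => by rw [C.har, map_one]; rfl)
  have hXE : ∀ v ∈ X, Eig ρ R φ v := fun v hv => hXU hv
  obtain ⟨w, hw, hw0, hwa⟩ := F.exists_fixed_vec K hx₀T le_rfl (F.mem_normalizer_aComm hx₀T) haM hndM
    hX0 hXE hXM hXa hirr hnt0
  have hxw : ρ x w = w := F.fix K hx hSx (hXE w hw) hwa
  have hpw : ∀ n, ρ (x ^ n) w = w := by
    intro n
    induction n with
    | zero => rw [pow_zero, map_one]; rfl
    | succ n ih => rw [pow_succ', rep_mul_apply, ih, hxw]
  -- `x` stabilizes `X`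
  set V := Submodule.span k {v | ∃ m ∈ M, ρ m w = v} with hV
  have hVX : V ≤ X := Submodule.span_le.2 fun v ⟨m, hm, hv⟩ => hv ▸ hXM m hm w hw
  have hVM : ∀ m ∈ M, ∀ v ∈ V, ρ m v ∈ V := by
    intro m hm v hv
    induction hv using Submodule.span_induction with
    | mem z hz =>
      obtain ⟨n, hn, rfl⟩ := hz
      exact Submodule.subset_span ⟨m * n, mul_mem hm hn, rep_mul_apply ρ m n w⟩
    | zero => rw [map_zero]; exact zero_mem _
    | add _ _ _ _ h1 h2 => rw [map_add]; exact add_mem h1 h2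
    | smul c _ _ h => rw [map_smul]; exact Submodule.smul_mem _ c h
  have hVeq : V = X := (hirr V hVX hVM).resolve_left fun h => hw0 ((Submodule.mem_bot k).1
    (h ▸ Submodule.subset_span ⟨1, one_mem M, by rw [map_one]; rfl⟩))
  have hXx : ∀ v ∈ X, ρ x v ∈ X := by
    intro v hv
    rw [← hVeq] at hv
    induction hv using Submodule.span_induction with
    | mem z hz =>
      obtain ⟨n, hn, rfl⟩ := hz
      rw [← rep_mul_apply, show x * n = x * n * x⁻¹ * x by group, rep_mul_apply, hxw]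
      exact hXM _ ((mem_normalizer_iff.1 (F.mem_normalizer_aComm hx) n).1 hn) w hw
    | zero => rw [map_zero]; exact zero_mem _
    | add _ _ _ _ h1 h2 => rw [map_add]; exact add_mem h1 h2
    | smul c _ _ h => rw [map_smul]; exact Submodule.smul_mem _ c h
  have hXx0 : ∀ v ∈ X, ρ x₀ v ∈ X := fun v hv => rep_pow_mem hXx _ hv
  -- `y` is trivial on `X`
  have hy1 : ∀ v ∈ X, ρ y v = v := by
    intro v hv
    rw [← hVeq] at hv
    induction hv using Submodule.span_induction with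
    | mem z hz =>
      obtain ⟨n, hn, rfl⟩ := hz
      rw [← rep_mul_apply, show y * n = y * n * y⁻¹ * y by group, rep_mul_apply, hy, hpw,
        F.conj_act K (hy ▸ hyT) hn (hj n hn) (hXE w hw)]
    | zero => rw [map_zero]
    | add _ _ _ _ h1 h2 => rw [map_add, h1, h2]
    | smul c _ _ h => rw [map_smul, h]
  have hxt : ∀ v ∈ X, ρ (x₀ ^ t) v = v := fun v hv => by rw [hxy]; exact hy1 v hv
  have hrow : ∀ v ∈ X, ρ a v = v → ρ x₀ v = v := fun v hv hva => F.fix K hx₀T hS0 (hXE v hv) hva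
  have haS : ∀ {m}, m ∈ M → ⁅x₀, m⁆ ∈ R → ⁅x₀, a * m * a⁻¹⁆ ∈ R := fun {m} _ h => by
    have e : ⁅x₀, a * m * a⁻¹⁆ = a * ⁅x₀, m⁆ * a⁻¹ := by
      have hc : a * x₀ * a⁻¹ = x₀ := by rw [← (F.hTa x₀ hx₀T).eq, mul_inv_cancel_right]
      conv_lhs => rw [← hc]
      simp only [commutatorElement_def]; group
    rw [e]
    exact K.conj_a_mem C h
  -- `x₀` is fixed-point-free
  have hfpf : ∀ m ∈ M, ⁅x₀, m⁆ ∈ R → m ∈ R := by
    by_contra hc
    push Not at hc
    obtain ⟨m₁, hm₁, hm₁R, hm₁n⟩ := hc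
    obtain ⟨L, hL⟩ := F.comm_subgroup K hx₀T
    have hLM : L ≤ M := fun m hm => ((hL m).1 hm).1
    have hndL : ∀ m ∈ L, (∀ n ∈ L, φ ⁅m, n⁆ = 1) → m ∈ R := fun m hm h =>
      F.mem_R_of_orth K hx₀T (hLM hm)
        (fun n hn => (F.orth K hx₀T hn (hMP (hLM hm)) ((hL m).1 hm).2).2)
        (fun y hy hyx => h y ((hL y).2 ⟨hy, by
          rw [commutatorElement_def, hyx, mul_inv_cancel]; exact one_mem _⟩))
    have haL : a ∈ normalizer (L : Set H) := by
      rw [← CfsgLib.Coprime.conjBy_eq_self_iff]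
      refine eq_of_le_of_card_ge (fun g hg => ?_) (CfsgLib.Coprime.card_conjBy _ _).ge
      rw [CfsgLib.Coprime.mem_conjBy] at hg
      have h1 := (hL _).2 ⟨(mem_normalizer_iff.1 haM _).1 ((hL _).1 hg).1,
        haS ((hL _).1 hg).1 ((hL _).1 hg).2⟩
      simpa [mul_assoc] using h1
    set Xb := X.map (ρ x₀ - 1) with hXb
    have hXbX : Xb ≤ X := by
      rintro _ ⟨v, hv, rfl⟩
      exact X.sub_mem (hXx0 v hv) hv
    have hXb0 : Xb ≠ ⊥ := by
      intro h
      refine hnt0 fun m hm => ?_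
      have hfix : ∀ v ∈ X, ρ x₀ v = v := fun v hv => by
        have hmem : (ρ x₀ - 1) v ∈ Xb := Submodule.mem_map_of_mem hv
        rw [h, Submodule.mem_bot, LinearMap.sub_apply, Module.End.one_apply, sub_eq_zero] at hmem
        exact hmem
      have hm' : x₀ * m * x₀⁻¹ ∈ M := (mem_normalizer_iff.1 (F.mem_normalizer_aComm hx₀T) m).1 hm
      obtain ⟨-, -, hsc⟩ := K.piece hMP hX0 hXE hXM hndM
      have h1 : (⟨m, hm⟩⁻¹ * ⟨x₀ * m * x₀⁻¹, hm'⟩ : M) ∈
          scalarSub (CfsgLib.PGroup.subRep ρ X M hXM) := ⟨1, by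
        rw [one_smul]
        refine LinearMap.ext fun v => Subtype.ext ?_
        show ρ (m⁻¹ * (x₀ * m * x₀⁻¹)) (v : W) = (v : W)
        conv_lhs => rw [← hfix v v.2]
        rw [← rep_mul_apply, show m⁻¹ * (x₀ * m * x₀⁻¹) * x₀ = m⁻¹ * (x₀ * m) by group, rep_mul_apply,
          rep_mul_apply, hfix _ (hXM m hm v v.2), ← rep_mul_apply, inv_mul_cancel, map_one]
        rfl⟩
      rw [hsc, mem_subgroupOf, Subgroup.coe_mul, Subgroup.coe_inv] at h1
      rw [show ⁅x₀, m⁆ = m * (m⁻¹ * (x₀ * m * x₀⁻¹)) * m⁻¹ by rw [commutatorElement_def]; group]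
      exact K.conj_P_mem C (hMP hm) h1
    have hXbL : ∀ m ∈ L, ∀ v ∈ Xb, ρ m v ∈ Xb := by
      rintro m hm _ ⟨v, hv, rfl⟩
      refine ⟨ρ m v, hXM m (hLM hm) v hv, ?_⟩
      rw [LinearMap.sub_apply, LinearMap.sub_apply, Module.End.one_apply, Module.End.one_apply, map_sub,
        ← rep_mul_apply, show x₀ * m = x₀ * m * x₀⁻¹ * x₀ by group, rep_mul_apply,
        F.conj_act K hx₀T (hLM hm) ((hL m).1 hm).2 (hXE _ (hXx0 v hv))]
    have hXba : ∀ v ∈ Xb, ρ a v ∈ Xb := by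
      rintro _ ⟨v, hv, rfl⟩
      refine ⟨ρ a v, hXa v hv, ?_⟩
      rw [LinearMap.sub_apply, LinearMap.sub_apply, Module.End.one_apply, Module.End.one_apply, map_sub,
        ← rep_mul_apply, ← rep_mul_apply, (F.hTa x₀ hx₀T).eq]
    have hXbfix : ∀ z ∈ Xb, ρ a z = z → z = 0 := by
      rintro _ ⟨v, hv, rfl⟩ hza
      set v' := (r : k)⁻¹ • ∑ i ∈ Finset.range r, ρ (a ^ i) v with hv'
      have hv'X : v' ∈ X := X.smul_mem _ (X.sum_mem fun i _ => rep_pow_mem hXa i hv)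
      have hfixv : ρ a v' = v' := by rw [hv', map_smul, sum_pow_fixed C.har]
      have h0 : (ρ x₀ - 1) v' = 0 := by
        rw [LinearMap.sub_apply, Module.End.one_apply, hrow v' hv'X hfixv, sub_self]
      have hai : ∀ i, ρ (a ^ i) ((ρ x₀ - 1) v) = (ρ x₀ - 1) v := by
        intro i
        induction i with
        | zero => rw [pow_zero, map_one]; rfl
        | succ i ih => rw [pow_succ', rep_mul_apply, ih, hza]
      rw [← h0, hv', map_smul, map_sum, Finset.sum_congr rfl (g := fun _ => (ρ x₀ - 1) v) fun i _ => by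
          conv_rhs => rw [← hai i]
          rw [LinearMap.sub_apply, LinearMap.sub_apply, Module.End.one_apply, Module.End.one_apply, map_sub,
            ← rep_mul_apply, ← rep_mul_apply, ((F.hTa x₀ hx₀T).pow_right i).eq],
        Finset.sum_const, Finset.card_range, ← Nat.cast_smul_eq_nsmul k, inv_smul_smul₀ C.hrk]
    -- so `q = 2`
    have hq2 : q = 2 := by
      haveI : Nontrivial Xb := Submodule.nontrivial_iff_ne_bot.2 hXb0
      obtain ⟨hE, hnd, hsc⟩ := K.piece (hLM.trans hMP) hXb0 (fun v hv => hXE v (hXbX hv)) hXbL hndL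
      set ρ' := CfsgLib.PGroup.subRep ρ Xb L hXbL
      haveI : Fact q.Prime := ⟨C.hq⟩
      obtain ⟨l, hl⟩ := IsPGroup.iff_card.1 (C.hP.to_le (hLM.trans hMP))
      obtain ⟨i, -, hi⟩ := (Nat.dvd_prime_pow C.hq).1 (hl ▸ (scalarSub ρ').card_quotient_dvd_card)
      obtain ⟨s, hs, hsn⟩ := exists_conjEquiv haL
      have hne' : scalarSub ρ' ≠ ⊤ := fun h => hm₁n (by
        have : (⟨m₁, (hL m₁).2 ⟨hm₁, hm₁R⟩⟩ : L) ∈ scalarSub ρ' := h ▸ Subgroup.mem_top _
        rw [hsc] at this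
        exact this)
      obtain ⟨d, hd, hrd⟩ := hh_core ρ' hE hnd
        (show ((Nat.card (_ ⧸ scalarSub ρ') : ℕ) : k) ≠ 0 by rw [hi, Nat.cast_pow]; exact pow_ne_zero _ C.hqk)
        C.hr C.hrk s (fun m => Subtype.ext (by rw [hsn, C.har, one_mul, inv_one, mul_one]))
        ((ρ a).restrict hXba) (restrict_pow_eq_one hXba fun v _ => by rw [C.har, map_one]; rfl)
        (fun m => by
          refine LinearMap.ext fun v => Subtype.ext ?_
          show ρ a (ρ (m : H) (v : W)) = ρ (s m : H) (ρ a (v : W))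
          rw [hs, ← rep_mul_apply, ← rep_mul_apply, inv_mul_cancel_right])
        (fun v hv => Subtype.ext (hXbfix v v.2 (congrArg Subtype.val hv)))
        (fun m hm => by
          rw [hsc, mem_subgroupOf, Subgroup.coe_mul, Subgroup.coe_inv, hs, K.hR] at hm
          rw [hsc, mem_subgroupOf, K.hR]
          exact radical_fpf C K.hφ K.hfix0 (hLM m.2) hm) hne'
      have hd1 : d ≠ 1 := by
        intro h
        refine hne' (Subgroup.index_eq_one.1 ?_)
        rw [Subgroup.index_eq_card]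
        exact hd.trans (by rw [h])
      rcases C.hr.eq_two_or_odd' with h2 | hodd
      · exfalso
        omega
      · have hev : Even d := by
          rw [hrd] at hodd
          exact Nat.not_odd_iff_even.1 fun ho => (Nat.not_even_iff_odd.2 hodd) ho.add_one
        have h2 : 2 ∣ q ^ i := by
          rw [← hi]
          show 2 ∣ Nat.card (ScalarQuot ρ')
          rw [hd]; exact (hev.two_dvd).mul_right d
        exact ((Nat.prime_dvd_prime_iff_eq Nat.prime_two C.hq).1 (Nat.prime_two.dvd_of_dvd_pow h2)).symm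
    -- the other part gives `t = 2`
    set S0 := aComm M x₀ with hS0def
    have hxM0 := F.mem_normalizer_aComm hx₀T
    have hS0M : S0 ≤ M := aComm_le hxM0
    have haS0 : a ∈ normalizer (S0 : Set H) := TurullFix.aComm_normalizer haM (F.hTa x₀ hx₀T).symm
    have hxS0 : x₀ ∈ normalizer (S0 : Set H) := Conf.mem_normalizer_aComm hxM0
    have hndS : ∀ m ∈ S0, (∀ n ∈ S0, φ ⁅m, n⁆ = 1) → m ∈ R := fun m hm h => F.nondeg K hx₀T hm h
    obtain ⟨Y, hYX, hY0, hYS, hYb, hirrY⟩ := K.exists_irredOn (hS0M.trans hMP) hndS hX0 hXE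
      (fun m hm v hv => hXM m (hS0M hm) v hv) (b := a * x₀) (mul_mem haS0 hxS0)
      (fun v hv => by rw [rep_mul_apply]; exact hXa _ (hXx0 v hv)) (N := r * t)
      (Nat.one_le_iff_ne_zero.2 (Nat.mul_ne_zero C.hr.ne_zero F.ht.ne_zero)) (fun v hv => by
        rw [(F.hTa x₀ hx₀T).symm.mul_pow, pow_mul, C.har, one_pow, one_mul, mul_comm r t, pow_mul, hxy]
        have : ∀ n, ρ (y ^ n) v = v := by
          intro n
          induction n with
          | zero => rw [pow_zero, map_one]; rfl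
          | succ n ih => rw [pow_succ', rep_mul_apply, ih, hy1 v hv]
        exact this r)
    have hypow : ∀ (n : ℕ), ∀ v ∈ X, ρ (y ^ n) v = v := by
      intro n v hv
      induction n with
      | zero => rw [pow_zero, map_one]; rfl
      | succ n ih => rw [pow_succ', rep_mul_apply, ih, hy1 v hv]
    have hsplit : (∀ v ∈ Y, ρ a v ∈ Y) ∧ ∀ v ∈ Y, ρ x₀ v ∈ Y := by
      obtain ⟨e₁, he₁⟩ := Nat.exists_mul_mod_eq_one_of_coprime
        ((Nat.coprime_primes F.ht C.hr).2 F.htr) C.hr.one_lt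
      obtain ⟨e₂, he₂⟩ := Nat.exists_mul_mod_eq_one_of_coprime
        ((Nat.coprime_primes C.hr F.ht).2 F.htr.symm) F.ht.one_lt
      constructor
      · intro v hv
        have h1 := rep_pow_mem hYb (t * e₁) hv
        rwa [(F.hTa x₀ hx₀T).symm.mul_pow, rep_mul_apply, pow_mul x₀, hxy, hypow _ v (hYX hv),
          ← Nat.mod_add_div (t * e₁) r, he₁.2, pow_add, pow_mul, C.har, one_pow, mul_one, pow_one] at h1
      · intro v hv
        have h1 := rep_pow_mem hYb (r * e₂) hv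
        rwa [(F.hTa x₀ hx₀T).symm.mul_pow, pow_mul a, C.har, one_pow, one_mul,
          ← Nat.mod_add_div (r * e₂) t, he₂.2, pow_add, pow_mul, hxy, pow_one, rep_mul_apply,
          hypow _ v (hYX hv)] at h1
    have hfpfS : ∀ m ∈ S0, ⁅x₀, m⁆ ∈ R → m ∈ R := fun m hm h =>
      F.nondeg K hx₀T hm fun n hn => (F.orth K hx₀T hn (hMP (hS0M hm)) h).2
    obtain ⟨ht2, -, -⟩ := F.scalar_case K hx₀T hS0M hxS0 haS0 hndS hfpfS hS0 hY0
      (fun v hv => hXE v (hYX hv)) hYS hsplit.1 hsplit.2 hirrY (fun v hv => hxt v (hYX hv))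
      (fun v hv => hrow v (hYX hv))
    exact F.htq (ht2.trans hq2.symm)
  obtain ⟨ht2, hdim, hrows⟩ := F.scalar_case K hx₀T le_rfl (F.mem_normalizer_aComm hx₀T) haM hndM hfpf
    (fun h => hnt0 fun m hm => by
      rw [commutatorElement_def]
      exact mul_mem (h ((mem_normalizer_iff.1 (F.mem_normalizer_aComm hx₀T) m).1 hm)) (inv_mem (h hm)))
    hX0 hXE hXM hXa hXx0 hirr hxt hrow
  rcases j with - | j
  · have hxx : x₀ = x := by rw [hx₀, pow_zero, pow_one]
    intro m hm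
    have hm' : x * m * x⁻¹ ∈ M := (mem_normalizer_iff.1 (F.mem_normalizer_aComm hx) m).1 hm
    refine hfpf _ (mul_mem hm' hm) ?_
    have e1 : y = x * x := by rw [hy, ht2]; simp [sq]
    have h1 := hj m hm
    rw [← hy, e1] at h1
    rw [hxx, show ⁅x, x * m * x⁻¹ * m⁆ = ⁅x * x, m⁆ * ⁅m, x * m * x⁻¹⁆ by
      simp only [commutatorElement_def]; group]
    exact mul_mem h1 (K.P0_le C (C.comm_mem (hMP hm) (hMP hm')))
  · exfalso
    have hx1T : x ^ t ^ j ∈ T := pow_mem hx _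
    refine F.no_square_root K hx1T (x₀ := x₀) ?_ ht2 hfpf ?_ hX0 hXE hXM hXa
      (fun v hv => rep_pow_mem hXx _ hv) hirr (fun v hv => by rw [← ht2]; exact hxt v hv) hdim hrows
    · rw [hx₀, ← pow_mul, ← ht2, ← pow_succ]
    · exact fun h => hnt0 fun m hm => by
        rw [commutatorElement_def]
        exact mul_mem (h ((mem_normalizer_iff.1 (F.mem_normalizer_aComm hx₀T) m).1 hm)) (inv_mem (h hm))

end CfsgLib.PGroup.TurullFix
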