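import Cfsg.Agent.Lib.PGroup.TurullFix.Sections

/-!
A tower of chief-like sections along the residual series of a solvable normal subgroup.
-/

set_option autoImplicit false
set_option linter.style.haveILetI false
set_option linter.unusedSectionVars false

namespace CfsgLib.PGroup.TurullFix

open Subgroup
open scoped commutatorElement

universe u

variable {G : Type u} [Group G] [Finite G]

/-- An irreducible elementary abelian normal section. -/
structure Step (A M : Subgroup G) (p : ℕ) : Prop where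
  hA : A.Normal
  hM : M.Normal
  hle : M ≤ A
  hne : ¬ A ≤ M
  irr : ∀ L : Subgroup G, L.Normal → M ≤ L → L ≤ A → L = M ∨ L = A
  comm : ⁅A, A⁆ ≤ M
  hp : p.Prime
  pow : ∀ x ∈ A, x ^ p ∈ M

theorem Step.exists_mem {A M : Subgroup G} {p : ℕ} (h : Step A M p) : ∃ x ∈ A, x ∉ M :=
  SetLike.not_le_iff_exists.1 h.hne

theorem Step.dvd_card {A M K : Subgroup G} {p : ℕ} (h : Step A M p) (hAK : A ≤ K) : p ∣ Nat.card K := by
  by_contra hd
  obtain ⟨x, hx, hxM⟩ := h.exists_mem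
  refine hxM ?_
  have hcop : p.Coprime (orderOf x) := by
    refine h.hp.coprime_iff_not_dvd.2 fun hd' => hd (hd'.trans ?_)
    have := orderOf_dvd_natCard (⟨x, hAK hx⟩ : K)
    rwa [orderOf_mk] at this
  have hg := Int.gcd_eq_gcd_ab (p : ℕ) (orderOf x : ℕ)
  rw [Int.gcd_natCast_natCast, hcop] at hg
  rw [← zpow_one x, show (1 : ℤ) = ((1 : ℕ) : ℤ) from rfl, hg, zpow_add, zpow_mul, zpow_mul, zpow_natCast,
    zpow_natCast, pow_orderOf_eq_one, one_zpow, mul_one]
  exact zpow_mem (h.pow x hx) _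

/-- An irreducible abelian normal section is elementary. -/
theorem exists_step {A M : Subgroup G} (hA : A.Normal) (hM : M.Normal) (hle : M ≤ A) (hne : ¬ A ≤ M)
    (irr : ∀ L : Subgroup G, L.Normal → M ≤ L → L ≤ A → L = M ∨ L = A) (hcomm : ⁅A, A⁆ ≤ M) :
    ∃ p, Step A M p := by
  obtain ⟨x, hx, hxM⟩ := SetLike.not_le_iff_exists.1 hne
  haveI := hM
  let π := QuotientGroup.mk' M
  have hπ : π x ≠ 1 := fun h => hxM ((QuotientGroup.eq_one_iff x).1 h)
  obtain ⟨p, hp, hpd⟩ := Nat.exists_prime_and_dvd (orderOf_eq_one_iff.not.2 hπ)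
  refine ⟨p, hA, hM, hle, hne, irr, hcomm, hp, ?_⟩
  have hc : ∀ {u v : G}, u ∈ A → v ∈ A → π u * π v = π v * π u := fun {u v} hu hv => by
    have := hcomm (commutator_mem_commutator hu hv)
    rw [← QuotientGroup.eq_one_iff (N := M)] at this
    exact commutatorElement_eq_one_iff_commute.1 ((map_commutatorElement π u v).symm.trans this)
  let L : Subgroup G :=
    { carrier := {z | z ∈ A ∧ π z ^ p = 1}
      one_mem' := ⟨one_mem A, by rw [map_one, one_pow]⟩
      mul_mem' := fun {u v} hu hv => ⟨mul_mem hu.1 hv.1, by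
        rw [map_mul, (show Commute (π u) (π v) from hc hu.1 hv.1).mul_pow, hu.2, hv.2, one_mul]⟩
      inv_mem' := fun {u} hu => ⟨inv_mem hu.1, by rw [map_inv, inv_pow, hu.2, inv_one]⟩ }
  have hLn : L.Normal := ⟨fun z hz g => ⟨hA.conj_mem z hz.1 g, by
    rw [map_mul, map_mul, map_inv, conj_pow, hz.2, mul_one, mul_inv_cancel]⟩⟩
  rcases irr L hLn (fun z hz => ⟨hle hz, by
      rw [show π z = 1 from (QuotientGroup.eq_one_iff z).2 hz, one_pow]⟩) (fun z hz => hz.1) with h | h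
  · exfalso
    have hn : π x ^ (orderOf (π x) / p) ≠ 1 := pow_ne_one_of_lt_orderOf
      (Nat.div_pos (Nat.le_of_dvd (orderOf_pos _) hpd) hp.pos).ne'
      (Nat.div_lt_self (orderOf_pos _) hp.one_lt)
    have hy : x ^ (orderOf (π x) / p) ∈ L := ⟨pow_mem hx _, by
      rw [map_pow, ← pow_mul, Nat.div_mul_cancel hpd, pow_orderOf_eq_one]⟩
    rw [h] at hy
    exact hn (by rw [← map_pow]; exact (QuotientGroup.eq_one_iff _).2 hy)
  · intro z hz
    rw [← h] at hz
    have := hz.2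
    rwa [← map_pow, QuotientGroup.mk'_apply, QuotientGroup.eq_one_iff] at this

theorem Step.eq_of_pgroup {A M : Subgroup G} {p q : ℕ} (h : Step A M p) (hq : q.Prime)
    (hA : ∀ x ∈ A, ∃ n, x ^ q ^ n ∈ M) : p = q := by
  by_contra hne
  obtain ⟨x, hx, hxM⟩ := h.exists_mem
  obtain ⟨n, hn⟩ := hA x hx
  refine hxM ?_
  have hg := Int.gcd_eq_gcd_ab (p : ℕ) (q ^ n : ℕ)
  rw [Int.gcd_natCast_natCast, (Nat.Coprime.pow_right n ((Nat.coprime_primes h.hp hq).2 hne) :
    p.Coprime (q ^ n))] at hg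
  rw [← zpow_one x, show (1 : ℤ) = ((1 : ℕ) : ℤ) from rfl, hg, zpow_add, zpow_mul, zpow_mul, zpow_natCast,
    zpow_natCast]
  exact mul_mem (zpow_mem (h.pow x hx) _) (zpow_mem hn _)

section Residual

variable {K : Subgroup G} [K.Normal]

theorem lcs_le_sup {R A B : Subgroup G} [B.Normal] (hAR : A ≤ R) (hfix : A ≤ ⁅A, R⁆ ⊔ B) :
    A ≤ res R ⊔ B := by
  let π := QuotientGroup.mk' B
  have h1 : A.map π ≤ ⁅A.map π, R.map π⁆ := by
    refine (map_mono hfix).trans ?_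
    rw [Subgroup.map_sup, Subgroup.map_commutator, show B.map π = ⊥ by
      rw [Subgroup.map_eq_bot_iff, QuotientGroup.ker_mk']]
    exact sup_le le_rfl bot_le
  have h2 : ∀ n, A.map π ≤ (R.map π).lowerCentralSeries n := by
    intro n
    induction n with
    | zero => exact map_mono hAR
    | succ n ih => rw [Subgroup.lowerCentralSeries_succ]; exact h1.trans (commutator_mono ih le_rfl)
  have h3 := h2 (Nat.card R)
  rw [← map_lowerCentralSeries] at h3
  intro x hx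
  obtain ⟨y, hy, hxy⟩ := Subgroup.mem_map.1 (h3 (mem_map_of_mem π hx))
  rw [QuotientGroup.mk'_apply, QuotientGroup.mk'_apply, QuotientGroup.eq] at hxy
  have := mul_mem (mem_sup_left (T := B) (show y ∈ res R from hy)) (mem_sup_right (S := res R) hxy)
  rwa [mul_inv_cancel_left] at this

/-- The top section. -/
theorem exists_top {R : Subgroup G} [R.Normal] (hsolv : Group.IsSolvable R) (hne : R ≠ ⊥) :
    ∃ M p, Step R M p ∧ res R ≤ M := by
  haveI := res_normal R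
  obtain ⟨M, -, hM⟩ := exists_maximal_ge_of_wellFoundedGT
    (fun L : Subgroup G => L.Normal ∧ res R ≤ L ∧ L < R) (res R) ⟨inferInstance, le_rfl, res_lt hsolv hne⟩
  obtain ⟨hMn, hresM, hMR⟩ := hM.prop
  haveI := hMn
  have irr : ∀ L : Subgroup G, L.Normal → M ≤ L → L ≤ R → L = M ∨ L = R := fun L hL h1 h2 => by
    by_cases h : L = R
    · exact Or.inr h
    · exact Or.inl (le_antisymm (hM.le_of_ge ⟨hL, hresM.trans h1, lt_of_le_of_ne h2 h⟩ h1) h1)
  have hne' : ¬ R ≤ M := fun h => hMR.ne (le_antisymm hMR.le h)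
  have hcomm : ⁅R, R⁆ ≤ M := by
    haveI : (⁅R, R⁆ : Subgroup G).Normal := commutator_normal R R
    rcases irr (⁅R, R⁆ ⊔ M) inferInstance le_sup_right
      (sup_le (commutator_le.2 fun x hx y hy => by
        rw [commutatorElement_def]; exact mul_mem (mul_mem (mul_mem hx hy) (inv_mem hx)) (inv_mem hy)) hMR.le)
      with h | h
    · exact le_sup_left.trans h.le
    · exact absurd ((lcs_le_sup le_rfl h.ge).trans (sup_le hresM le_rfl)) hne'
  obtain ⟨p, hp⟩ := exists_step inferInstance hMn hMR.le hne' irr hcomm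
  exact ⟨M, p, hp, hresM⟩

end Residual

/-- The properties of the lower part of a step. -/
structure Low (R1 R A M B A' M' : Subgroup G) [A'.Normal] [M'.Normal] (q q' : ℕ) : Prop where
  step : Step A M q
  hAR : A ≤ R
  hB : B.Normal
  hBM : B ≤ M
  hBA : ∀ x, x ∈ B ↔ x ∈ A ∧ x ∈ centMod A' M'
  hpg : ∀ x ∈ A, ∃ n, x ^ q ^ n ∈ B
  hcent : ⁅M, A⁆ ≤ B
  hq : q ≠ q'
  htriv : ⁅A, R⁆ ≤ M
  hop : ∀ x ∈ R1, (orderOf x).Coprime q → ∀ m ∈ M, ⁅x, m⁆ ∈ B
  hsplit : ⁅A, R⁆ ≤ B → M ≤ B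
  hnext : ¬ ⁅A, R1⁆ ≤ M
  hR0 : ∀ x ∈ R, ∀ m ∈ M, ⁅x, m⁆ ∈ B

/-- The elements of `q`-power order modulo `B`. -/
theorem exists_qpart {R B : Subgroup G} [R.Normal] [B.Normal] (hBR : B ≤ R) (hres : res R ≤ B) {q : ℕ}
    (hq : q.Prime) : ∃ X : Subgroup G, X.Normal ∧ B ≤ X ∧ X ≤ R ∧
      ∀ x, x ∈ X ↔ x ∈ R ∧ ∃ n, x ^ q ^ n ∈ B := by
  haveI : Fact q.Prime := ⟨hq⟩
  let π := QuotientGroup.mk' B
  have hnil : Group.IsNilpotent (R.map π) := by
    refine (Subgroup.isNilpotent_iff_lowerCentralSeries _).2 ⟨Nat.card R, ?_⟩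
    rw [← map_lowerCentralSeries, Subgroup.map_eq_bot_iff, QuotientGroup.ker_mk']
    exact hres
  let S : Sylow q (R.map π) := default
  haveI hS : (S : Subgroup (R.map π)).Normal :=
    (Group.isNilpotent_of_finite_tfae.out 0 3 rfl rfl).1 hnil q ⟨hq⟩ S
  haveI := Sylow.characteristic_of_normal S hS
  haveI : (R.map π).Normal := Subgroup.Normal.map inferInstance π (QuotientGroup.mk'_surjective B)
  let Xb : Subgroup (G ⧸ B) := (S : Subgroup (R.map π)).map (R.map π).subtype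
  haveI : Xb.Normal := ConjAct.normal_of_characteristic_of_normal
  have hXb : Xb ≤ R.map π := map_subtype_le _
  refine ⟨Xb.comap π, inferInstance, fun b hb => ?_, ?_, fun x => ⟨fun hx => ?_, ?_⟩⟩
  · rw [mem_comap, show π b = 1 from (QuotientGroup.eq_one_iff b).2 hb]
    exact one_mem _
  · refine (comap_mono hXb).trans ?_
    rw [comap_map_eq, QuotientGroup.ker_mk']
    exact sup_le le_rfl hBR
  · refine ⟨?_, ?_⟩
    · have := (comap_mono hXb : Xb.comap π ≤ _) hx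
      rw [comap_map_eq, QuotientGroup.ker_mk'] at this
      exact sup_le le_rfl hBR this
    · obtain ⟨y, hy, hyx⟩ := Subgroup.mem_map.1 (mem_comap.1 hx)
      obtain ⟨n, hn⟩ := S.isPGroup' ⟨y, hy⟩
      refine ⟨n, (QuotientGroup.eq_one_iff _).1 ?_⟩
      show π (x ^ q ^ n) = 1
      rw [map_pow, ← hyx, ← map_pow]
      exact congrArg (fun z : (S : Subgroup (R.map π)) => ((z : R.map π) : G ⧸ B)) hn
  · rintro ⟨hxR, n, hn⟩
    set y : R.map π := ⟨π x, mem_map_of_mem π hxR⟩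
    have hyP : IsPGroup q (zpowers y) := by
      rintro ⟨z, hz⟩
      obtain ⟨i, rfl⟩ := mem_zpowers_iff.1 hz
      refine ⟨n, Subtype.ext (Subtype.ext ?_)⟩
      show ((π x) ^ i) ^ q ^ n = 1
      rw [← zpow_natCast, ← zpow_mul, mul_comm, zpow_mul, zpow_natCast, ← map_pow,
        show π (x ^ q ^ n) = 1 from (QuotientGroup.eq_one_iff _).2 hn, one_zpow]
    obtain ⟨T, hT⟩ := hyP.exists_le_sylow
    haveI := Sylow.unique_of_normal S hS
    rw [Subsingleton.elim T S] at hT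
    exact ⟨y, hT (mem_zpowers y), rfl⟩

/-- Operators of order prime to `q` do not centralize the `q`-part of a residual term. -/
theorem qpart_moved {R1 R B X : Subgroup G} [R1.Normal] [R.Normal] [B.Normal] [X.Normal] (hBR : B ≤ R)
    (hR : ⁅R, R1⁆ = R) (hR1 : R ≤ R1) (hres : res R ≤ B) {q : ℕ} (hq : q.Prime)
    (hX : ∀ x, x ∈ X ↔ x ∈ R ∧ ∃ n, x ^ q ^ n ∈ B) (hXB : ¬ X ≤ B) :
    ∃ x ∈ R1, (orderOf x).Coprime q ∧ ∃ l ∈ X, ⁅x, l⁆ ∉ B := by
  by_contra hc
  push Not at hc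
  haveI : Fact q.Prime := ⟨hq⟩
  let π := QuotientGroup.mk' B
  set Xb := X.map π
  haveI hRb : (R.map π).Normal := Subgroup.Normal.map inferInstance π (QuotientGroup.mk'_surjective B)
  haveI hXbn : Xb.Normal := Subgroup.Normal.map inferInstance π (QuotientGroup.mk'_surjective B)
  have hXR : X ≤ R := fun x hx => ((hX x).1 hx).1
  have hXp : IsPGroup q Xb := by
    rintro ⟨_, x, hx, rfl⟩
    obtain ⟨n, hn⟩ := ((hX x).1 hx).2
    exact ⟨n, Subtype.ext (by
      show (π x) ^ q ^ n = 1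
      rw [← map_pow]; exact (QuotientGroup.eq_one_iff _).2 hn)⟩
  have hXR1 : Xb ≤ R1.map π := map_mono (hXR.trans hR1)
  obtain ⟨T₀, hT₀⟩ := (hXp.comap_of_injective (R1.map π).subtype Subtype.coe_injective).exists_le_sylow
  set T := (T₀ : Subgroup (R1.map π)).map (R1.map π).subtype
  have hTp : IsPGroup q T := T₀.isPGroup'.map _
  have hXT : Xb ≤ T := fun z hz => ⟨⟨z, hXR1 hz⟩, hT₀ hz, rfl⟩
  have hXb : Xb ≠ ⊥ := fun h => hXB fun x hx => (QuotientGroup.eq_one_iff x).1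
    (mem_bot.1 (h ▸ mem_map_of_mem π hx))
  have hlt := CfsgLib.Coprime.SquareFixed.commutator_lt_self hTp hXT
    (le_normalizer_of_normal) hXb
  -- the `q'`-part
  let Kb : Subgroup (G ⧸ B) := closure {z | z ∈ R.map π ∧ (orderOf z).Coprime q}
  haveI hKn : Kb.Normal := ⟨fun z hz g => by
    induction hz using closure_induction with
    | mem y hy => exact subset_closure ⟨hRb.conj_mem y hy.1 g, by
        rw [show g * y * g⁻¹ = MulAut.conj g y from rfl, MulEquiv.orderOf_eq]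
        exact hy.2⟩
    | one => simp
    | mul u v _ _ hu hv => rw [← conj_mul]; exact mul_mem hu hv
    | inv u _ hu => rw [← conj_inv]; exact inv_mem hu⟩
  have hR1n : (R1.map π).Normal := Subgroup.Normal.map inferInstance π (QuotientGroup.mk'_surjective B)
  have hsplit : ∀ z ∈ R.map π, ∃ u ∈ Xb, ∃ v ∈ Kb, z = u * v := by
    intro z hz
    obtain ⟨n, m, hm, hord⟩ := Nat.exists_eq_pow_mul_and_not_dvd (orderOf_pos z).ne' q hq.ne_one
    have hg := Nat.gcd_eq_gcd_ab m (q ^ n)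
    rw [((hq.coprime_iff_not_dvd.2 hm).symm.pow_right n : m.Coprime (q ^ n)), Nat.cast_one] at hg
    obtain ⟨x, hx, hxz⟩ := Subgroup.mem_map.1 hz
    refine ⟨(z ^ m) ^ Nat.gcdA m (q ^ n), zpow_mem ?_ _, (z ^ q ^ n) ^ Nat.gcdB m (q ^ n), zpow_mem
      (subset_closure (show z ^ q ^ n ∈ {z | z ∈ R.map π ∧ (orderOf z).Coprime q} from
        ⟨pow_mem hz _, ?_⟩)) _, ?_⟩
    · rw [← hxz, ← map_pow]
      refine mem_map_of_mem π ((hX _).2 ⟨pow_mem hx m, n, ?_⟩)
      rw [← pow_mul, mul_comm, ← hord, ← QuotientGroup.eq_one_iff (N := B)]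
      show π (x ^ orderOf z) = 1
      rw [map_pow, hxz, pow_orderOf_eq_one]
    · refine ((hq.coprime_iff_not_dvd.2 hm).symm).coprime_dvd_left (orderOf_dvd_of_pow_eq_one ?_)
      rw [← pow_mul, ← hord, pow_orderOf_eq_one]
    · rw [← zpow_natCast z m, ← zpow_natCast z (q ^ n), ← zpow_mul, ← zpow_mul, ← zpow_add, ← hg]
      exact (zpow_one z).symm
  -- commutators of `X` with all of `R1` land in the commutators with a Sylow subgroup
  haveI : (centralizer (Xb : Set (G ⧸ B))).Normal := inferInstance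
  have hfix : ∀ z ∈ R1.map π, (orderOf z).Coprime q → z ∈ centralizer (Xb : Set (G ⧸ B)) := by
    rintro _ ⟨x, hx, rfl⟩ hco
    rw [mem_centralizer_iff]
    rintro _ ⟨l, hl, rfl⟩
    obtain ⟨n, m, hm, hord⟩ := Nat.exists_eq_pow_mul_and_not_dvd (orderOf_pos x).ne' q hq.ne_one
    have h1 : (orderOf (x ^ q ^ n)).Coprime q := ((hq.coprime_iff_not_dvd.2 hm).symm).coprime_dvd_left
      (orderOf_dvd_of_pow_eq_one (by rw [← pow_mul, ← hord, pow_orderOf_eq_one]))
    have h2 := hc _ (pow_mem hx _) h1 l hl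
    rw [← QuotientGroup.eq_one_iff] at h2
    have h3 : Commute (π (x ^ q ^ n)) (π l) :=
      commutatorElement_eq_one_iff_commute.1 ((map_commutatorElement π _ _).symm.trans h2)
    rw [map_pow] at h3
    obtain ⟨e, he⟩ := exists_pow_eq_self_of_coprime (x := π x) (n := q ^ n) (hco.pow_right n).symm
    exact (he ▸ (h3.pow_left e)).symm.eq
  set L : Subgroup (R1.map π) := (centralizer (Xb : Set (G ⧸ B))).subgroupOf (R1.map π) with hL
  have hLtop : (T₀ : Subgroup (R1.map π)) ⊔ L = ⊤ := by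
    refine Subgroup.index_eq_one.1 ?_
    have h1 : IsPGroup q (R1.map π ⧸ L) := by
      intro v
      induction v using QuotientGroup.induction_on with | H z =>
      obtain ⟨n, m, hm, hord⟩ := Nat.exists_eq_pow_mul_and_not_dvd (orderOf_pos (z : G ⧸ B)).ne' q hq.ne_one
      refine ⟨n, ?_⟩
      rw [← QuotientGroup.mk_pow, QuotientGroup.eq_one_iff, hL, mem_subgroupOf, Subgroup.coe_pow]
      exact hfix _ (pow_mem z.2 _) ((hq.coprime_iff_not_dvd.2 hm).symm.coprime_dvd_left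
        (orderOf_dvd_of_pow_eq_one (by rw [← pow_mul, ← hord, pow_orderOf_eq_one])))
    obtain ⟨N, hN⟩ := IsPGroup.iff_card.1 h1
    rw [← Subgroup.index_eq_card] at hN
    obtain ⟨i, -, hi⟩ := (Nat.dvd_prime_pow hq).1
      (hN ▸ Subgroup.index_dvd_of_le (le_sup_right : L ≤ (T₀ : Subgroup (R1.map π)) ⊔ L))
    rcases Nat.eq_zero_or_pos i with h | h
    · rw [hi, h, pow_zero]
    · exact absurd ((show q ∣ ((T₀ : Subgroup (R1.map π)) ⊔ L).index by rw [hi]; exact dvd_pow_self q h.ne').trans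
        (Subgroup.index_dvd_of_le (le_sup_left : (T₀ : Subgroup (R1.map π)) ≤ _))) T₀.not_dvd_index
  have hcomT : ∀ y ∈ Xb, ∀ z ∈ R1.map π, ⁅y, z⁆ ∈ ⁅Xb, T⁆ := by
    intro y hy z hz
    obtain ⟨t, ht, c, hc', e⟩ := mem_sup_of_normal_right.1
      (hLtop.ge (mem_top (⟨z, hz⟩ : R1.map π)))
    have hz' : z = (t : G ⧸ B) * c := (congrArg Subtype.val e).symm
    have hcy : y * (c : G ⧸ B) = (c : G ⧸ B) * y := mem_centralizer_iff.1 (mem_subgroupOf.1 hc') y hy
    have h1 : ⁅y, (t : G ⧸ B) * c⁆ = ⁅y, (t : G ⧸ B)⁆ := by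
      simp only [commutatorElement_def]
      rw [mul_inv_rev, show y * ((t : G ⧸ B) * c) * y⁻¹ * ((c : G ⧸ B)⁻¹ * (t : G ⧸ B)⁻¹) =
        y * (t : G ⧸ B) * ((c : G ⧸ B) * y⁻¹ * (c : G ⧸ B)⁻¹) * (t : G ⧸ B)⁻¹ by group,
        show (c : G ⧸ B) * y⁻¹ * (c : G ⧸ B)⁻¹ = y⁻¹ by
          rw [mul_inv_eq_iff_eq_mul]
          exact ((Commute.inv_right (show Commute (c : G ⧸ B) y from hcy.symm)).eq)]
    rw [hz', h1]
    exact commutator_mem_commutator hy ⟨t, ht, rfl⟩
  set S := ⁅Xb, R1.map π⁆ with hS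
  have hSlt : S < Xb := lt_of_le_of_lt (commutator_le.2 hcomT) hlt
  haveI hSn : S.Normal := ⟨fun z hz g => by
    induction hz using closure_induction with
    | mem y hy =>
      obtain ⟨u, hu, v, hv, rfl⟩ := hy
      rw [show g * ⁅u, v⁆ * g⁻¹ = ⁅g * u * g⁻¹, v⁆ * (⁅g * u * g⁻¹, v⁆⁻¹ * (g * ⁅u, v⁆ * g⁻¹)) by group]
      refine mul_mem (commutator_mem_commutator (hXbn.conj_mem u hu g) hv) ?_
      rw [show g * ⁅u, v⁆ * g⁻¹ = ⁅g * u * g⁻¹, g * v * g⁻¹⁆ by simp only [commutatorElement_def]; group]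
      exact mul_mem (inv_mem (commutator_mem_commutator (hXbn.conj_mem u hu g) hv))
        (commutator_mem_commutator (hXbn.conj_mem u hu g) (hR1n.conj_mem v hv g))
    | one => simp
    | mul u v _ _ hu hv => rw [← conj_mul]; exact mul_mem hu hv
    | inv u _ hu => rw [← conj_inv]; exact inv_mem hu⟩
  have hKb : Kb ≤ R.map π := (closure_le _).2 fun z hz => hz.1
  have hRS : R.map π ≤ S ⊔ Kb := by
    conv_lhs => rw [← hR, Subgroup.map_commutator]
    rw [commutator_le]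
    intro z hz w hw
    obtain ⟨u, hu, v, hv, rfl⟩ := hsplit z hz
    rw [show ⁅u * v, w⁆ = u * ⁅v, w⁆ * u⁻¹ * ⁅u, w⁆ by simp only [commutatorElement_def]; group]
    refine mul_mem (mem_sup_right (hKn.conj_mem _ ?_ u)) (mem_sup_left (commutator_mem_commutator hu hw))
    rw [commutatorElement_def, show v * w * v⁻¹ * w⁻¹ = v * (w * v⁻¹ * w⁻¹) by group]
    exact mul_mem hv (hKn.conj_mem _ (inv_mem hv) w)
  haveI hRnil : Group.IsNilpotent (R.map π) := by
    refine (Subgroup.isNilpotent_iff_lowerCentralSeries _).2 ⟨Nat.card R, ?_⟩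
    rw [← map_lowerCentralSeries, Subgroup.map_eq_bot_iff, QuotientGroup.ker_mk']
    exact hres
  have hKq : ∀ k ∈ Kb, (orderOf k).Coprime q := by
    intro k hk
    have hle : Kb ≤ (Cfsg.piCore ({q}ᶜ : Set ℕ) (R.map π)).map (R.map π).subtype := by
      refine (closure_le _).2 fun w hw => ⟨⟨w, hw.1⟩, ?_, rfl⟩
      refine CfsgLib.Coprime.isPiNum_le_piCore_of_isSubnormal
        (CfsgLib.PGroup.isSubnormal_of_isNilpotent (zpowers (⟨w, hw.1⟩ : R.map π))) (fun p hp hd => ?_)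
        (mem_zpowers _)
      rw [Nat.card_zpowers, orderOf_mk] at hd
      exact fun e => hp.one_lt.ne' (Nat.eq_one_of_dvd_coprimes hw.2 hd (e ▸ dvd_rfl))
    obtain ⟨u, hu, rfl⟩ := hle hk
    show (orderOf ((R.map π).subtype u)).Coprime q
    rw [orderOf_injective _ (R.map π).subtype_injective]
    refine (hq.coprime_iff_not_dvd.2 fun hd => ?_).symm
    refine CfsgLib.Coprime.piCore_isPiNum (G := R.map π) ({q}ᶜ : Set ℕ) q hq ?_ rfl
    refine hd.trans ?_
    have := orderOf_dvd_natCard (⟨u, hu⟩ : Cfsg.piCore ({q}ᶜ : Set ℕ) (R.map π))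
    rwa [orderOf_mk] at this
  refine hSlt.ne (le_antisymm hSlt.le fun x hx => ?_)
  obtain ⟨s, hs, v, hv, rfl⟩ := mem_sup_of_normal_right.1 (hRS (map_mono hXR hx))
  have hv' : v ∈ Xb := by
    have := mul_mem (inv_mem (hSlt.le hs)) hx
    rwa [inv_mul_cancel_left] at this
  obtain ⟨n, hn⟩ := hXp ⟨v, hv'⟩
  have : orderOf v ∣ q ^ n := orderOf_dvd_of_pow_eq_one (congrArg Subtype.val hn)
  rw [orderOf_eq_one_iff.1 (Nat.eq_one_of_dvd_coprimes ((hKq v hv).pow_right n) dvd_rfl this), mul_one]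
  exact hs

/-- In a nilpotent group the elements of order prime to `q` generate such elements. -/
theorem coprime_of_mem_closure {H : Type u} [Group H] [Finite H] {K : Subgroup H} [Group.IsNilpotent K]
    {q : ℕ} (hq : q.Prime) {k : H} (hk : k ∈ closure {z | z ∈ K ∧ (orderOf z).Coprime q}) :
    (orderOf k).Coprime q := by
  have hle : closure {z | z ∈ K ∧ (orderOf z).Coprime q} ≤
      (Cfsg.piCore ({q}ᶜ : Set ℕ) K).map K.subtype := by
    refine (closure_le _).2 fun w hw => ⟨⟨w, hw.1⟩, ?_, rfl⟩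
    refine CfsgLib.Coprime.isPiNum_le_piCore_of_isSubnormal
      (CfsgLib.PGroup.isSubnormal_of_isNilpotent (zpowers (⟨w, hw.1⟩ : K))) (fun p hp hd => ?_)
      (mem_zpowers _)
    rw [Nat.card_zpowers, orderOf_mk] at hd
    exact fun e => hp.one_lt.ne' (Nat.eq_one_of_dvd_coprimes hw.2 hd (e ▸ dvd_rfl))
  obtain ⟨u, hu, rfl⟩ := hle hk
  show (orderOf (K.subtype u)).Coprime q
  rw [orderOf_injective _ K.subtype_injective]
  refine (hq.coprime_iff_not_dvd.2 fun hd => ?_).symm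
  refine CfsgLib.Coprime.piCore_isPiNum (G := K) ({q}ᶜ : Set ℕ) q hq ?_ rfl
  refine hd.trans ?_
  have := orderOf_dvd_natCard (⟨u, hu⟩ : Cfsg.piCore ({q}ᶜ : Set ℕ) K)
  rwa [orderOf_mk] at this

/-- An element moved by operators of coprime order has a moved commutator. -/
theorem not_fixed_comm {B : Subgroup G} [hB : B.Normal] {q : ℕ} {x l : G} (hco : (orderOf x).Coprime q)
    {n : ℕ} (hn : ⁅x, l⁆ ^ q ^ n ∈ B) (hfix : ⁅x, ⁅x, l⁆⁆ ∈ B) : ⁅x, l⁆ ∈ B := by
  set z := ⁅x, l⁆ with hz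
  have hiter : ∀ i : ℕ, ⁅x ^ i, l⁆ * (z ^ i)⁻¹ ∈ B := by
    intro i
    induction i with
    | zero => simp
    | succ i ih =>
      have hzi : ∀ i : ℕ, ⁅x, z ^ i⁆ ∈ B := by
        intro i
        induction i with
        | zero => simp
        | succ i ih =>
          rw [pow_succ, show ⁅x, z ^ i * z⁆ = ⁅x, z ^ i⁆ * (z ^ i * ⁅x, z⁆ * (z ^ i)⁻¹) by
            simp only [commutatorElement_def]; group]
          exact mul_mem ih (hB.conj_mem _ hfix _)
      have h1 := mul_mem (hB.conj_mem _ ih x) (hzi i)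
      rw [show ⁅x ^ (i + 1), l⁆ = x * ⁅x ^ i, l⁆ * x⁻¹ * z by
          rw [hz, pow_succ']; simp only [commutatorElement_def]; group,
        show x * ⁅x ^ i, l⁆ * x⁻¹ * z * (z ^ (i + 1))⁻¹ =
          (x * (⁅x ^ i, l⁆ * (z ^ i)⁻¹) * x⁻¹) * ⁅x, z ^ i⁆ by
            rw [pow_succ']; simp only [commutatorElement_def]; group]
      exact h1
  have hlast := hiter (orderOf x)
  rw [pow_orderOf_eq_one, commutatorElement_one_left, one_mul] at hlast
  have h4 := Nat.gcd_eq_gcd_ab (orderOf x) (q ^ n)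
  rw [(hco.pow_right n : (orderOf x).Coprime (q ^ n)), Nat.cast_one] at h4
  rw [← zpow_one z, h4, zpow_add, zpow_mul, zpow_mul, zpow_natCast, zpow_natCast]
  exact mul_mem (zpow_mem (inv_mem_iff.1 hlast) _) (zpow_mem hn _)

/-- A prime seen in a residual quotient of `R` acting nontrivially on a section. -/
theorem exists_qsection {R A' M' : Subgroup G} [R.Normal] {q' : ℕ} (h' : Step A' M' q') :
    haveI := h'.hA; haveI := h'.hM
    res R ≤ centMod A' M' → ¬ R ≤ centMod A' M' → ∃ B X : Subgroup G, ∃ q : ℕ,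
      B.Normal ∧ X.Normal ∧ q.Prime ∧ q ≠ q' ∧ B ≤ X ∧ X ≤ R ∧ ¬ X ≤ B ∧
      (∀ x, x ∈ B ↔ x ∈ R ∧ x ∈ centMod A' M') ∧ res R ≤ B ∧ ∀ x, x ∈ X ↔ x ∈ R ∧ ∃ n, x ^ q ^ n ∈ B := by
  intro hres hmv
  haveI := h'.hA
  haveI := h'.hM
  set B := R ⊓ centMod A' M' with hBdef
  obtain ⟨x, hx, hxB⟩ : ∃ x ∈ R, x ∉ B := by
    obtain ⟨x, hx, hxc⟩ := SetLike.not_le_iff_exists.1 hmv
    exact ⟨x, hx, fun h => hxc (mem_inf.1 h).2⟩
  let π := QuotientGroup.mk' B
  have hπ : π x ≠ 1 := fun h => hxB ((QuotientGroup.eq_one_iff x).1 h)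
  obtain ⟨q, hq, hqd⟩ := Nat.exists_prime_and_dvd (orderOf_eq_one_iff.not.2 hπ)
  have hresB : res R ≤ B := le_inf (res_le R) hres
  obtain ⟨X, hXn, hBX, hXR, hX⟩ := exists_qpart (B := B) inf_le_left hresB hq
  haveI := hXn
  have hXB : ¬ X ≤ B := by
    intro h
    have hn : π x ^ (orderOf (π x) / q) ≠ 1 := pow_ne_one_of_lt_orderOf
      (Nat.div_pos (Nat.le_of_dvd (orderOf_pos _) hqd) hq.pos).ne'
      (Nat.div_lt_self (orderOf_pos _) hq.one_lt)
    have hpw : (x ^ (orderOf (π x) / q)) ^ q ^ 1 ∈ B := by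
      rw [pow_one, ← pow_mul, Nat.div_mul_cancel hqd, ← QuotientGroup.eq_one_iff (N := B)]
      exact (map_pow π x _).trans (pow_orderOf_eq_one _)
    have hmem : x ^ (orderOf (π x) / q) ∈ B := h ((hX _).2 ⟨pow_mem hx _, 1, hpw⟩)
    exact hn ((map_pow π x _).symm.trans ((QuotientGroup.eq_one_iff _).2 hmem))
  refine ⟨B, X, q, inferInstance, hXn, hq, ?_, hBX, hXR, hXB, fun y => mem_inf, hresB, hX⟩
  rintro rfl
  haveI : Fact q.Prime := ⟨hq⟩
  obtain ⟨w, hw, hwM, hwX⟩ := exists_fixed_of_pgroup A' M' (p := q)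
    (fun a ha => ⟨1, by rw [pow_one]; exact h'.pow a ha⟩) h'.hne (S := X) fun y hy => by
      obtain ⟨n, hn⟩ := ((hX y).1 hy).2
      exact ⟨n, (mem_inf.1 hn).2⟩
  let L : Subgroup G :=
    { carrier := {w | w ∈ A' ∧ ∀ y ∈ X, ⁅y, w⁆ ∈ M'}
      one_mem' := ⟨one_mem A', fun y _ => by rw [commutatorElement_one_right]; exact one_mem M'⟩
      mul_mem' := fun {u v} hu hv => ⟨mul_mem hu.1 hv.1, fun y hy => by
        rw [show ⁅y, u * v⁆ = ⁅y, u⁆ * (u * ⁅y, v⁆ * u⁻¹) by simp only [commutatorElement_def]; group]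
        exact mul_mem (hu.2 y hy) (h'.hM.conj_mem _ (hv.2 y hy) u)⟩
      inv_mem' := fun {u} hu => ⟨inv_mem hu.1, fun y hy => by
        rw [show ⁅y, u⁻¹⁆ = u⁻¹ * ⁅y, u⁆⁻¹ * u⁻¹⁻¹ by simp only [commutatorElement_def]; group]
        exact h'.hM.conj_mem _ (inv_mem (hu.2 y hy)) _⟩ }
  have hLn : L.Normal := ⟨fun u hu g => ⟨h'.hA.conj_mem u hu.1 g, fun y hy => by
    rw [show ⁅y, g * u * g⁻¹⁆ = g * ⁅g⁻¹ * y * g, u⁆ * g⁻¹ by simp only [commutatorElement_def]; group]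
    exact h'.hM.conj_mem _ (hu.2 _ (by simpa using hXn.conj_mem y hy g⁻¹)) g⟩⟩
  rcases h'.irr L hLn (fun u hu => ⟨h'.hle hu, fun y _ => by
      rw [commutatorElement_def]; exact mul_mem (h'.hM.conj_mem u hu y) (inv_mem hu)⟩) (fun u hu => hu.1)
    with h | h
  · exact hwM (h.le (⟨hw, hwX⟩ : w ∈ L))
  · exact hXB fun y hy => mem_inf.2 ⟨hXR hy, fun u hu => (h.ge hu : u ∈ L).2 y hy⟩

/-- One step down the tower. -/
theorem exists_low {R1 R A' M' : Subgroup G} [R1.Normal] [R.Normal] (hR : R = res R1) {q' : ℕ}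
    (h' : Step A' M' q') :
    haveI := h'.hA; haveI := h'.hM
    res R ≤ centMod A' M' → ¬ R ≤ centMod A' M' →
      ∃ (A M B : Subgroup G) (q : ℕ), Low R1 R A M B A' M' q q' := by
  intro hres hmv
  haveI := h'.hA
  haveI := h'.hM
  obtain ⟨B, X, q, hBn, hXn, hq, hne, hBX, hXR, hXB, hB, hresB, hX⟩ := exists_qsection h' hres hmv
  haveI := hBn
  haveI := hXn
  have hR1 : R ≤ R1 := hR ▸ res_le R1
  obtain ⟨x₀, hx₀, hco₀, l₀, hl₀, hl₀B⟩ := qpart_moved (fun y hy => ((hB y).1 hy).1)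
    (by rw [hR]; exact commutator_res R1) hR1 hresB hq hX hXB
  obtain ⟨A, hAX, hAmin⟩ := exists_minimal_le_of_wellFoundedLT (fun L : Subgroup G => L.Normal ∧ B ≤ L ∧
    L ≤ X ∧ ∃ x ∈ R1, (orderOf x).Coprime q ∧ ∃ l ∈ L, ⁅x, l⁆ ∉ B) X
    ⟨hXn, hBX, le_rfl, x₀, hx₀, hco₀, l₀, hl₀, hl₀B⟩
  obtain ⟨hAn, hBA, -, x₁, hx₁, hco₁, l₁, hl₁, hl₁B⟩ := hAmin.prop
  haveI := hAn
  have hAR : A ≤ R := hAX.trans hXR
  let Cz : Subgroup G :=
    { carrier := {m | ∀ x ∈ R1, (orderOf x).Coprime q → ⁅x, m⁆ ∈ B}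
      one_mem' := fun x _ _ => by rw [commutatorElement_one_right]; exact one_mem B
      mul_mem' := fun {u v} hu hv x hx hc => by
        rw [show ⁅x, u * v⁆ = ⁅x, u⁆ * (u * ⁅x, v⁆ * u⁻¹) by simp only [commutatorElement_def]; group]
        exact mul_mem (hu x hx hc) (hBn.conj_mem _ (hv x hx hc) u)
      inv_mem' := fun {u} hu x hx hc => by
        rw [show ⁅x, u⁻¹⁆ = u⁻¹ * ⁅x, u⁆⁻¹ * u⁻¹⁻¹ by simp only [commutatorElement_def]; group]
        exact hBn.conj_mem _ (inv_mem (hu x hx hc)) _ }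
  haveI hCzn : Cz.Normal := ⟨fun m hm g x hx hc => by
    rw [show ⁅x, g * m * g⁻¹⁆ = g * ⁅g⁻¹ * x * g, m⁆ * g⁻¹ by simp only [commutatorElement_def]; group]
    refine hBn.conj_mem _ (hm _ (by simpa using ‹R1.Normal›.conj_mem x hx g⁻¹) ?_) g
    rw [show g⁻¹ * x * g = MulAut.conj g⁻¹ x by simp, MulEquiv.orderOf_eq]
    exact hc⟩
  have hmin : ∀ L : Subgroup G, L.Normal → B ≤ L → L ≤ A → L = A ∨ L ≤ Cz := by
    intro L hL hBL hLA
    refine or_iff_not_imp_right.2 fun hnot => le_antisymm hLA (hAmin.le_of_le ⟨hL, hBL, hLA.trans hAX, ?_⟩ hLA)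
    obtain ⟨l, hl, hlC⟩ := SetLike.not_le_iff_exists.1 hnot
    by_contra hc
    push Not at hc
    exact hlC fun x hx hco => hc x hx hco l hl
  have hq1 : ∀ x ∈ A, ∃ n, x ^ q ^ n ∈ B := fun x hx => ((hX x).1 (hAX hx)).2
  -- some commutator lies outside the centralized part
  have hout : ∀ L : Subgroup G, L ≤ A ⊓ Cz → ⁅x₁, l₁⁆ ∈ L → False := by
    intro L hL h
    obtain ⟨n, hn⟩ := hq1 _ (mem_inf.1 (hL h)).1
    exact hl₁B (not_fixed_comm hco₁ hn ((mem_inf.1 (hL h)).2 x₁ hx₁ hco₁))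
  set M := A ⊓ Cz with hM
  have hBM : B ≤ M := le_inf hBA fun b hb x _ _ => by
    rw [commutatorElement_def]; exact mul_mem (hBn.conj_mem b hb x) (inv_mem hb)
  have hAM : ¬ A ≤ M := fun h => hl₁B ((mem_inf.1 (h hl₁)).2 x₁ hx₁ hco₁)
  have hAB : ¬ A ≤ B := fun h => hAM (h.trans hBM)
  have irr : ∀ L : Subgroup G, L.Normal → M ≤ L → L ≤ A → L = M ∨ L = A := fun L hL h1 h2 => by
    rcases hmin L hL (hBM.trans h1) h2 with h | h
    · exact Or.inr h
    · exact Or.inl (le_antisymm (le_inf h2 h) h1)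
  have hprop : ∀ Y : Subgroup G, Y.Normal → A ≤ Y → Y ≤ R → ⁅A, Y⁆ ≤ M := by
    intro Y hY hAY hYR
    haveI := hY
    haveI : (⁅A, Y⁆ : Subgroup G).Normal := commutator_normal A Y
    rcases hmin (⁅A, Y⁆ ⊔ B) inferInstance le_sup_right
      (sup_le (commutator_le_left A Y) hBA) with h | h
    · exact absurd ((lcs_le_sup hAY h.ge).trans (sup_le ((res_mono hYR).trans hresB) le_rfl)) hAB
    · exact le_inf (commutator_le_left A Y) (le_sup_left.trans h)
  obtain ⟨q0, hstep⟩ := exists_step hAn (inferInstance : M.Normal) inf_le_left hAM irr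
    (hprop A hAn le_rfl hAR)
  have hq0 : q0 = q := hstep.eq_of_pgroup hq fun x hx => (hq1 x hx).imp fun n hn => hBM hn
  rw [hq0] at hstep
  let O : Subgroup G := closure {x | x ∈ R1 ∧ (orderOf x).Coprime q}
  haveI hOn : O.Normal := ⟨fun z hz g => by
    induction hz using closure_induction with
    | mem y hy => exact subset_closure ⟨‹R1.Normal›.conj_mem y hy.1 g, by
        rw [show g * y * g⁻¹ = MulAut.conj g y from rfl, MulEquiv.orderOf_eq]; exact hy.2⟩
    | one => simp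
    | mul u v _ _ hu hv => rw [← conj_mul]; exact mul_mem hu hv
    | inv u _ hu => rw [← conj_inv]; exact inv_mem hu⟩
  haveI : Fact q.Prime := ⟨hq⟩
  have hRO : R ≤ O := by
    let π := QuotientGroup.mk' O
    have hP : IsPGroup q (R1.map π) := by
      rintro ⟨_, x, hx, rfl⟩
      obtain ⟨n, m, hm, hord⟩ := Nat.exists_eq_pow_mul_and_not_dvd (orderOf_pos x).ne' q hq.ne_one
      refine ⟨n, Subtype.ext ?_⟩
      show π x ^ q ^ n = 1
      rw [← map_pow]
      exact (QuotientGroup.eq_one_iff _).2 (subset_closure ⟨pow_mem hx _,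
        (hq.coprime_iff_not_dvd.2 hm).symm.coprime_dvd_left
          (orderOf_dvd_of_pow_eq_one (by rw [← pow_mul, ← hord, pow_orderOf_eq_one]))⟩)
    obtain ⟨n, hn⟩ := (Subgroup.isNilpotent_iff_lowerCentralSeries _).1 hP.isNilpotent
    rw [← map_lowerCentralSeries, Subgroup.map_eq_bot_iff, QuotientGroup.ker_mk'] at hn
    rw [hR]
    exact res_le_of R1 hn
  have hMO : ∀ o ∈ O, ∀ m ∈ M, ⁅o, m⁆ ∈ B := by
    intro o ho
    induction ho using closure_induction with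
    | mem y hy => exact fun m hm => (mem_inf.1 hm).2 y hy.1 hy.2
    | one => intro m _; rw [commutatorElement_one_left]; exact one_mem B
    | mul u v _ _ hu hv =>
      intro m hm
      rw [show ⁅u * v, m⁆ = u * ⁅v, m⁆ * u⁻¹ * ⁅u, m⁆ by simp only [commutatorElement_def]; group]
      exact mul_mem (hBn.conj_mem _ (hv m hm) u) (hu m hm)
    | inv u _ hu =>
      intro m hm
      rw [show ⁅u⁻¹, m⁆ = u⁻¹ * ⁅u, m⁆⁻¹ * u⁻¹⁻¹ by simp only [commutatorElement_def]; group]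
      exact hBn.conj_mem _ (inv_mem (hu m hm)) _
  refine ⟨A, M, B, q, ⟨hstep, hAR, hBn, hBM, fun x => ⟨fun h => ⟨hBA h, ((hB x).1 h).2⟩,
    fun h => (hB x).2 ⟨hAR h.1, h.2⟩⟩, hq1, ?_, hne, hprop R inferInstance hAR le_rfl,
    fun x hx hc m hm => (mem_inf.1 hm).2 x hx hc, ?_, ?_, fun x hx m hm => hMO x (hRO hx) m hm⟩⟩
  · rw [commutator_comm, commutator_le]
    exact fun a ha m hm => hMO a (hRO (hAR ha)) m hm
  · intro hsplit
    haveI : (⁅A, O⁆ : Subgroup G).Normal := commutator_normal A O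
    have hAO : A ≤ ⁅A, O⁆ ⊔ B := by
      rcases hmin (⁅A, O⁆ ⊔ B) inferInstance le_sup_right (sup_le (commutator_le_left A O) hBA) with h | h
      · exact h.ge
      · exfalso
        refine hout M le_rfl (mem_inf.2 ⟨?_, h (mem_sup_left ?_)⟩)
        · rw [commutatorElement_def]
          exact mul_mem (hAn.conj_mem l₁ hl₁ x₁) (inv_mem hl₁)
        · rw [← commutatorElement_inv]
          exact inv_mem (commutator_mem_commutator hl₁ (subset_closure ⟨hx₁, hco₁⟩))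
    have hAA : ⁅A, A⁆ ≤ B := (commutator_mono le_rfl hAR).trans hsplit
    let V := Sect A B
    letI : CommGroup V := { (inferInstance : Group V) with mul_comm := sect_comm A B hAA }
    let θ : O →* MulAut V := (act A B).comp O.subtype
    haveI : Fintype θ.range := Fintype.ofFinite _
    have hcop : (Nat.card θ.range).Coprime q := by
      refine (hq.coprime_iff_not_dvd.2 fun hd => ?_).symm
      obtain ⟨⟨_, o, rfl⟩, hord⟩ := exists_prime_orderOf_dvd_card' q hd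
      -- a power of `o` of exponent prime to `q` lies in `R`
      let π := QuotientGroup.mk' R
      haveI : Group.IsNilpotent (R1.map π) := by
        refine (Subgroup.isNilpotent_iff_lowerCentralSeries _).2 ⟨Nat.card R1, ?_⟩
        rw [← map_lowerCentralSeries, Subgroup.map_eq_bot_iff, QuotientGroup.ker_mk', hR]
        exact le_rfl
      have ho : π o ∈ closure {z | z ∈ R1.map π ∧ (orderOf z).Coprime q} := by
        have h1 : π o ∈ O.map π := mem_map_of_mem π o.2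
        rw [MonoidHom.map_closure] at h1
        refine closure_mono ?_ h1
        rintro _ ⟨y, ⟨hy, hyc⟩, rfl⟩
        exact ⟨mem_map_of_mem π hy, hyc.coprime_dvd_left (orderOf_map_dvd π y)⟩
      have hm := coprime_of_mem_closure hq ho
      have hmR : (o : G) ^ orderOf (π o) ∈ centMod A B := by
        refine (le_centMod_iff.2 ?_) ((QuotientGroup.eq_one_iff _).1
          ((map_pow π (o : G) _).trans (pow_orderOf_eq_one _)))
        rw [commutator_comm]; exact hsplit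
      have h2 : (θ o) ^ orderOf (π o) = 1 := by
        show (act A B (o : G)) ^ _ = 1
        rw [← map_pow, act_eq_one_iff]
        exact hmR
      have h3 : (⟨θ o, o, rfl⟩ : θ.range) ^ orderOf (π o) = 1 := Subtype.ext h2
      exact hq.one_lt.ne' (Nat.eq_one_of_dvd_coprimes hm (hord ▸ orderOf_dvd_of_pow_eq_one h3) dvd_rfl)
    let Nv : V →* V :=
      { toFun := fun v => ∏ g : θ.range, (g : MulAut V) v
        map_one' := Finset.prod_eq_one fun g _ => map_one _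
        map_mul' := fun u v => by simp only [map_mul, Finset.prod_mul_distrib] }
    have hinv : ∀ (o : O) (v : V), Nv (θ o v) = Nv v := fun o v =>
      Fintype.prod_bijective (fun g : θ.range => g * ⟨θ o, o, rfl⟩) (Group.mulRight_bijective _) _ _
        fun g => rfl
    have hker : ∀ a, ∀ ha : a ∈ A, Nv (QuotientGroup.mk ⟨a, ha⟩) = 1 := by
      intro a ha
      suffices hle : ⁅A, O⁆ ⊔ B ≤ ((Nv.comp (QuotientGroup.mk' (B.subgroupOf A))).ker).map A.subtype by
        obtain ⟨⟨a', ha'⟩, hk, rfl⟩ := hle (hAO ha)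
        exact hk
      refine sup_le ((commutator_le).2 fun u hu o ho => ?_) fun b hb => ?_
      · refine ⟨⟨⁅u, o⁆, commutator_le_left A O (commutator_mem_commutator hu ho)⟩, ?_, rfl⟩
        rw [SetLike.mem_coe, MonoidHom.mem_ker]
        have hu' : o * u⁻¹ * o⁻¹ ∈ A := hAn.conj_mem _ (inv_mem hu) o
        show Nv (QuotientGroup.mk _) = 1
        rw [show (⟨⁅u, o⁆, _⟩ : A) = ⟨u, hu⟩ * ⟨o * u⁻¹ * o⁻¹, hu'⟩ from
            Subtype.ext (by show ⁅u, o⁆ = u * (o * u⁻¹ * o⁻¹); rw [commutatorElement_def]; group),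
          QuotientGroup.mk_mul, map_mul]
        have e : (QuotientGroup.mk (⟨o * u⁻¹ * o⁻¹, hu'⟩ : A) : V) =
            θ ⟨o, ho⟩ (QuotientGroup.mk (⟨u, hu⟩⁻¹ : A)) := by
          show _ = act A B o _
          rw [act_mk]
          exact congrArg QuotientGroup.mk (Subtype.ext (by rw [MulAut.conjNormal_apply]; rfl))
        rw [e, hinv, ← map_mul, ← QuotientGroup.mk_mul, mul_inv_cancel]
        exact map_one Nv
      · refine ⟨⟨b, hBA hb⟩, ?_, rfl⟩
        rw [SetLike.mem_coe, MonoidHom.mem_ker]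
        show Nv (QuotientGroup.mk _) = 1
        rw [(QuotientGroup.eq_one_iff _).2 (mem_subgroupOf.2 (show ((⟨b, hBA hb⟩ : A) : G) ∈ B from hb))]
        exact map_one Nv
    intro m hm
    have hmA : m ∈ A := (mem_inf.1 hm).1
    have hNm : Nv (QuotientGroup.mk ⟨m, hmA⟩) = (QuotientGroup.mk ⟨m, hmA⟩ : V) ^ Nat.card θ.range := by
      show ∏ g : θ.range, (g : MulAut V) _ = _
      rw [Finset.prod_congr rfl (g := fun _ => (QuotientGroup.mk ⟨m, hmA⟩ : V)) fun g _ => ?_,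
        Finset.prod_const, Finset.card_univ, Nat.card_eq_fintype_card]
      obtain ⟨o, ho⟩ := g.2
      rw [← ho]
      exact (act_eq_iff A B (o : G) ⟨m, hmA⟩).2 (hMO o o.2 m hm)
    rw [hker, ← QuotientGroup.mk_pow, eq_comm, QuotientGroup.eq_one_iff, mem_subgroupOf,
      Subgroup.coe_pow] at hNm
    obtain ⟨n, hn⟩ := hq1 m hmA
    have h4 := Nat.gcd_eq_gcd_ab (Nat.card θ.range) (q ^ n)
    rw [(hcop.pow_right n : (Nat.card θ.range).Coprime (q ^ n)), Nat.cast_one] at h4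
    rw [← zpow_one m, h4, zpow_add, zpow_mul, zpow_mul, zpow_natCast, zpow_natCast]
    exact mul_mem (zpow_mem hNm _) (zpow_mem hn _)
  · intro h
    refine hout M le_rfl (h ?_)
    rw [← commutatorElement_inv]
    exact inv_mem (commutator_mem_commutator hl₁ hx₁)

/-- The lowest step of the tower. -/
theorem exists_bottom {R A' M' : Subgroup G} [R.Normal] {q' : ℕ} (h' : Step A' M' q') :
    haveI := h'.hA; haveI := h'.hM
    res R ≤ centMod A' M' → ¬ R ≤ centMod A' M' → ∃ (A B : Subgroup G) (q : ℕ),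
      Step A B q ∧ A ≤ R ∧ q ≠ q' ∧ ∀ x, x ∈ B ↔ x ∈ A ∧ x ∈ centMod A' M' := by
  intro hres hmv
  haveI := h'.hA
  haveI := h'.hM
  obtain ⟨B, X, q, hBn, hXn, hq, hne, hBX, hXR, hXB, hB, hresB, hX⟩ := exists_qsection h' hres hmv
  haveI := hBn
  haveI := hXn
  obtain ⟨A, hAX, hAmin⟩ := exists_minimal_le_of_wellFoundedLT
    (fun L : Subgroup G => L.Normal ∧ B ≤ L ∧ L ≤ X ∧ ¬ L ≤ B) X ⟨hXn, hBX, le_rfl, hXB⟩
  obtain ⟨hAn, hBA, -, hAB⟩ := hAmin.prop
  haveI := hAn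
  have irr : ∀ L : Subgroup G, L.Normal → B ≤ L → L ≤ A → L = B ∨ L = A := fun L hL h1 h2 => by
    by_cases h : L ≤ B
    · exact Or.inl (le_antisymm h h1)
    · exact Or.inr (le_antisymm h2 (hAmin.le_of_le ⟨hL, h1, h2.trans hAX, h⟩ h2))
  have hcomm : ⁅A, A⁆ ≤ B := by
    haveI : (⁅A, A⁆ : Subgroup G).Normal := commutator_normal A A
    rcases irr (⁅A, A⁆ ⊔ B) inferInstance le_sup_right (sup_le (commutator_le_left A A) hBA) with h | h
    · exact le_sup_left.trans h.le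
    · exact absurd ((lcs_le_sup le_rfl h.ge).trans
        (sup_le ((res_mono (hAX.trans hXR)).trans hresB) le_rfl)) hAB
  obtain ⟨q0, hstep⟩ := exists_step hAn hBn hBA hAB irr hcomm
  have hq0 : q0 = q := hstep.eq_of_pgroup hq fun x hx => ((hX x).1 (hAX hx)).2
  rw [hq0] at hstep
  exact ⟨A, B, q, hstep, hAX.trans hXR, hne, fun x => ⟨fun h => ⟨hBA h, ((hB x).1 h).2⟩,
    fun h => (hB x).2 ⟨hXR (hAX h.1), h.2⟩⟩⟩

/-- A tower of sections of height `N`. -/
structure Tower (K : Subgroup G) (N : ℕ) where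
  A : ℕ → Subgroup G
  M : ℕ → Subgroup G
  B : ℕ → Subgroup G
  p : ℕ → ℕ
  An : ∀ j, (A j).Normal
  Mn : ∀ j, (M j).Normal
  Bn : ∀ j, (B j).Normal
  step : ∀ j ≤ N, Step (A j) (M j) (p j)
  le_rser : ∀ j ≤ N, A j ≤ rser K j
  triv : ∀ j, 1 ≤ j → j ≤ N → ⁅A j, rser K j⁆ ≤ M j
  B_le : ∀ j < N, B j ≤ M j
  mem_B : ∀ j < N, ∀ x, x ∈ B j ↔ x ∈ A j ∧
    (haveI := An (j + 1); haveI := Mn (j + 1); x ∈ centMod (A (j + 1)) (M (j + 1)))
  pgroup : ∀ j < N, ∀ x ∈ A j, ∃ n, x ^ p j ^ n ∈ B j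
  cent : ∀ j < N, ⁅M j, A j⁆ ≤ B j
  p_ne : ∀ j < N, p j ≠ p (j + 1)
  op : ∀ j, 1 ≤ j → j < N → ∀ x ∈ rser K (j - 1), (orderOf x).Coprime (p j) → ∀ m ∈ M j, ⁅x, m⁆ ∈ B j
  split : ∀ j, 1 ≤ j → j < N → ⁅A j, rser K j⁆ ≤ B j → M j ≤ B j
  central : ∀ j, 1 ≤ j → j < N → ∀ x ∈ rser K j, ∀ m ∈ M j, ⁅x, m⁆ ∈ B j
  bottom : 0 < N → M 0 = B 0

theorem exists_tower {K : Subgroup G} [K.Normal] (hK : Group.IsSolvable K) {N : ℕ} (hN : 1 ≤ N)
    (hne : rser K N ≠ ⊥) : Nonempty (Tower K N) := by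
  classical
  have hKn : ∀ j, (rser K j).Normal := rser_normal K
  let Spec : ℕ → (ℕ → Subgroup G × Subgroup G × Subgroup G × ℕ) → Prop := fun j0 F =>
    (Step (F N).1 (F N).2.1 (F N).2.2.2 ∧ (F N).1 ≤ rser K N ∧ ⁅(F N).1, rser K N⁆ ≤ (F N).2.1) ∧
      (∀ j, j0 ≤ j → j < N → ∃ (_ : (F (j + 1)).1.Normal) (_ : (F (j + 1)).2.1.Normal),
        Low (rser K (j - 1)) (rser K j) (F j).1 (F j).2.1 (F j).2.2.1 (F (j + 1)).1 (F (j + 1)).2.1
          (F j).2.2.2 (F (j + 1)).2.2.2) ∧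
      Step (F j0).1 (F j0).2.1 (F j0).2.2.2 ∧ ⁅(F j0).1, rser K j0⁆ ≤ (F j0).2.1 ∧
      ¬ ⁅(F j0).1, rser K (j0 - 1)⁆ ≤ (F j0).2.1
  have key : ∀ d, d < N → ∃ F, Spec (N - d) F := by
    intro d
    induction d with
    | zero =>
      intro _
      haveI := hKn N
      obtain ⟨M, p, hstep, hresM⟩ := exists_top (R := rser K N)
        (CfsgLib.Coprime.isSolvable_of_le (rser_le K N) hK) hne
      obtain ⟨N', rfl⟩ : ∃ N', N = N' + 1 := ⟨N - 1, by omega⟩
      refine ⟨fun _ => (rser K (N' + 1), M, ⊥, p), ⟨hstep, le_rfl, hstep.comm⟩,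
        fun j h1 h2 => absurd h2 (by omega), hstep, hstep.comm, ?_⟩
      show ¬ ⁅rser K (N' + 1), rser K N'⁆ ≤ M
      rw [rser_succ, commutator_res]
      exact hstep.hne
    | succ d ih =>
      intro hd
      obtain ⟨F, htop, hlow, hst, htriv, hmv⟩ := ih (by omega)
      obtain ⟨i, hi⟩ : ∃ i, N - (d + 1) = i + 1 := ⟨N - (d + 1) - 1, by omega⟩
      have hNd : N - d = i + 2 := by omega
      rw [hNd] at hst htriv hmv hlow
      haveI := hKn i
      haveI := hKn (i + 1)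
      haveI := hst.hA
      haveI := hst.hM
      obtain ⟨A, M, B, q, hL⟩ := exists_low (R1 := rser K i) (R := rser K (i + 1)) (rser_succ K i) hst
        (by
          rw [← rser_succ K (i + 1), le_centMod_iff, commutator_comm]
          exact htriv)
        (by
          rw [le_centMod_iff, commutator_comm]
          exact hmv)
      refine ⟨Function.update F (i + 1) (A, M, B, q), ?_⟩
      rw [hi]
      have hu : ∀ j, j ≠ i + 1 → Function.update F (i + 1) (A, M, B, q) j = F j := fun j hj =>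
        Function.update_of_ne hj _ _
      refine ⟨?_, ?_, ?_, ?_, ?_⟩
      · rw [hu N (by omega)]; exact htop
      · intro j h1 h2
        rw [hu (j + 1) (by omega)]
        rcases eq_or_lt_of_le h1 with rfl | hlt
        · rw [Function.update_self]
          exact ⟨hst.hA, hst.hM, hL⟩
        · rw [hu j (by omega)]
          exact hlow j (by omega) h2
      · rw [Function.update_self]; exact hL.step
      · rw [Function.update_self]; exact hL.htriv
      · rw [Function.update_self]; exact hL.hnext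
  obtain ⟨F, htop, hlow0, hst, htriv, hmv⟩ := key (N - 1) (by omega)
  rw [show N - (N - 1) = 1 by omega] at hst htriv hmv hlow0
  have hlow : ∀ j, 1 ≤ j → j < N →
      Step (F j).1 (F j).2.1 (F j).2.2.2 ∧ (F j).1 ≤ rser K j ∧ (F j).2.2.1.Normal ∧
        (F j).2.2.1 ≤ (F j).2.1 ∧
        (∀ x, x ∈ (F j).2.2.1 ↔ x ∈ (F j).1 ∧ ∀ w ∈ (F (j + 1)).1, ⁅x, w⁆ ∈ (F (j + 1)).2.1) ∧
        (∀ x ∈ (F j).1, ∃ n, x ^ (F j).2.2.2 ^ n ∈ (F j).2.2.1) ∧
        ⁅(F j).2.1, (F j).1⁆ ≤ (F j).2.2.1 ∧ (F j).2.2.2 ≠ (F (j + 1)).2.2.2 ∧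
        ⁅(F j).1, rser K j⁆ ≤ (F j).2.1 ∧
        (∀ x ∈ rser K (j - 1), (orderOf x).Coprime (F j).2.2.2 → ∀ m ∈ (F j).2.1, ⁅x, m⁆ ∈ (F j).2.2.1) ∧
        (⁅(F j).1, rser K j⁆ ≤ (F j).2.2.1 → (F j).2.1 ≤ (F j).2.2.1) ∧
        (∀ x ∈ rser K j, ∀ m ∈ (F j).2.1, ⁅x, m⁆ ∈ (F j).2.2.1) := fun j h1 h2 => by
    obtain ⟨h3, h4, hL⟩ := hlow0 j h1 h2
    exact ⟨hL.step, hL.hAR, hL.hB, hL.hBM, hL.hBA, hL.hpg, hL.hcent, hL.hq, hL.htriv, hL.hop, hL.hsplit, hL.hR0⟩
  haveI := hst.hA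
  haveI := hst.hM
  haveI := hKn 0
  obtain ⟨A0, B0, q0, hstep0, hle0, hne0, hB0⟩ := exists_bottom (R := rser K 0) hst
    (by rw [← rser_succ K 0, le_centMod_iff, commutator_comm]; exact htriv)
    (by rw [le_centMod_iff, commutator_comm]; exact hmv)
  -- patch the bottom and everything above the top
  let F' : ℕ → Subgroup G × Subgroup G × Subgroup G × ℕ := fun j =>
    if j = 0 then (A0, B0, B0, q0) else if j < N then F j else
      if j = N then ((F N).1, (F N).2.1, ⊥, (F N).2.2.2) else (⊥, ⊥, ⊥, 0)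
  have hF0 : F' 0 = (A0, B0, B0, q0) := if_pos rfl
  have hFlt : ∀ j, j ≠ 0 → j < N → F' j = F j := fun j h1 h2 => by
    simp only [F', if_neg h1, if_pos h2]
  have hFN : F' N = ((F N).1, (F N).2.1, ⊥, (F N).2.2.2) := by
    simp only [F', if_neg (show N ≠ 0 by omega), lt_irrefl, if_false, if_true]
  have hF1 : ∀ j, j ≠ 0 → j ≤ N → (F' j).1 = (F j).1 ∧ (F' j).2.1 = (F j).2.1 ∧ (F' j).2.2.2 = (F j).2.2.2 :=
    fun j h1 h2 => by
      rcases eq_or_lt_of_le h2 with rfl | h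
      · rw [hFN]; exact ⟨rfl, rfl, rfl⟩
      · rw [hFlt j h1 h]; exact ⟨rfl, rfl, rfl⟩
  have hstep : ∀ j ≤ N, Step (F' j).1 (F' j).2.1 (F' j).2.2.2 := by
    intro j hj
    rcases Nat.eq_zero_or_pos j with rfl | h
    · rw [hF0]; exact hstep0
    obtain ⟨e1, e2, e3⟩ := hF1 j h.ne' hj
    rw [e1, e2, e3]
    rcases eq_or_lt_of_le hj with rfl | hlt
    · exact htop.1
    · exact (hlow j h hlt).1
  have hout : ∀ j, ¬ j ≤ N → F' j = (⊥, ⊥, ⊥, 0) := fun j hj => by
    simp only [F', if_neg (show j ≠ 0 by omega), if_neg (show ¬ j < N by omega), if_neg (show j ≠ N by omega)]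
  have hnA : ∀ j, (F' j).1.Normal ∧ (F' j).2.1.Normal ∧ (F' j).2.2.1.Normal := by
    intro j
    by_cases hj : j ≤ N
    · refine ⟨(hstep j hj).hA, (hstep j hj).hM, ?_⟩
      rcases Nat.eq_zero_or_pos j with rfl | h
      · rw [hF0]; exact hstep0.hM
      rcases eq_or_lt_of_le hj with rfl | hlt
      · rw [hFN]; exact inferInstanceAs (⊥ : Subgroup G).Normal
      · rw [hFlt j h.ne' hlt]; exact (hlow j h hlt).2.2.1
    · rw [hout j hj]
      exact ⟨inferInstanceAs (⊥ : Subgroup G).Normal, inferInstanceAs (⊥ : Subgroup G).Normal,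
        inferInstanceAs (⊥ : Subgroup G).Normal⟩
  refine ⟨{ A := fun j => (F' j).1
            M := fun j => (F' j).2.1
            B := fun j => (F' j).2.2.1
            p := fun j => (F' j).2.2.2
            An := fun j => (hnA j).1
            Mn := fun j => (hnA j).2.1
            Bn := fun j => (hnA j).2.2
            step := hstep
            le_rser := ?_, triv := ?_, B_le := ?_, mem_B := ?_, pgroup := ?_, cent := ?_, p_ne := ?_,
            op := ?_, split := ?_, central := ?_, bottom := fun _ => by rw [hF0] }⟩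
  · intro j hj
    rcases Nat.eq_zero_or_pos j with rfl | h
    · rw [hF0]; exact hle0
    rw [(hF1 j h.ne' hj).1]
    rcases eq_or_lt_of_le hj with rfl | hlt
    · exact htop.2.1
    · exact (hlow j h hlt).2.1
  · intro j h hj
    rw [(hF1 j (by omega) hj).1, (hF1 j (by omega) hj).2.1]
    rcases eq_or_lt_of_le hj with rfl | hlt
    · exact htop.2.2
    · exact (hlow j h hlt).2.2.2.2.2.2.2.2.1
  · intro j hj
    rcases Nat.eq_zero_or_pos j with rfl | h
    · rw [hF0]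
    · rw [hFlt j h.ne' hj]; exact (hlow j h hj).2.2.2.1
  · intro j hj x
    obtain ⟨e1, e2, -⟩ := hF1 (j + 1) (Nat.succ_ne_zero j) hj
    haveI := (hnA (j + 1)).1
    haveI := (hnA (j + 1)).2.1
    simp only [mem_centMod, e1, e2]
    rcases Nat.eq_zero_or_pos j with rfl | h
    · rw [hF0]; exact hB0 x
    · rw [hFlt j h.ne' hj]
      exact (hlow j h hj).2.2.2.2.1 x
  · intro j hj x hx
    rcases Nat.eq_zero_or_pos j with rfl | h
    · rw [hF0] at hx ⊢
      exact ⟨1, by rw [pow_one]; exact hstep0.pow x hx⟩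
    · rw [hFlt j h.ne' hj] at hx ⊢
      exact (hlow j h hj).2.2.2.2.2.1 x hx
  · intro j hj
    rcases Nat.eq_zero_or_pos j with rfl | h
    · rw [hF0]
      haveI := hstep0.hM
      exact commutator_le_left _ _
    · rw [hFlt j h.ne' hj]; exact (hlow j h hj).2.2.2.2.2.2.1
  · intro j hj
    rw [(hF1 (j + 1) (Nat.succ_ne_zero j) hj).2.2]
    rcases Nat.eq_zero_or_pos j with rfl | h
    · rw [hF0]; exact hne0
    · rw [hFlt j h.ne' hj]; exact (hlow j h hj).2.2.2.2.2.2.2.1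
  · intro j h hj
    rw [hFlt j (by omega) hj]
    exact (hlow j h hj).2.2.2.2.2.2.2.2.2.1
  · intro j h hj
    rw [hFlt j (by omega) hj]
    exact (hlow j h hj).2.2.2.2.2.2.2.2.2.2.1
  · intro j h hj
    rw [hFlt j (by omega) hj]
    exact (hlow j h hj).2.2.2.2.2.2.2.2.2.2.2

end CfsgLib.PGroup.TurullFix
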